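import Cfsg.Agent.Mrg.Omega.OM.SwapV.Q.Def
import Cfsg.Agent.Mrg.Omega.OM.SWQ.CaseFour


/-!
# (Om) over an abstract `V`, all `q i = 4`, `T` normalises all `Z i`

* `Cor.map` : transport of coordinates along an isomorphism of fields; `exists_cor` : one field of order `4`;
* `Four` : the situation; `Four.exists_u`, `Four.thr`, `Four.oneF`;
* **`caseFour`**.
-/

set_option autoImplicit false
set_option linter.unusedSectionVars false

namespace Cfsg.Agent.Omega.OM.SwapV.Q

open Subgroup Cfsg Cfsg.Agent.ZN.ChoiceBase Cfsg.Agent.ZN.ChoiceSit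
open Cfsg.Agent.ZN (jj zj bau zc zl o2)
open Cfsg.Agent.MinSimple.MinParabolic (IsMinPar)
open Cfsg.Agent.MinSimple.VModule (oddGen oddGen_le mem_oddGen oddGen_def)
open Cfsg.Agent.Omega.OM.FourF (Act Co Thr OneF Lin Sem conjW aut4)

universe u

variable {G : Type u} [Group G]

/-- transport of the coordinates -/
theorem Cor.map {ι : Type} {F F' : Type} [Field F] [Field F'] {S B : Subgroup G} {L W Z : ι → Subgroup G} {i : ι}
    {e : G → F × F} (c : Cor F S B L W Z i e) (φ : F ≃+* F') :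
    Cor F' S B L W Z i fun v => (φ (e v).1, φ (e v).2) where
  mul := fun v hv w hw => by
    ext
    · simp [c.mul v hv w hw]
    · simp [c.mul v hv w hw]
  inj := fun v hv w hw h => by
    refine c.inj v hv w hw (Prod.ext ?_ ?_)
    · exact φ.injective (congrArg Prod.fst h)
    · exact φ.injective (congrArg Prod.snd h)
  surj := fun p => by
    obtain ⟨v, hv, h⟩ := c.surj (φ.symm p.1, φ.symm p.2)
    refine ⟨v, hv, ?_⟩
    rw [h]
    simp
  memZ := fun v => by
    rw [c.memZ]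
    simp
  act := fun t ht hZ => by
    obtain ⟨s, l, h⟩ := c.act t ht hZ
    refine ⟨(φ.symm.trans s).trans φ, φ l, fun w hw => ?_⟩
    show (φ (e (t * w * t⁻¹)).1, φ (e (t * w * t⁻¹)).2) = _
    rw [h w hw]
    simp
  full := fun l => by
    obtain ⟨b, hb, h⟩ := c.full (φ.symm l)
    refine ⟨b, hb, fun w hw => ?_⟩
    show (φ (e (b * w * b⁻¹)).1, φ (e (b * w * b⁻¹)).2) = _
    rw [h w hw]
    simp
  sl := fun a b x d hd => by
    obtain ⟨g, hg, h1, h2, h3⟩ := c.sl (φ.symm a) (φ.symm b) (φ.symm x) (φ.symm d) (by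
      rw [← map_mul, ← map_mul, ← map_sub, hd, map_one])
    refine ⟨g, hg, h1, fun w hw => ?_, h3⟩
    show (φ (e (g * w * g⁻¹)).1, φ (e (g * w * g⁻¹)).2) = _
    rw [h2 w hw]
    simp

/-- a field of order `4` -/
theorem exists_field : ∃ (K : Type) (_ : Field K) (_ : Finite K) (_ : CharP K 2), Nat.card K = 4 := by
  have : Fact (Nat.Prime 2) := ⟨Nat.prime_two⟩
  refine ⟨GaloisField 2 2, inferInstance, inferInstance, inferInstance, ?_⟩
  rw [GaloisField.card 2 2 two_ne_zero]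
  norm_num

variable [Finite G] {ι : Type} [Finite ι] {S : Sylow 2 G} {K B V ZJ : Subgroup G} {L W Z C A : ι → Subgroup G}
  {q : ι → ℕ}

/-- the coordinates over one field -/
theorem exists_cor (h : Gr S K B V ZJ L W Z C A q) (h4 : ∀ i, q i = 4) {E : Type} [Field E] [Finite E] [CharP E 2]
    (hE : Nat.card E = 4) (i : ι) : ∃ e : G → E × E, Cor E (S : Subgroup G) B L W Z i e := by
  obtain ⟨F, _, _, _, hF, e, c⟩ := h.co i
  have : Fact (Nat.Prime 2) := ⟨Nat.prime_two⟩
  have := Fintype.ofFinite F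
  have := Fintype.ofFinite E
  have hc : Fintype.card F = Fintype.card E := by
    rw [← Nat.card_eq_fintype_card, ← Nat.card_eq_fintype_card, hF, hE, h4 i]
  exact ⟨_, c.map (FiniteField.ringEquivOfCardEq hc)⟩

/-- The situation. -/
structure Four (S : Sylow 2 G) (K B V ZJ : Subgroup G) (L W Z C A : ι → Subgroup G) (q : ι → ℕ)
    (X T Y : Subgroup G) (E : Type) [Field E] (e : ι → G → E × E) : Prop where
  gr : Gr S K B V ZJ L W Z C A q
  pair : PairV B V ZJ X T Y
  TS : T ≤ (S : Subgroup G)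
  LX : ∀ i, L i ≤ X
  hD : centralizer (ZJ : Set G) ≤ X
  hN : normalizer (B : Set G) ≤ X
  hZ : ∀ i, ∀ t ∈ T, cj t (Z i) = Z i
  card : Nat.card E = 4
  cor : ∀ i, Cor E (S : Subgroup G) B L W Z i (e i)

namespace Four

variable {X T Y : Subgroup G} {E : Type} [Field E] [CharP E 2] {e : ι → G → E × E}
  (c : Four S K B V ZJ L W Z C A q X T Y E e)
include c

theorem nW {t : G} (ht : t ∈ T) (i : ι) : t ∈ normalizer (W i : Set G) := by
  rw [mem_normalizer_iff_cj]
  exact (c.gr.perm t (c.TS ht) i i (c.hZ i t ht)).1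

theorem act4 {t : G} (ht : t ∈ T) (i : ι) : ∃ l : E, Act (W i) (e i) t (fun p => (p.1 + l * p.2, p.2)) ∨
    Act (W i) (e i) t (fun p => (p.1 * p.1 + l * (p.2 * p.2), p.2 * p.2)) := by
  obtain ⟨s, l, hl⟩ := (c.cor i).act t (c.TS ht) (c.hZ i t ht)
  refine ⟨l, ?_⟩
  rcases aut4 c.card s with hs | hs
  · left
    intro w hw
    rw [hl w hw]
    simp only [hs]
  · right
    intro w hw
    rw [hl w hw]
    simp only [hs]

theorem exists_u (i : ι) : ∃ u ∈ Z i, e i u = (1, 0) ∧ ∀ y ∈ Y, y * u = u * y := by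
  obtain ⟨u, huW, hue⟩ := (c.cor i).surj (1, 0)
  have hu : u ∈ Z i := ((c.cor i).memZ u).2 ⟨huW, by rw [hue]⟩
  refine ⟨u, hu, hue, ?_⟩
  have hO : o2 Y ≤ T := o2_le_syl c.pair.syl
  have h1 : ∀ t ∈ T, t * u = u * t := by
    intro t ht
    have htW : t * u * t⁻¹ ∈ W i := conjW (c.nW ht i) huW
    refine mul_inv_eq_iff_eq_mul.1 ((c.cor i).inj _ htW _ huW ?_)
    obtain ⟨l, hl | hl⟩ := c.act4 ht i
    · rw [hl u huW, hue]
      ext <;> simp
    · rw [hl u huW, hue]
      ext <;> simp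
  intro y hy
  have h2 : u ∈ centralizer (Y : Set G) :=
    c.pair.fix ⟨c.gr.Zle i hu, mem_centralizer_iff.2 fun o ho => h1 o (hO ho)⟩
  exact mem_centralizer_iff.1 h2 y hy

theorem e_one (i : ι) : e i 1 = 0 := by
  have h1 := (c.cor i).mul 1 (one_mem _) 1 (one_mem _)
  rw [mul_one] at h1
  exact left_eq_add.1 h1

theorem toCo {i : ι} {u : G} (hu : u ∈ Z i) (hue : e i u = (1, 0)) : Co (W i) (Z i) u (e i) where
  mul := (c.cor i).mul
  ker := fun v hv h0 => (c.cor i).inj v hv 1 (one_mem _) (by rw [h0, c.e_one])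
  surj := (c.cor i).surj
  memZ := (c.cor i).memZ
  uW := c.gr.ZW i hu
  eu := hue

theorem TX : T ≤ X := (c.gr.lb.two_le c.pair.syl.2.1 c.pair.BT).trans c.hN

theorem hZM : normalizer (ZJ : Set G) ≤ X := c.gr.lb.norm_zj_le.trans (sup_le c.hD c.hN)

theorem hfull (i : ι) (l : E) : ∃ t ∈ T, Act (W i) (e i) t (fun p => (p.1 + l * p.2, p.2)) := by
  obtain ⟨b, hb, h1⟩ := (c.cor i).full l
  exact ⟨b, c.pair.BT hb, h1⟩

/-- the structure `Thr` -/
theorem thr {u : ι → G} (hu : ∀ i, u i ∈ Z i) (hue : ∀ i, e i (u i) = (1, 0))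
    (huY : ∀ i, ∀ y ∈ Y, y * u i = u i * y) : Thr Y T X W Z u e where
  card := c.card
  syl := c.pair.syl
  TM := c.TX
  co := fun i => c.toCo (hu i) (hue i)
  TN := fun i t ht => c.nW ht i
  act := fun i t ht => c.act4 ht i
  full := c.hfull
  sl := fun i a b x d hd => by
    obtain ⟨g, hg, h1, h2, h3⟩ := (c.cor i).sl a b x d hd
    exact ⟨g, c.LX i hg, h1, h2, h3⟩
  NM := fun g hg => by
    have h1 : g ∈ normalizer (ZJ : Set G) := by
      have h2 : ZJ = ⨆ i, Z i := le_antisymm c.gr.sup (iSup_le c.gr.Zle)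
      rw [mem_normalizer_iff_cj, h2, Swap.cj_iSup]
      exact iSup_congr hg
    exact c.hZM h1
  Xu := huY
  fix := fun i hi x hx z hz => by
    have h2 : z ∈ centralizer (Y : Set G) :=
      c.pair.fix ⟨c.gr.Zle i hz, mem_centralizer_iff.2 fun o ho => hi o ho z hz⟩
    exact mem_centralizer_iff.1 h2 x hx

/-- the structure `OneF` for the index `i` -/
theorem oneF {i : ι} {u : G} (hu : u ∈ Z i) (hue : e i u = (1, 0)) (huY : ∀ y ∈ Y, y * u = u * y) :
    ∃ 𝓐 : Set (Subgroup G), OneF E Y T 𝓐 (W i) (Z i) u (e i) := by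
  obtain ⟨𝓐, hfam, hnJ, hA⟩ := c.gr.fam X T Y c.pair c.hD c.TX c.hZM
  have hVel := elab_V c.gr c.pair
  have hUV : W i ≤ V := c.gr.WV i
  have hLV : NoFF.Basic.V (W i) Y ≤ NoFF.Basic.V V Y :=
    NoFF.Basic.V_le fun f hf => (cj_mono f hUV).trans (NoFF.Basic.Z_le_V hf)
  have hUO : W i ≤ o2 Y := hUV.trans c.pair.VO
  have hUF : W i ≤ Y := hUO.trans (o2_le Y)
  have hLF : NoFF.Basic.V (W i) Y ≤ Y := by
    refine NoFF.Basic.V_le fun f hf => ?_
    have := cj_mono f hUF
    rwa [cj_eq_of_mem_normalizer (le_normalizer hf)] at this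
  have hel := Swap.elab_mono hVel hLV
  have hlin : ∀ b ∈ B, b ∈ T → ∃ l, Lin (e i) (W i) l b := by
    intro b hb hbT
    obtain ⟨l, hl | hl⟩ := c.act4 hbT i
    · exact ⟨l, hl⟩
    · exfalso
      obtain ⟨w, hw⟩ := FourF.exists_w c.card
      obtain ⟨v, hvW, hve⟩ := (c.cor i).surj (w, 0)
      have hv : v ∈ Z i := ((c.cor i).memZ v).2 ⟨hvW, by rw [hve]⟩
      have h1 := hl v hvW
      have h2 : b * v * b⁻¹ = v := by
        rw [c.gr.cB hb (c.gr.Zle i hv)]; group
      rw [h2, hve] at h1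
      have h4 := congrArg Prod.fst h1
      simp only [mul_zero, add_zero] at h4
      rw [← pow_two, hw] at h4
      simp at h4
  refine ⟨𝓐, ?_⟩
  exact
  { cardK := c.card
    TU := fun t ht => c.nW ht i
    Uc := fun v hv w hw => c.gr.Vc (hUV hv) (hUV hw)
    U2 := fun v hv => c.gr.V2 (hUV hv)
    uU := c.gr.ZW i hu
    eu := hue
    ZU := c.gr.ZW i
    mul := (c.cor i).mul
    inj := (c.toCo hu hue).ker
    surj := (c.cor i).surj
    memZ := fun v hv => by
      rw [(c.cor i).memZ]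
      exact ⟨fun h => h.2, fun h => ⟨hv, h⟩⟩
    act := fun t ht => by
      obtain ⟨l, hl | hl⟩ := c.act4 ht i
      · exact ⟨l, Or.inl hl⟩
      · refine ⟨l, Or.inr fun v hv => ?_⟩
        rw [hl v hv]
        simp only [pow_two]
    syl := c.pair.syl
    par := c.pair.minPar c.gr.lb c.hZM
    UO := hUO
    comm := fun x hx y hy => SQ1.Bau.elem_comm hel x hx y hy
    sq := fun x hx => by
      rw [← pow_two]
      exact SQ1.Bau.elem_sq hel x hx
    uF := huY
    fam := hfam _ hel hLF OmThm.XD.X_le_normalizer_W hLV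
    nJ := hnJ
    lin := fun A hA' hAT a ha => hlin a ((hA A hA' hAT).1 ha) (hAT ha)
    full := fun l => by
      obtain ⟨b, hb, h1⟩ := (c.cor i).full l
      exact ⟨b, c.pair.BT hb, h1⟩ }

theorem false : False := by
  choose u hu hue huY using c.exists_u
  have ht := c.thr hu hue huY
  refine c.pair.nM (ht.le fun i => ?_)
  obtain ⟨𝓐, h1⟩ := c.oneF (hu i) (hue i) (huY i)
  have hfix : o2 Y ≤ centralizer (Z i : Set G) → Y ≤ centralizer (Z i : Set G) := by
    intro hi x hx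
    refine mem_centralizer_iff.2 fun z hz => ?_
    have h3 : z ∈ centralizer (Y : Set G) :=
      c.pair.fix ⟨c.gr.Zle i hz, mem_centralizer_iff.2 fun o ho => (mem_centralizer_iff.1 (hi ho) z hz).symm⟩
    exact (mem_centralizer_iff.1 h3 x hx).symm
  rcases h1.main hfix with h2 | h2
  · right
    intro x hx z hz
    exact (mem_centralizer_iff.1 (h2 hx) z hz).symm
  · exact Or.inl h2

end Four

/-- **(4F) over an abstract `V`.** -/
theorem caseFour (h : Gr S K B V ZJ L W Z C A q) {X T Y : Subgroup G} (s : Sel S B V ZJ Z X T Y)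
    (hL : ∀ i, L i ≤ X) (hD : centralizer (ZJ : Set G) ≤ X) (hN : normalizer (B : Set G) ≤ X)
    (hall : ∀ i, i ∈ Phi Z T) (h4 : ∀ i, q i = 4) : False := by
  obtain ⟨E, _, _, _, hE⟩ := exists_field
  choose e he using exists_cor h h4 hE
  exact Four.false (e := e) ⟨h, s.pair, s.TS, hL, hD, hN, fun i t ht => hall i t ht, hE, he⟩

end Cfsg.Agent.Omega.OM.SwapV.Q
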