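import Cfsg.Agent.Mrg.Omega.OM.SWQ.CaseTwoEnd
import Cfsg.Agent.Mrg.Omega.OM.SwapV.Core
import Cfsg.Agent.Mrg.Omega.OM.SwapL.Off
import Cfsg.Agent.Mrg.Omega.OM.Lev.FixPt

section


/-!
# (Om) for `q ≥ 4` over an abstract `V` (any level, several orbits, different `q i ≥ 4`): the frame

* `PairV B V ZJ X T F` : the pairs `(T, F)` of STEP 0;
* `BMV K B X` : the minimal parabolics `Y` over a 2-group `T ≥ B` with `K ≰ O₂(Y)`, `[Ω₁Z(T), Y] ≠ 1` lie in `X`;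
* `Cor F S B L W Z i e` : coordinates `e` on `W i`: an element of `S` which normalises `Z i` acts as `(s x + l s y, s y)`,
  `B` induces all `(x + l y, y)`, `L i` induces `SL₂(F)`, centralising the `W j` (modulo `B`);
* `Gr S K B V ZJ L W Z C A q` : the ground frame.
-/

set_option autoImplicit false
set_option linter.unusedSectionVars false

namespace Cfsg.Agent.Omega.OM.SwapV.Q

open Subgroup Cfsg Cfsg.Agent.ZN.ChoiceBase Cfsg.Agent.ZN.ChoiceSit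
open Cfsg.Agent.ZN (jj zj bau zc zl o2)
open Cfsg.Agent.MinSimple.MinParabolic (IsMinPar)
open Cfsg.Agent.MinSimple.VModule (oddGen oddGen_le)
open Cfsg.Agent.Omega.OM.LevD (LB K0)
open Cfsg.Agent.Omega.OM.WeakCl (WC)
open Cfsg.Agent.Omega.OM.FourF (Act)
open Cfsg.Agent.Omega.OM.Swap.Fam (Fm)

universe u

variable {G : Type u} [Group G]

/-- The pairs `(T, F)` of STEP 0. -/
structure PairV (B V ZJ X T F : Subgroup G) : Prop where
  syl : Syl T F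
  BT : B ≤ T
  nM : ¬ F ≤ X
  min : ∀ K : Subgroup G, T ≤ K → K < F → K ≤ X
  VO : V ≤ o2 F
  fix : ZJ ⊓ centralizer (o2 F : Set G) ≤ centralizer (F : Set G)

/-- Minimal parabolics over `T ≥ B` which move `Ω₁Z(T)` lie in `X`. -/
def BMV (K B X : Subgroup G) : Prop :=
  ∀ T Y : Subgroup G, Syl T Y → B ≤ T → IsMinPar T Y → Y ⊓ centralizer (o2 Y : Set G) ≤ o2 Y → ¬ K ≤ o2 Y →
    ¬ Y ≤ centralizer (zc T : Set G) → Y ≤ X

/-- Coordinates on the block `W i`. -/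
structure Cor {ι : Type} (F : Type) [Field F] (S B : Subgroup G) (L W Z : ι → Subgroup G) (i : ι) (e : G → F × F) :
    Prop where
  mul : ∀ v ∈ W i, ∀ w ∈ W i, e (v * w) = e v + e w
  inj : ∀ v ∈ W i, ∀ w ∈ W i, e v = e w → v = w
  surj : ∀ p, ∃ v ∈ W i, e v = p
  memZ : ∀ v, v ∈ Z i ↔ v ∈ W i ∧ (e v).2 = 0
  act : ∀ t ∈ S, cj t (Z i) = Z i → ∃ (s : F ≃+* F) (l : F), Act (W i) e t (fun p => (s p.1 + l * s p.2, s p.2))
  full : ∀ l, ∃ b ∈ B, Act (W i) e b (fun p => (p.1 + l * p.2, p.2))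
  sl : ∀ a b c d : F, a * d - b * c = 1 → ∃ g ∈ L i, g ∈ normalizer (W i : Set G) ∧
    Act (W i) e g (fun p => (a * p.1 + b * p.2, c * p.1 + d * p.2)) ∧ ∀ j, j ≠ i → ∀ w ∈ W j, g * w = w * g

/-- The ground frame over an abstract `V`. -/
structure Gr {ι : Type} [Finite G] (S : Sylow 2 G) (K B V ZJ : Subgroup G) (L W Z C A : ι → Subgroup G) (q : ι → ℕ) :
    Prop where
  lb : LB S K B ZJ
  wc : WC B
  char2 : IsCharacteristicTwoType G
  VB : V ≤ B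
  el : IsElementaryAbelian 2 V
  ZJV : ZJ ≤ V
  WV : ∀ i, W i ≤ V
  ZW : ∀ i, Z i ≤ W i
  Zle : ∀ i, Z i ≤ ZJ
  cardZ : ∀ i, Nat.card (Z i) = q i
  cardW : ∀ i, Nat.card (W i) = q i * q i
  dir : ∀ i, W i ⊓ C i = ⊥
  C0 : ∀ x ∈ V, (∀ i, x ∈ C i) → x = 1
  WjC : ∀ i j, i ≠ j → W j ≤ C i
  sup : ZJ ≤ ⨆ i, Z i
  BL : ∀ i, B ≤ L i
  LC : ∀ i, ∀ l ∈ L i, ∀ z ∈ ZJ, z ∈ C i → l * z = z * l
  AB : ∀ i, A i ≤ B
  AC : ∀ i, ∀ a ∈ A i, ∀ c ∈ C i, a * c = c * a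
  root : ∀ i, ∀ v ∈ W i, v ∉ Z i → ∀ z ∈ Z i, ∃ a ∈ A i, a * v * a⁻¹ * v⁻¹ = z
  conjZ : ∀ (r : Set ι), ∀ x ∈ ⨆ i ∈ r, W i, ∃ g ∈ ⨆ i ∈ r, L i, g * x * g⁻¹ ∈ ⨆ i ∈ r, Z i
  norm : ∀ g ∈ normalizer (B : Set G), cj g V = V ∧ ∀ i, ∃ j, cj g (Z i) = Z j
  perm : ∀ s ∈ (S : Subgroup G), ∀ i j, cj s (Z i) = Z j → cj s (W i) = W j ∧ cj s (C i) = C j
  low : V ≤ o2 (centralizer (zc (S : Subgroup G) : Set G))
  noff : ∀ T : Subgroup G, IsPGroup 2 T → B ≤ T → ∀ f : G, cj f V ≤ T → V ≤ cj f T → ∀ x ∈ V, ∀ y ∈ V,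
    x * (f * y * f⁻¹) = f * y * f⁻¹ * x
  fixPt : ∀ T Y : Subgroup G, SwapV.Quiet K B T Y → ZJ ⊓ zc (o2 Y) ≤ centralizer (oddGen Y : Set G)
  fam : ∀ X T F : Subgroup G, PairV B V ZJ X T F → centralizer (ZJ : Set G) ≤ X → T ≤ X →
    normalizer (ZJ : Set G) ≤ X → ∃ 𝓐 : Set (Subgroup G),
      (∀ Λ : Subgroup G, IsElementaryAbelian 2 Λ → Λ ≤ F → F ≤ normalizer (Λ : Set G) →
        Λ ≤ NoFF.Basic.V V F → Fm F Λ 𝓐) ∧
      (∃ E ∈ 𝓐, E ≤ T ∧ ¬ E ≤ o2 F) ∧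
      ∀ E ∈ 𝓐, E ≤ T → E ≤ B ∧ ∀ i, (∀ a ∈ E, ∀ x ∈ W i, a * x = x * a) ∨
        Z i ≤ closure {y | ∃ x ∈ W i, ∃ a ∈ E, y = x * (a * x * a⁻¹)}
  co : ∀ i, ∃ (F : Type) (_ : Field F) (_ : Finite F) (_ : CharP F 2), Nat.card F = q i ∧
    ∃ e : G → F × F, Cor F (S : Subgroup G) B L W Z i e

/-- the indices fixed by `T` -/
abbrev Phi {ι : Type} (Z : ι → Subgroup G) (T : Subgroup G) : Set ι := SwapL.Phi Z T

end Cfsg.Agent.Omega.OM.SwapV.Q

end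

section


/-!
# (Om) for `q ≥ 4` over an abstract `V`: pairs, the choice of the pair

* `exists_pair`, `comm_of_pair`, `elab_V`, `PairV.minPar`, `pair_cj`;
* `Sel h X T F` : a pair with `T ≤ S` and `(|Phi(T)|, |C_{Z_J}(T)|)` lexicographically maximal; `exists_sel`.
-/

set_option autoImplicit false
set_option linter.unusedSectionVars false

namespace Cfsg.Agent.Omega.OM.SwapV.Q

open Subgroup Cfsg Cfsg.Agent.ZN.ChoiceBase Cfsg.Agent.ZN.ChoiceSit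
open Cfsg.Agent.ZN (jj zj bau zc zl o2)
open Cfsg.Agent.MinSimple.MinParabolic (IsMinPar)
open Cfsg.Agent.MinSimple.VModule (oddGen oddGen_le)
open Cfsg.Agent.Omega.OM.LevD (LB K0)
open Cfsg.Agent.Omega.OM.WeakCl (WC)
open Cfsg.Agent.Omega.OM.FourF (Act)
open Cfsg.Agent.Omega.OM.Swap.Fam (Fm)
open Cfsg.Agent.Omega.OM.SWQ (exists_fix)

universe u

variable {G : Type u} [Group G] [Finite G]

/-- **(F1)** a conjugate of `B` inside `X` is a conjugate by an element of `X`. -/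
theorem mem_of_cj_B_le {S : Sylow 2 G} {K B ZJ : Subgroup G} (hl : LB S K B ZJ) (hw : WC B) {X : Subgroup G}
    (hSX : (S : Subgroup G) ≤ X) (hN : normalizer (B : Set G) ≤ X) {g : G} (h : cj g B ≤ X) : g ∈ X := by
  have hS : Syl (S : Subgroup G) X := ⟨hSX, S.isPGroup', fun Q _ hQ hle => S.is_maximal' hQ hle⟩
  have h2 : IsPGroup 2 (cj g B) := isPGroup_cj g hl.Bp
  obtain ⟨T, hT, hle⟩ := exists_syl h2 h
  obtain ⟨m, hm, rfl⟩ := syl_conj hS hT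
  have h3 : cj (m⁻¹ * g) B ≤ (S : Subgroup G) := by
    have := cj_mono m⁻¹ hle
    rwa [cj_inv_cj, cj_cj] at this
  have h4 := hw _ S.isPGroup' hl.BS _ h3
  have h5 : m⁻¹ * g ∈ X := hN (mem_normalizer_iff_cj.2 h4)
  have h6 := mul_mem hm h5
  rwa [mul_inv_cancel_left] at h6

variable {ι : Type} [Finite ι] {S : Sylow 2 G} {K B V ZJ : Subgroup G} {L W Z C A : ι → Subgroup G} {q : ι → ℕ}

namespace Gr

variable (h : Gr S K B V ZJ L W Z C A q)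
include h

theorem norm_le : normalizer (B : Set G) ≤ normalizer (V : Set G) := fun g hg => by
  rw [mem_normalizer_iff_cj]
  exact (h.norm g hg).1

theorem Vc {v w : G} (hv : v ∈ V) (hw : w ∈ V) : v * w = w * v := SQ1.Bau.elem_comm h.el v hv w hw

theorem V2 {v : G} (hv : v ∈ V) : v * v = 1 := by
  rw [← pow_two]
  exact SQ1.Bau.elem_sq h.el v hv

theorem cB {b z : G} (hb : b ∈ B) (hz : z ∈ ZJ) : b * z = z * b := (mem_centralizer_iff.1 (h.lb.Bc hb) z hz).symm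

theorem S_norm : (S : Subgroup G) ≤ normalizer (B : Set G) := h.lb.two_le S.isPGroup' h.lb.BS

theorem Z_two (i : ι) : IsPGroup 2 (Z i) := h.lb.Bp.to_le ((h.Zle i).trans h.lb.ZB)

end Gr

/-- `V ≤ O₂(Y)` if `Y` centralises `Ω₁(Z(T))`, `B ≤ T ≤ Y`. -/
theorem V_le_o2 (h : Gr S K B V ZJ L W Z C A q) {T Y : Subgroup G} (hT : IsPGroup 2 T)
    (hB : B ≤ T) (hTY : T ≤ Y) (hY : Y ≤ centralizer (zc T : Set G)) : V ≤ o2 Y := by
  obtain ⟨S', hS'⟩ := hT.exists_le_sylow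
  obtain ⟨g, hg⟩ := MulAction.exists_smul_eq G S S'
  have hg2 : (S' : Subgroup G) = cj g (S : Subgroup G) := by
    rw [← hg, Sylow.coe_subgroup_smul]
    rfl
  have hgN : g ∈ normalizer (B : Set G) := by
    have h1 : cj g⁻¹ B ≤ (S : Subgroup G) := by
      have := cj_mono g⁻¹ ((hB.trans hS').trans hg2.le)
      rwa [cj_inv_cj] at this
    have h2 := h.wc _ S.isPGroup' h.lb.BS _ h1
    have h3 := inv_mem (mem_normalizer_iff_cj.2 h2)
    rwa [inv_inv] at h3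
  have h3 : zc (S' : Subgroup G) ≤ zc T := by
    intro z hz
    have h4 : z ∈ T := by
      rw [hg2, NO3S.Level.zc_cj] at hz
      have h5 : zc (S : Subgroup G) ≤ B := by
        intro y hy
        obtain ⟨h7, h8, h9⟩ := mem_zc.1 hy
        rw [h.lb.eqB]
        exact ⟨h7, mem_centralizer_iff.2 fun x hx => h9 x (h.lb.BS (h.lb.ZB hx))⟩
      have h6 := cj_mono g h5 hz
      rw [cj_eq_of_mem_normalizer hgN] at h6
      exact hB h6
    obtain ⟨h5, h6, h7⟩ := mem_zc.1 hz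
    exact mem_zc.2 ⟨h4, h6, fun y hy => h7 y (hS' hy)⟩
  have h4 : Y ≤ centralizer (zc (S' : Subgroup G) : Set G) := hY.trans (centralizer_le h3)
  have h5 : V ≤ o2 (centralizer (zc (S' : Subgroup G) : Set G)) := by
    have h6 := cj_mono g h.low
    rw [(h.norm g hgN).1, ← pCore_cj, cj_centralizer, ← LemmaK.Main.zc_cj, ← hg2] at h6
    exact h6
  have h6 : V ≤ o2 (centralizer (zc (S' : Subgroup G) : Set G)) ⊓ Y :=
    le_inf h5 ((h.VB.trans hB).trans hTY)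
  refine h6.trans (le_o2 ((isPGroup_o2 _).to_le inf_le_left) inf_le_right ?_)
  intro y hy
  rw [mem_normalizer_iff_cj, cj_inf, cj_eq_of_mem_normalizer (le_normalizer_o2 _ (h4 hy)),
    cj_eq_of_mem_normalizer (le_normalizer hy)]

/-- `LevB.genM` with the weak fixed point property. -/
theorem Gr.genM (h : Gr S K B V ZJ L W Z C A q) {M T H : Subgroup G} (hD : centralizer (ZJ : Set G) ≤ M)
    (hN : normalizer (B : Set G) ≤ M) (hT : Syl T H) (hBT : B ≤ T)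
    (hc : H ⊓ centralizer (o2 H : Set G) ≤ o2 H)
    (hblk : ∀ Y : Subgroup G, IsMinPar T Y → Y ≤ H → ¬ K ≤ o2 Y → ¬ Y ≤ centralizer (zc T : Set G) → Y ≤ M) :
    H ≤ (H ⊓ M) ⊔ ⨆ Y : {Y : Subgroup G // IsMinPar T Y ∧ Y ≤ H ∧ ¬ K ≤ o2 Y ∧
      Y ≤ centralizer (zc T : Set G) ∧ ¬ o2 Y ≤ B}, (Y : Subgroup G) := by
  have hB := h.lb
  have hZM : normalizer (ZJ : Set G) ≤ M := hB.norm_zj_le.trans (sup_le hD hN)
  have hTN : normalizer (T : Set G) ≤ M := (hB.nrm T hT.2.1 (hB.KB.trans hBT)).trans hZM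
  have hTM : T ≤ M := le_normalizer.trans hTN
  refine MinSimple.MinParabolic.le_of_forall hT.1 ?_ fun Y hY hYH => ?_
  · exact le_sup_of_le_left (inf_le_inf_left _ hTN)
  have hcase : Y ≤ M → Y ≤ (H ⊓ M) ⊔ ⨆ Y : {Y : Subgroup G // IsMinPar T Y ∧ Y ≤ H ∧ ¬ K ≤ o2 Y ∧
      Y ≤ centralizer (zc T : Set G) ∧ ¬ o2 Y ≤ B}, (Y : Subgroup G) :=
    fun h => le_sup_of_le_left (le_inf hYH h)
  have hTY : Syl T Y := ⟨hY.le, hT.2.1, fun Q hQ h2 hTQ => hT.2.2 Q (hQ.trans hYH) h2 hTQ⟩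
  by_cases h1 : K ≤ o2 Y
  · exact hcase ((le_normalizer_o2 Y).trans ((hB.nrm _ (isPGroup_o2 Y) h1).trans hZM))
  by_cases h2 : Y ≤ centralizer (zc T : Set G)
  · by_cases h3 : o2 Y ≤ B
    · apply hcase
      have h4 : o2 H ≤ o2 Y := by
        refine le_o2 (isPGroup_o2 H) ((o2_le_syl hT).trans hY.le) (hYH.trans (le_normalizer_o2 H))
      have hcY : Y ⊓ centralizer (o2 Y : Set G) ≤ o2 Y := by
        rintro x ⟨hx, hxc⟩
        exact h4 (hc ⟨hYH hx, centralizer_le (by exact_mod_cast h4) hxc⟩)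
      have h5 : ZJ ≤ zc (o2 Y) := by
        intro z hz
        have hzT : z ∈ T := hBT (hB.ZB hz)
        have hcz : ∀ y ∈ o2 Y, y * z = z * y := fun y hy =>
          (mem_centralizer_iff.1 (hB.Bc (h3 hy)) z hz).symm
        exact mem_zc.2 ⟨hcY ⟨hY.le hzT, mem_centralizer_iff.2 hcz⟩, hB.sq z hz, hcz⟩
      have h6 : ZJ ≤ centralizer (oddGen Y : Set G) :=
        (le_inf le_rfl h5).trans (h.fixPt T Y ⟨hTY, hBT, hY, hcY, h1, h2⟩)
      have h7 : MinSimple.VModule.oddGen Y ≤ M := (le_centralizer_iff.1 h6).trans hD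
      have h8 : MinSimple.VModule.oddGen Y ⊔ T = Y := Dich.oddGen_sup_syl hTY
      rw [← h8]
      exact sup_le h7 hTM
    · exact le_sup_of_le_right (le_iSup (fun Y : {Y : Subgroup G // IsMinPar T Y ∧ Y ≤ H ∧ ¬ K ≤ o2 Y ∧
        Y ≤ centralizer (zc T : Set G) ∧ ¬ o2 Y ≤ B} => (Y : Subgroup G))
        ⟨Y, hY, hYH, h1, h2, h3⟩)
  · exact hcase (hblk Y hY hYH h1 h2)

/-- **Existence of pairs.** -/
theorem exists_pair (h : Gr S K B V ZJ L W Z C A q) {X H : Subgroup G} (hBM : BMV K B X)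
    (hD : centralizer (ZJ : Set G) ≤ X) (hN : normalizer (B : Set G) ≤ X)
    (hB : B ≤ H) (hc : H ⊓ centralizer (o2 H : Set G) ≤ o2 H) (hM : ¬ H ≤ X) :
    ∃ T F : Subgroup G, PairV B V ZJ X T F ∧ F ≤ H := by
  have : Fact (Nat.Prime 2) := ⟨Nat.prime_two⟩
  obtain ⟨T₀, hT₀, hBT₀⟩ := exists_syl h.lb.Bp hB
  have hsylY : ∀ Y : Subgroup G, IsMinPar T₀ Y → Y ≤ H → Syl T₀ Y := fun Y hY hYH =>
    ⟨hY.le, hT₀.2.1, fun Q hQ h2 hTQ => hT₀.2.2 Q (hQ.trans hYH) h2 hTQ⟩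
  have hcY' : ∀ Y : Subgroup G, IsMinPar T₀ Y → Y ≤ H → Y ⊓ centralizer (o2 Y : Set G) ≤ o2 Y := by
    intro Y hY hYH
    have h4 : o2 H ≤ o2 Y :=
      le_o2 (isPGroup_o2 H) ((o2_le_syl hT₀).trans hY.le) (hYH.trans (le_normalizer_o2 H))
    rintro x ⟨hx, hxc⟩
    exact h4 (hc ⟨hYH hx, centralizer_le (by exact_mod_cast h4) hxc⟩)
  have hg := h.genM hD hN hT₀ hBT₀ hc
    fun Y hY hYH => hBM T₀ Y (hsylY Y hY hYH) hBT₀ hY (hcY' Y hY hYH)
  -- the minimal parabolic `Y`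
  obtain ⟨Y, ⟨hYm, hYH, hYK, hYc, -⟩, hYM⟩ : ∃ Y : Subgroup G, (IsMinPar T₀ Y ∧ Y ≤ H ∧
      ¬ K ≤ o2 Y ∧ Y ≤ centralizer (zc T₀ : Set G) ∧ ¬ o2 Y ≤ B) ∧ ¬ Y ≤ X := by
    by_contra hcon
    push Not at hcon
    exact hM (hg.trans (sup_le inf_le_right (iSup_le fun Y => hcon Y.1 Y.2)))
  have hTM : T₀ ≤ X := (h.lb.two_le hT₀.2.1 hBT₀).trans hN
  have hTY : Syl T₀ Y := hsylY Y hYm hYH
  have hcY := hcY' Y hYm hYH
  have hVY : V ≤ o2 Y := V_le_o2 h hT₀.2.1 hBT₀ hYm.le hYc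
  -- `Y₁ = O²(Y) O₂(Y) B`
  set Y₁ : Subgroup G := oddGen Y ⊔ (o2 Y ⊔ B) with hY₁
  have hY₁Y : Y₁ ≤ Y := sup_le (oddGen_le Y) (sup_le (o2_le Y) (hBT₀.trans hYm.le))
  have hOB : IsPGroup 2 (o2 Y ⊔ B : Subgroup G) :=
    hT₀.2.1.to_le (sup_le (o2_le_syl hTY) hBT₀)
  obtain ⟨T, hT, hOT⟩ := exists_syl hOB (le_sup_right : o2 Y ⊔ B ≤ Y₁)
  have hY₁M : ¬ Y₁ ≤ X := by
    intro hle
    apply hYM
    rw [← Dich.oddGen_sup_syl hTY]
    exact sup_le (le_sup_left.trans hle) hTM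
  obtain ⟨F, hF⟩ := (Set.toFinite {K : Subgroup G | T ≤ K ∧ K ≤ Y₁ ∧ ¬ K ≤ X}).exists_minimal
    ⟨Y₁, hT.1, le_rfl, hY₁M⟩
  obtain ⟨hTF, hFY₁, hFM⟩ := hF.prop
  have hFY : F ≤ Y := hFY₁.trans hY₁Y
  have hsyl : Syl T F := ⟨hTF, hT.2.1, fun Q hQ h2 hle => hT.2.2 Q (hQ.trans hFY₁) h2 hle⟩
  have hBT : B ≤ T := le_sup_right.trans hOT
  have hOF : o2 Y ≤ o2 F :=
    le_o2 (isPGroup_o2 Y) ((le_sup_left.trans hOT).trans hTF) (hFY.trans (le_normalizer_o2 Y))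
  refine ⟨T, F, ⟨hsyl, hBT, hFM, fun K' hTK hKF => ?_, hVY.trans hOF, ?_⟩, hFY.trans hYH⟩
  · by_contra hKM
    exact hKF.not_ge (hF.le_of_le ⟨hTK, hKF.le.trans hFY₁, hKM⟩ hKF.le)
  · rintro z ⟨hz, hzc⟩
    have hzB : z ∈ B := h.lb.ZB hz
    have hzO : ∀ y ∈ o2 Y, y * z = z * y := fun y hy => mem_centralizer_iff.1 hzc y (hOF hy)
    have hz1 : z ∈ zc (o2 Y) := by
      refine mem_zc.2 ⟨hcY ⟨hYm.le (hBT₀ hzB), mem_centralizer_iff.2 hzO⟩, h.lb.sq z hz, hzO⟩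
    have hz2 : z ∈ centralizer (oddGen Y : Set G) :=
      h.fixPt T₀ Y ⟨hTY, hBT₀, hYm, hcY, hYK, hYc⟩ ⟨hz, hz1⟩
    have hle : Y₁ ≤ centralizer ({z} : Set G) := by
      refine sup_le (fun y hy => ?_) (sup_le (fun y hy => ?_) fun y hy => ?_) <;>
        rw [mem_centralizer_singleton_iff]
      · exact mem_centralizer_iff.1 hz2 y hy
      · exact hzO y hy
      · exact (mem_centralizer_iff.1 (h.lb.Bc hy) z hz).symm
    rw [mem_centralizer_iff]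
    intro y hy
    exact mem_centralizer_singleton_iff.1 (hle (hFY₁ hy))

/-- `V` commutes with its conjugates under `F`. -/
theorem comm_of_pair (h : Gr S K B V ZJ L W Z C A q) {X T F : Subgroup G} (hp : PairV B V ZJ X T F) {f : G}
    (hf : f ∈ F) {x y : G} (hx : x ∈ V) (hy : y ∈ V) : x * (f * y * f⁻¹) = f * y * f⁻¹ * x := by
  have hV := hp.VO
  have hO : o2 F ≤ T := o2_le_syl hp.syl
  have hcO : cj f (o2 F) = o2 F := cj_eq_of_mem_normalizer (le_normalizer_o2 F hf)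
  have hcO' : cj f⁻¹ (o2 F) = o2 F := cj_eq_of_mem_normalizer (le_normalizer_o2 F (inv_mem hf))
  refine h.noff T hp.syl.2.1 hp.BT f ?_ ?_ x hx y hy
  · have := cj_mono f hV
    rw [hcO] at this
    exact this.trans hO
  · have h1 := cj_mono f hO
    rw [hcO] at h1
    exact hV.trans h1

/-- `⟨V^F⟩` is elementary abelian. -/
theorem elab_V (h : Gr S K B V ZJ L W Z C A q) {X T F : Subgroup G} (hp : PairV B V ZJ X T F) :
    IsElementaryAbelian 2 (NoFF.Basic.V V F) := by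
  have h1 := Swap.elab_iSup (W := fun f : F => cj (f : G) V) (fun f f' x hx y hy => ?_) fun f x hx => ?_
  · exact Swap.elab_of h1.1 h1.2
  · rw [mem_cj] at hx hy
    have h2 := comm_of_pair h hp (mul_mem (inv_mem f.2) f'.2) hx hy
    have e1 : (f : G)⁻¹ * f' * ((f' : G)⁻¹ * y * f') * ((f : G)⁻¹ * f')⁻¹ = (f : G)⁻¹ * y * f := by group
    rw [e1] at h2
    have h3 := congrArg (fun t => (f : G) * t * (f : G)⁻¹) h2
    have e2 : (f : G) * ((f : G)⁻¹ * x * f * ((f : G)⁻¹ * y * f)) * (f : G)⁻¹ = x * y := by group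
    have e3 : (f : G) * ((f : G)⁻¹ * y * f * ((f : G)⁻¹ * x * f)) * (f : G)⁻¹ = y * x := by group
    exact e2.symm.trans (h3.trans e3)
  · rw [mem_cj] at hx
    have h2 := h.V2 hx
    have e : x * x = f * ((f : G)⁻¹ * x * f * ((f : G)⁻¹ * x * f)) * (f : G)⁻¹ := by group
    rw [e, h2]; group

theorem PairV.nK (hl : LB S K B ZJ) {X T F : Subgroup G} (hp : PairV B V ZJ X T F)
    (hZM : normalizer (ZJ : Set G) ≤ X) : ¬ K ≤ o2 F := fun hle =>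
  hp.nM ((le_normalizer_o2 F).trans ((hl.nrm _ (isPGroup_o2 F) hle).trans hZM))

theorem PairV.minPar (hl : LB S K B ZJ) {X T F : Subgroup G} (hp : PairV B V ZJ X T F)
    (hZM : normalizer (ZJ : Set G) ≤ X) : IsMinPar T F := by
  refine ⟨hp.syl.1, fun hle => ?_, F ⊓ X, lt_of_le_of_ne inf_le_left fun e => hp.nM (inf_eq_left.1 e),
    fun K hTK hKF => le_inf hKF.le (hp.min K hTK hKF)⟩
  apply hp.nK hl hZM
  exact (hl.KB.trans hp.BT).trans (le_o2 hp.syl.2.1 hp.syl.1 hle)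

/-- Pairs are invariant under conjugation by `N_G(B)`. -/
theorem pair_cj (h : Gr S K B V ZJ L W Z C A q) {X T F : Subgroup G}
    (hN : normalizer (B : Set G) ≤ X) (hp : PairV B V ZJ X T F) {m : G}
    (hm : m ∈ normalizer (B : Set G)) : PairV B V ZJ X (cj m T) (cj m F) := by
  have hX : cj m X = X := cj_eq_of_mem_normalizer (le_normalizer (hN hm))
  have hX' : cj m⁻¹ X = X := cj_eq_of_mem_normalizer (le_normalizer (inv_mem (hN hm)))
  have hJ := cj_eq_of_mem_normalizer (h.lb.norm_B_le hm)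
  refine ⟨ZN.CaseTwo.syl_cj m hp.syl, ?_, fun hle => hp.nM ?_, fun K h1 h2 => ?_, ?_, ?_⟩
  · have := cj_mono m hp.BT
    rwa [cj_eq_of_mem_normalizer hm] at this
  · have := cj_mono m⁻¹ hle
    rwa [cj_inv_cj, hX'] at this
  · have h3 := hp.min (cj m⁻¹ K) (by
      have := cj_mono m⁻¹ h1
      rwa [cj_inv_cj] at this) (by
      have h4 := cj_mono m⁻¹ h2.le
      rw [cj_inv_cj] at h4
      refine lt_of_le_of_ne h4 fun e => h2.ne ?_
      rw [← e, cj_cj_inv])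
    have h4 := cj_mono m h3
    rwa [cj_cj_inv, hX] at h4
  · have := cj_mono m hp.VO
    rwa [(h.norm m hm).1, ← o2_cj] at this
  · have := cj_mono m hp.fix
    rwa [cj_inf, hJ, cj_centralizer, cj_centralizer, ← o2_cj] at this

namespace Gr

variable (h : Gr S K B V ZJ L W Z C A q)
include h

theorem Z_ne_bot (hq : ∀ i, 1 < q i) (i : ι) : Z i ≠ ⊥ := by
  intro e
  have h1 := h.cardZ i
  rw [e, Subgroup.card_bot] at h1
  have := hq i
  omega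

theorem exists_ne (hq : ∀ i, 1 < q i) (i : ι) : ∃ z ∈ Z i, z ≠ 1 := by
  by_contra hcon
  push Not at hcon
  exact h.Z_ne_bot hq i ((eq_bot_iff_forall _).2 hcon)

theorem Z_inj {i j : ι} {z : G} (hi : z ∈ Z i) (hj : z ∈ Z j) (h1 : z ≠ 1) : i = j := by
  by_contra hne
  apply h1
  have h2 : z ∈ W i ⊓ C i := mem_inf.2 ⟨h.ZW i hi, h.WjC i j hne (h.ZW j hj)⟩
  rwa [h.dir i, mem_bot] at h2

theorem Z_inj' (hq : ∀ i, 1 < q i) {i j : ι} (e : Z i = Z j) : i = j := by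
  obtain ⟨z, hz, h1⟩ := h.exists_ne hq i
  exact h.Z_inj hz (e ▸ hz) h1

/-- an element of `N_G(B)` which centralises an element `≠ 1` of `Z i` normalises `Z i`. -/
theorem fix_of_comm {g : G} (hg : g ∈ normalizer (B : Set G)) {i : ι} {z : G}
    (hz : z ∈ Z i) (h1 : z ≠ 1) (hc : g * z = z * g) : cj g (Z i) = Z i := by
  obtain ⟨j, hj⟩ := (h.norm g hg).2 i
  have h2 : z ∈ Z j := by
    rw [← hj]
    refine ⟨z, hz, ?_⟩
    show g * z * g⁻¹ = z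
    rw [hc]; group
  rw [hj, ← h.Z_inj hz h2 h1]

end Gr

/-- The chosen pair. -/
structure Sel (S : Sylow 2 G) (B V ZJ : Subgroup G) (Z : ι → Subgroup G) (X T F : Subgroup G) : Prop where
  pair : PairV B V ZJ X T F
  TS : T ≤ (S : Subgroup G)
  cen1 : ∀ Y : Subgroup G, Y ≤ ZJ → (∀ i ∈ Phi Z T, ∃ z ∈ Z i, z ≠ 1 ∧ z ∈ Y) →
    (∃ j, j ∉ Phi Z T ∧ ∃ z ∈ Z j, z ≠ 1 ∧ z ∈ Y) → centralizer (Y : Set G) ≤ X
  cen2 : (∀ i, i ∈ Phi Z T) → ∀ Y : Subgroup G, Y ≤ ZJ →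
    ZJ ⊓ centralizer (T : Set G) < Y → centralizer (Y : Set G) ≤ X

theorem exists_sel (h : Gr S K B V ZJ L W Z C A q) (hq : ∀ i, 1 < q i) (hne : Nonempty ι) {X H : Subgroup G}
    (hBM : BMV K B X) (hD : centralizer (ZJ : Set G) ≤ X)
    (hN : normalizer (B : Set G) ≤ X)
    (hB : B ≤ H) (hc : H ⊓ centralizer (o2 H : Set G) ≤ o2 H) (hM : ¬ H ≤ X) :
    ∃ T F : Subgroup G, Sel S B V ZJ Z X T F := by
  classical
  have hJ2 : IsPGroup 2 ZJ := h.lb.Bp.to_le h.lb.ZB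
  let μ : Subgroup G → ℕ := fun T =>
    (Phi Z T).ncard * (Nat.card ZJ + 1) + Nat.card ↥(ZJ ⊓ centralizer (T : Set G))
  have hle : ∀ T : Subgroup G, Nat.card ↥(ZJ ⊓ centralizer (T : Set G)) ≤ Nat.card ZJ := fun T =>
    Subgroup.card_le_of_le inf_le_left
  let s : Set ℕ := {m | ∃ T F : Subgroup G, PairV B V ZJ X T F ∧ μ T = m}
  have hs1 : s.Nonempty := by
    obtain ⟨T, F, hp, -⟩ := exists_pair h hBM hD hN hB hc hM
    exact ⟨_, T, F, hp, rfl⟩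
  have hs2 : s.Finite := by
    refine (Set.finite_Iic (Nat.card ι * (Nat.card ZJ + 1) + Nat.card ZJ)).subset ?_
    rintro m ⟨T, F, -, rfl⟩
    rw [Set.mem_Iic]
    refine Nat.add_le_add (Nat.mul_le_mul_right _ ?_) (hle T)
    rw [← Set.ncard_univ]
    exact Set.ncard_le_ncard (Set.subset_univ _)
  obtain ⟨m₀, hm₀⟩ := hs2.exists_maximal hs1
  obtain ⟨T₀, F₀, hp₀, hμ₀⟩ := hm₀.prop
  have hmax : ∀ T F : Subgroup G, PairV B V ZJ X T F → μ T ≤ μ T₀ := by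
    intro T F hp
    rw [hμ₀]
    by_contra hcon
    push Not at hcon
    exact absurd (hm₀.le_of_ge ⟨T, F, hp, rfl⟩ hcon.le) (by omega)
  -- conjugate into `S`
  have hTN : ∀ T : Subgroup G, IsPGroup 2 T → B ≤ T →
      T ≤ normalizer (B : Set G) := fun T hT hB => h.lb.two_le hT hB
  have hsyl : Syl (S : Subgroup G) (normalizer (B : Set G)) :=
    ZN.CaseTwo.syl_of_sylow S (hTN _ S.isPGroup' h.lb.BS)
  obtain ⟨T₁, hT₁, hTT₁⟩ := exists_syl hp₀.syl.2.1 (hTN _ hp₀.syl.2.1 hp₀.BT)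
  obtain ⟨m, hm, hmS⟩ := syl_conj hT₁ hsyl
  have hTS : cj m T₀ ≤ (S : Subgroup G) := by
    rw [← hmS]
    exact cj_mono m hTT₁
  have hp := pair_cj h hN hp₀ hm
  have hμ : μ T₀ ≤ μ (cj m T₀) := by
    refine Nat.add_le_add (Nat.mul_le_mul_right _ ?_) ?_
    · choose σ hσ using (h.norm m hm).2
      refine Set.ncard_le_ncard_of_injOn σ ?_ ?_ (Set.toFinite _)
      · intro i hi t ht
        rw [mem_cj] at ht
        have h1 : cj (m⁻¹ * t * m) (Z i) = Z i := hi _ ht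
        rw [← hσ i, cj_cj]
        conv_rhs => rw [← h1]
        rw [cj_cj]
        congr 1
        group
      · intro i _ j _ e
        apply h.Z_inj' hq
        have h1 : cj m (Z i) = cj m (Z j) := by rw [hσ i, hσ j, e]
        rw [← cj_inv_cj m (Z i), h1, cj_inv_cj]
    · have h1 : ZJ ⊓ centralizer ((cj m T₀ : Subgroup G) : Set G) = cj m (ZJ ⊓ centralizer (T₀ : Set G)) := by
        rw [cj_inf, cj_centralizer, cj_eq_of_mem_normalizer (h.lb.norm_B_le hm)]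
      rw [h1, card_cj]
  generalize cj m T₀ = T at hTS hp hμ
  generalize cj m F₀ = K' at hp
  have hmax' : ∀ T' F' : Subgroup G, PairV B V ZJ X T' F' → μ T' ≤ μ T := fun T' F' h => (hmax T' F' h).trans hμ
  -- the pair of a centraliser
  have key : ∀ Y : Subgroup G, Y ≤ ZJ → (∃ z ∈ Y, z ≠ 1) → ¬ centralizer (Y : Set G) ≤ X →
      ∃ T' F' : Subgroup G, PairV B V ZJ X T' F' ∧ T' ≤ centralizer (Y : Set G) ∧
        ∀ i, (∃ z ∈ Z i, z ≠ 1 ∧ z ∈ Y) → i ∈ Phi Z T' := by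
    intro Y hYJ hY1 hcon
    have hYne : Y ≠ ⊥ := by
      rintro rfl
      obtain ⟨z, hz, h1⟩ := hY1
      exact h1 (mem_bot.1 hz)
    have hBY : B ≤ centralizer (Y : Set G) :=
      h.lb.Bc.trans (centralizer_le (by exact_mod_cast hYJ))
    obtain ⟨T', F', hp', hle'⟩ := exists_pair h hBM hD hN hBY
      (Swap.char2_cent h.char2 (hJ2.to_le hYJ) hYne) hcon
    refine ⟨T', F', hp', hp'.syl.1.trans hle', ?_⟩
    rintro i ⟨z, hz, h1, hzY⟩ t ht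
    refine h.fix_of_comm (hTN T' hp'.syl.2.1 hp'.BT ht) hz h1 ?_
    exact (mem_centralizer_iff.1 (hle' (hp'.syl.1 ht)) z hzY).symm
  refine ⟨T, K', ⟨hp, hTS, ?_, ?_⟩⟩
  · rintro Y hYJ hPhi ⟨j, hj, hjY⟩
    by_contra hcon
    obtain ⟨z, hz, h1, hzY⟩ := hjY
    obtain ⟨T', F', hp', -, hfix⟩ := key Y hYJ ⟨z, hzY, h1⟩ hcon
    have hsub : insert j (Phi Z T) ⊆ Phi Z T' := by
      rintro i (rfl | hi)
      · exact hfix _ ⟨z, hz, h1, hzY⟩
      · exact hfix i (hPhi i hi)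
    have h2 : (Phi Z T).ncard + 1 ≤ (Phi Z T').ncard := by
      rw [← Set.ncard_insert_of_notMem hj (Set.toFinite _)]
      exact Set.ncard_le_ncard hsub (Set.toFinite _)
    have h3 := hmax' T' F' hp'
    have h4 := Nat.mul_le_mul_right (Nat.card ZJ + 1) h2
    have h5 := hle T
    simp only [μ] at h3
    rw [add_mul, one_mul] at h4
    omega
  · intro hall Y hYJ hlt
    by_contra hcon
    have hne : ∀ i, ∃ z ∈ Z i, z ≠ 1 ∧ z ∈ Y := by
      intro i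
      obtain ⟨z, hz, h1, hzT⟩ := exists_fix hp.syl.2.1 (h.Z_two i) (h.Z_ne_bot hq i) fun t ht =>
        mem_normalizer_iff_cj.2 (hall i t ht)
      exact ⟨z, hz, h1, hlt.le ⟨h.Zle i hz, hzT⟩⟩
    have hY1 : ∃ z ∈ Y, z ≠ 1 := by
      obtain ⟨i⟩ := (inferInstance : Nonempty ι)
      obtain ⟨z, hz, h1, hzY⟩ := hne i
      exact ⟨z, hzY, h1⟩
    obtain ⟨T', F', hp', hT'Y, hfix⟩ := key Y hYJ hY1 hcon
    have h2 : (Phi Z T).ncard ≤ (Phi Z T').ncard :=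
      Set.ncard_le_ncard (fun i _ => hfix i (hne i)) (Set.toFinite _)
    have h3 := hmax' T' F' hp'
    have h4 := Nat.mul_le_mul_right (Nat.card ZJ + 1) h2
    have h5 : Nat.card ↥(ZJ ⊓ centralizer (T : Set G)) < Nat.card Y := by
      refine lt_of_le_of_ne (Subgroup.card_le_of_le hlt.le) fun e => ?_
      exact hlt.ne (Subgroup.eq_of_le_of_card_ge hlt.le e.ge)
    have h6 : Nat.card Y ≤ Nat.card ↥(ZJ ⊓ centralizer (T' : Set G)) :=
      Subgroup.card_le_of_le (le_inf hYJ (le_centralizer_iff.1 hT'Y))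
    simp only [μ] at h3
    omega

end Cfsg.Agent.Omega.OM.SwapV.Q

end

section


/-!
# (Om) for `q ≥ 4` over an abstract `V`: the frame at the stages `n ≥ 0`

* `LnQ S V Q n L W Z C A q` : `FrL` over `BL S n`, `lev S n ≤ Q`, `S` permutes the triples `(W i, C i, Z i)`, coordinates
  per block;
* `LnQ.gr` : it is a ground frame `Gr` (`K = lev S (n+1)`, `B = BL S n`, `Z_J = ZL S n`).
-/

set_option autoImplicit false
set_option linter.unusedSectionVars false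

namespace Cfsg.Agent.Omega.OM.SwapV.Q

open Subgroup Cfsg Cfsg.Agent.ZN.ChoiceBase Cfsg.Agent.ZN.ChoiceSit
open Cfsg.Agent.ZN (jj zj bau zc zl o2)
open Cfsg.Agent.MinSimple.MinParabolic (IsMinPar)
open Cfsg.Agent.MinSimple.VModule (oddGen oddGen_le)
open Cfsg.Agent.Omega.NO3S.Level (lev Lev lev_isLev BO nxt)
open Cfsg.Agent.Omega.OM.LevD (LB K0)
open Cfsg.Agent.Omega.OM.Lev.Uni (FrL)
open Cfsg.Agent.Omega.OM.Swap.Fam (Fm BF fm_AA fm_best)
open Cfsg.Agent.Omega.OM.SwapL (ZL BL lb wc norm_lev Stg zc_elab)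

universe u

variable {G : Type u} [Group G] [Finite G]

/-- The frame at stage `n` over an abstract module `V`, any `q`. -/
structure LnQ {ι : Type} (S : Sylow 2 G) (V Q : Subgroup G) (n : ℕ) (L W Z C A : ι → Subgroup G) (q : ℕ) : Prop where
  fr : FrL (BL (S : Subgroup G) n) Q V (zc (lev (S : Subgroup G) n)) (ZL (S : Subgroup G) n) L W Z C A q
  levQ : lev (S : Subgroup G) n ≤ Q
  char2 : IsCharacteristicTwoType G
  low : V ≤ o2 (centralizer (zc (S : Subgroup G) : Set G))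
  noff : ∀ T : Subgroup G, IsPGroup 2 T → BL (S : Subgroup G) n ≤ T → ∀ f : G, cj f V ≤ T → V ≤ cj f T →
    ∀ x ∈ V, ∀ y ∈ V, x * (f * y * f⁻¹) = f * y * f⁻¹ * x
  perm : ∀ s ∈ (S : Subgroup G), ∀ i j, cj s (Z i) = Z j → cj s (W i) = W j ∧ cj s (C i) = C j
  co : ∀ i, ∃ (F : Type) (_ : Field F) (_ : Finite F) (_ : CharP F 2), Nat.card F = q ∧
    ∃ e : G → F × F, Cor F (S : Subgroup G) (BL (S : Subgroup G) n) L W Z i e

section line

variable {ι : Type} {S : Sylow 2 G} {V Q : Subgroup G} {n : ℕ} {L W Z C A : ι → Subgroup G} {q : ℕ}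

/-- members of lower levels centralise `V` -/
theorem LnQ.comm_V (h : LnQ S V Q n L W Z C A q) {a v : G} (ha : a ∈ lev (S : Subgroup G) n)
    (hv : v ∈ V) : a * v = v * a := h.fr.cQ (h.levQ ha) hv

theorem LnQ.V_le_X (h : LnQ S V Q n L W Z C A q) {s : ℕ} (hs : s ≤ n) : V ≤ zc (lev (S : Subgroup G) s) :=
  h.fr.VX.trans ((lev_isLev (S : Subgroup G) s).zc_le_zc (NO3S.Level.lev_mono _ hs)
    (NO3S.Level.lev_le (S : Subgroup G) n))

theorem pair_nK {K B V ZJ X T F : Subgroup G} (hl : LB S K B ZJ) (hp : PairV B V ZJ X T F)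
    (hZM : normalizer (ZJ : Set G) ≤ X) : ¬ K ≤ o2 F := fun hle =>
  hp.nM ((le_normalizer_o2 F).trans ((hl.nrm _ (isPGroup_o2 F) hle).trans hZM))

theorem pair_minPar {K B V ZJ X T F : Subgroup G} (hl : LB S K B ZJ) (hp : PairV B V ZJ X T F)
    (hZM : normalizer (ZJ : Set G) ≤ X) : IsMinPar T F := by
  refine ⟨hp.syl.1, fun hle => ?_, F ⊓ X, lt_of_le_of_ne inf_le_left fun e => hp.nM (inf_eq_left.1 e),
    fun K hTK hKF => le_inf hKF.le (hp.min K hTK hKF)⟩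
  apply pair_nK hl hp hZM
  exact (hl.KB.trans hp.BT).trans (le_o2 hp.syl.2.1 hp.syl.1 hle)

/-- the stage of a pair -/
theorem pair_stage {X T F : Subgroup G} (hp : PairV (BL (S : Subgroup G) n) V (ZL (S : Subgroup G) n) X T F)
    (hZM : normalizer (ZL (S : Subgroup G) n : Set G) ≤ X) :
    ¬ jj (S : Subgroup G) ≤ o2 F ∨ ∃ s, Stg S n T F s := by
  classical
  have hnK := pair_nK (lb S n) hp hZM
  by_cases h0 : jj (S : Subgroup G) ≤ o2 F
  · right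
    have hex : ∃ m, ¬ lev (S : Subgroup G) m ≤ o2 F := ⟨n + 1, hnK⟩
    obtain ⟨m, hm, hmin⟩ : ∃ m, ¬ lev (S : Subgroup G) m ≤ o2 F ∧ ∀ k, k < m → lev (S : Subgroup G) k ≤ o2 F :=
      ⟨Nat.find hex, Nat.find_spec hex, fun k hk => by
        by_contra hcon
        exact Nat.find_min hex hk hcon⟩
    have hmn : m ≤ n + 1 := by
      by_contra hcon
      exact hnK (hmin (n + 1) (by omega))
    obtain ⟨s, rfl⟩ : ∃ s, m = s + 1 := by
      refine ⟨m - 1, ?_⟩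
      have : m ≠ 0 := by
        rintro rfl
        exact hm h0
      omega
    exact ⟨s, by omega, hmin s (by omega), hm⟩
  · exact Or.inl h0

/-- The family of offenders. -/
theorem LnQ.fam [Finite ι] (h : LnQ S V Q n L W Z C A q) {X T F : Subgroup G}
    (hp : PairV (BL (S : Subgroup G) n) V (ZL (S : Subgroup G) n) X T F)
    (hD : centralizer (ZL (S : Subgroup G) n : Set G) ≤ X) (hTM : T ≤ X)
    (hZM : normalizer (ZL (S : Subgroup G) n : Set G) ≤ X) :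
    ∃ 𝓐 : Set (Subgroup G),
      (∀ Λ : Subgroup G, IsElementaryAbelian 2 Λ → Λ ≤ F → F ≤ normalizer (Λ : Set G) →
        Λ ≤ NoFF.Basic.V V F → Fm F Λ 𝓐) ∧
      (∃ E ∈ 𝓐, E ≤ T ∧ ¬ E ≤ o2 F) ∧
      ∀ E ∈ 𝓐, E ≤ T → E ≤ BL (S : Subgroup G) n ∧
        ((∀ a ∈ E, ∀ v ∈ V, a * v = v * a) ∨
          OM.Lev.Uni.Best (zc (lev (S : Subgroup G) n)) E) := by
  have hT2 := hp.syl.2.1
  have hKT : lev (S : Subgroup G) (n + 1) ≤ T := (lb S n).KB.trans hp.BT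
  have h0T : jj (S : Subgroup G) ≤ T :=
    (NO3S.Level.lev_mono (S : Subgroup G) (Nat.zero_le (n + 1))).trans hKT
  rcases pair_stage hp hZM with hJ | ⟨s, hs, hlow, hnle⟩
  · -- stage `-1`
    have hjT : jj T = jj (S : Subgroup G) := MinSimple.EmptyTI.jj_eq S hT2 h0T
    refine ⟨AA F, fun Λ hΛ hΛF hn _ => fm_AA hΛ hΛF hn, ?_, fun X hX hXT => ?_⟩
    · by_contra hcon
      push Not at hcon
      apply hJ
      rw [← hjT, Cfsg.Agent.ZN.ChoiceBase.jj_eq]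
      exact sSup_le fun X hX => hcon X (Swap.AA_of_syl hp.syl hX) hX.2.1
    · have h1 : X ≤ lev (S : Subgroup G) 0 := by
        have := le_jj (Swap.AA_of_le hX hXT hp.syl.1)
        rwa [hjT] at this
      have h2 : X ≤ lev (S : Subgroup G) n := h1.trans (NO3S.Level.lev_mono _ (Nat.zero_le n))
      exact ⟨(h2.trans (NO3S.Level.lev_mono _ (Nat.le_succ n))).trans (lb S n).KB,
        Or.inl fun a ha v hv => h.comm_V (h2 ha) hv⟩
  · -- stage `s`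
    have hX := zc_elab (lev (S : Subgroup G) s)
    have hFN : F ≤ normalizer (zc (lev (S : Subgroup G) s) : Set G) :=
      (le_normalizer_o2 F).trans ((LB.lev S s).nrm _ (isPGroup_o2 F) hlow)
    have hlev : ∀ j, j ≤ n + 1 → lev T j = lev (S : Subgroup G) j := LevD.lev_eq S hT2 hKT
    have hVX := h.V_le_X hs
    refine ⟨BF F (zc (lev (S : Subgroup G) s)), fun Λ hΛ hΛF hn hle => fm_best hX hFN ?_ hn, ?_, fun X hXA hXT => ?_⟩
    · refine hle.trans (NoFF.Basic.V_le fun f hf => ?_)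
      have h1 := cj_mono f hVX
      rwa [cj_eq_of_mem_normalizer (hFN hf)] at h1
    · by_contra hcon
      push Not at hcon
      apply hnle
      rw [← hlev (s + 1) (by omega)]
      have e : lev T (s + 1) = nxt T (lev T s) := rfl
      rw [e, hlev s (by omega)]
      have : Fact (Nat.Prime 2) := ⟨Nat.prime_two⟩
      have hNn : F ≤ normalizer ((F ⊓ centralizer (zc (lev (S : Subgroup G) s) : Set G) : Subgroup G) : Set G) := by
        intro f hf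
        rw [mem_normalizer_iff_cj, cj_inf, cj_centralizer, cj_eq_of_mem_normalizer (hFN hf),
          cj_eq_of_mem_normalizer (le_normalizer hf)]
      refine sup_le ?_ (sSup_le fun X hX' => hcon X ⟨hX'.1.trans hp.syl.1, hT2.to_le hX'.1, hX'.2⟩ hX'.1)
      rcases (pair_minPar (lb S n) hp hZM).sup_eq_or_inf_le (p := 2) hT2 (syl_not_dvd hp.syl)
        (N := F ⊓ centralizer (zc (lev (S : Subgroup G) s) : Set G)) inf_le_left hNn with h1 | h1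
      · exfalso
        apply hp.nM
        rw [← h1]
        refine sup_le ((inf_le_right.trans (centralizer_le ?_)).trans hD) hTM
        exact_mod_cast h.fr.ZJV.trans hVX
      · refine le_trans (fun x hx => ?_) h1
        exact ⟨hx.1, hp.syl.1 hx.1, hx.2⟩
    · have h1 : X ≤ lev (S : Subgroup G) (s + 1) := by
        rw [← hlev (s + 1) (by omega)]
        have e : lev T (s + 1) = nxt T (lev T s) := rfl
        rw [e, hlev s (by omega)]
        exact NO3S.Level.BO.le_nxt ⟨hXT, hXA.2.2⟩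
      refine ⟨(h1.trans (NO3S.Level.lev_mono _ (by omega))).trans (lb S n).KB, ?_⟩
      rcases hs.lt_or_eq with hlt | rfl
      · left
        intro a ha v hv
        exact h.comm_V (NO3S.Level.lev_mono (S : Subgroup G) (by omega : s + 1 ≤ n) (h1 ha)) hv
      · right
        exact fun F' h1 h2 => hXA.2.2.max F' h2 h1

/-- `Z_J ≤ ⟨Z i⟩` -/
theorem ZJ_le_sup [Finite ι] {B Q V X ZJ : Subgroup G} {L W Z C A : ι → Subgroup G} {q : ℕ}
    (h : FrL B Q V X ZJ L W Z C A q) : ZJ ≤ ⨆ i, Z i := by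
  classical
  have := Fintype.ofFinite ι
  intro x hx
  have h2 : x ∈ ⨆ i ∈ (Finset.univ : Finset ι), Z i := by
    refine SWQ.ModQ.W_inf_ZJ h _ x ?_ hx
    have h3 : x ∈ V := h.ZJV hx
    rw [h.V_eq] at h3
    have e : (⨆ i ∈ (Finset.univ : Finset ι), W i) = ⨆ i, W i := by simp
    rw [e]
    exact h3
  have e : (⨆ i ∈ (Finset.univ : Finset ι), Z i) = ⨆ i, Z i := by simp
  rwa [e] at h2

/-- **The frame at stage `n` is a ground frame.** -/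
theorem LnQ.gr [Finite ι] (h : LnQ S V Q n L W Z C A q) :
    Gr S (lev (S : Subgroup G) (n + 1)) (BL (S : Subgroup G) n) V (ZL (S : Subgroup G) n) L W Z C A (fun _ => q) where
  lb := lb S n
  wc := wc S n
  char2 := h.char2
  VB := h.fr.VQ.trans h.fr.QB
  el := h.fr.el
  ZJV := h.fr.ZJV
  WV := h.fr.WV
  ZW := fun i => (h.fr.blk i).ZV
  Zle := h.fr.Z_le
  cardZ := h.fr.cardZ
  cardW := fun i => by rw [(h.fr.blk i).card, h.fr.cardZ i]
  dir := h.fr.dir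
  C0 := h.fr.C0
  WjC := h.fr.WjC
  sup := ZJ_le_sup h.fr
  BL := fun i => (h.fr.blk i).BL
  LC := h.fr.LC
  AB := h.fr.AB
  AC := h.fr.AC
  root := fun i v hv hvZ z hz => SWQ.ModQ.root h.fr hv hvZ hz
  conjZ := fun r x hx => SWQ.ModQ.conj_ZJ h.fr r hx
  norm := fun g hg => by
    have h1 := h.fr.norm_of hg (NO3S.Level.normalizer_le_zc _ (norm_lev S (by omega) hg))
    exact ⟨h1.1, fun i => by obtain ⟨j, hj, -⟩ := h1.2 i; exact ⟨j, hj⟩⟩
  perm := h.perm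
  low := h.low
  noff := h.noff
  fixPt := fun _ _ hY => inf_le_right.trans (LevD.fixPt S hY.syl ((lb S n).KB.trans hY.BT) hY.min hY.nK hY.cz)
  fam := fun X T F hp hD hTM hZM => by
    obtain ⟨𝓐, h1, h2, h3⟩ := h.fam hp hD hTM hZM
    refine ⟨𝓐, h1, h2, fun E hE hET => ⟨(h3 E hE hET).1, fun i => ?_⟩⟩
    obtain ⟨hEB, h4 | h4⟩ := h3 E hE hET
    · exact Or.inl fun a ha x hx => h4 a ha x (h.fr.WV i hx)
    · exact SWQ.HThree.h2 h.fr hEB h4 i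
  co := h.co

end line

end Cfsg.Agent.Omega.OM.SwapV.Q

end

section


/-!
# One natural block with coordinates over `B`: elements of `N_G(B)` which normalise `Z` normalise `W` (`q > 2`)

`U = W × C₀`, `Z_J = Z × C₀ = C_U(B)`; `B` acts on `W` as all `(x + l y, y)`, `L` contains the diagonal elements.

* `Bk` : the structure; `Bk.of_gr` : from the frame `Gr`;
* `Bk.torus` : the diagonal elements can be taken in `N_L(B)`;
* `Bk.semi` : `x ∈ N_G(B) ∩ N_G(Z) ∩ C_G(C₀)`, `x` normalises `U` : `x` acts semilinearly on `U / C₀`;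
* `Bk.cjW` : such an `x` normalises `W`.
-/

set_option autoImplicit false
set_option linter.unusedSectionVars false

namespace Cfsg.Agent.Omega.OM.SwapV.Q

open Subgroup Cfsg Cfsg.Agent.ZN.ChoiceBase Cfsg.Agent.ZN.ChoiceSit
open Cfsg.Agent.Omega.OM.FourF (Act)
open Cfsg.Agent.Omega.NO3b.K0 (conj_mem')
open Cfsg.Agent.Omega.SQ1.Bau (mem_sup_comm)

universe u

variable {G : Type u} [Group G] {F : Type} [Field F]

/-- One natural block `W` with coordinates, over `B`. -/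
structure Bk (B ZJ L W Z C₀ : Subgroup G) (e : G → F × F) : Prop where
  B2 : IsPGroup 2 B
  BL : B ≤ L
  syl : ∀ T : Subgroup G, B ≤ T → T ≤ L → IsPGroup 2 T → T = B
  comm : ∀ v ∈ W, ∀ w ∈ W, v * w = w * v
  WC : ∀ w ∈ W, ∀ c ∈ C₀, w * c = c * w
  CC : ∀ c ∈ C₀, ∀ d ∈ C₀, c * d = d * c
  sqJ : ∀ z ∈ ZJ, z ^ 2 = 1
  dir : W ⊓ C₀ = ⊥
  ZW : Z ≤ W
  ZJeq : ZJ = Z ⊔ C₀
  nW : ∀ l ∈ L, ∀ w ∈ W, l * w * l⁻¹ ∈ W
  LC : ∀ l ∈ L, ∀ c ∈ C₀, l * c = c * l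
  mem_B : ∀ y ∈ normalizer (B : Set G), (∀ z ∈ ZJ, y * z = z * y) → IsPGroup 2 (zpowers y) → y ∈ B
  mul : ∀ v ∈ W, ∀ w ∈ W, e (v * w) = e v + e w
  inj : ∀ v ∈ W, ∀ w ∈ W, e v = e w → v = w
  surj : ∀ p, ∃ v ∈ W, e v = p
  memZ : ∀ v, v ∈ Z ↔ v ∈ W ∧ (e v).2 = 0
  bact : ∀ b ∈ B, ∃ l : F, Act W e b (fun p => (p.1 + l * p.2, p.2))
  full : ∀ l : F, ∃ b ∈ B, Act W e b (fun p => (p.1 + l * p.2, p.2))
  dg : ∀ l : F, l ≠ 0 → ∃ g ∈ L, Act W e g (fun p => (l * p.1, l⁻¹ * p.2))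

namespace Bk

variable {B ZJ L W Z C₀ : Subgroup G} {e : G → F × F}

theorem e_one (h : Bk B ZJ L W Z C₀ e) : e 1 = 0 := by
  have h1 := h.mul 1 (one_mem _) 1 (one_mem _)
  rw [mul_one] at h1
  exact left_eq_add.1 h1

theorem e_inv (h : Bk B ZJ L W Z C₀ e) {w : G} (hw : w ∈ W) : e w⁻¹ = - e w := by
  have h1 := h.mul w hw w⁻¹ (inv_mem hw)
  rw [mul_inv_cancel, h.e_one] at h1
  exact (neg_eq_of_add_eq_zero_right h1.symm).symm

/-- the coordinates on `W × C₀`, modulo `C₀` -/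
noncomputable def E (W C₀ : Subgroup G) (e : G → F × F) (u : G) : F × F :=
  haveI := Classical.propDecidable (∃ w, w ∈ W ∧ ∃ c ∈ C₀, u = w * c)
  if h : ∃ w, w ∈ W ∧ ∃ c ∈ C₀, u = w * c then e h.choose else 0

theorem E_eq (h : Bk B ZJ L W Z C₀ e) {w c : G} (hw : w ∈ W) (hc : c ∈ C₀) : E W C₀ e (w * c) = e w := by
  classical
  have hex : ∃ w', w' ∈ W ∧ ∃ c' ∈ C₀, w * c = w' * c' := ⟨w, hw, c, hc, rfl⟩
  have h1 : E W C₀ e (w * c) = e hex.choose := by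
    unfold E
    rw [dif_pos hex]
  rw [h1]
  obtain ⟨hw', c', hc', e1⟩ := hex.choose_spec
  congr 1
  have h2 : hex.choose⁻¹ * w ∈ W ⊓ C₀ := by
    refine mem_inf.2 ⟨mul_mem (inv_mem hw') hw, ?_⟩
    have e2 : hex.choose⁻¹ * w = c' * c⁻¹ := by
      calc hex.choose⁻¹ * w = hex.choose⁻¹ * (w * c) * c⁻¹ := by group
        _ = hex.choose⁻¹ * (hex.choose * c') * c⁻¹ := by rw [← e1]
        _ = c' * c⁻¹ := by group
    rw [e2]
    exact mul_mem hc' (inv_mem hc)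
  rw [h.dir, mem_bot] at h2
  exact inv_mul_eq_one.1 h2

theorem E_W (h : Bk B ZJ L W Z C₀ e) {w : G} (hw : w ∈ W) : E W C₀ e w = e w := by
  have h1 := h.E_eq hw (one_mem C₀)
  rwa [mul_one] at h1

theorem dec (h : Bk B ZJ L W Z C₀ e) {u : G} (hu : u ∈ W ⊔ C₀) : ∃ w ∈ W, ∃ c ∈ C₀, u = w * c := by
  obtain ⟨w, hw, c, hc, e1⟩ := mem_sup_comm h.WC hu
  exact ⟨w, hw, c, hc, e1⟩

theorem E_mul (h : Bk B ZJ L W Z C₀ e) {u v : G} (hu : u ∈ W ⊔ C₀) (hv : v ∈ W ⊔ C₀) :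
    E W C₀ e (u * v) = E W C₀ e u + E W C₀ e v := by
  obtain ⟨w, hw, c, hc, rfl⟩ := h.dec hu
  obtain ⟨w', hw', c', hc', rfl⟩ := h.dec hv
  have e1 : w * c * (w' * c') = (w * w') * (c * c') := by
    calc w * c * (w' * c') = w * (c * w') * c' := by group
      _ = w * (w' * c) * c' := by rw [h.WC w' hw' c hc]
      _ = (w * w') * (c * c') := by group
  rw [e1, h.E_eq (mul_mem hw hw') (mul_mem hc hc'), h.E_eq hw hc, h.E_eq hw' hc', h.mul w hw w' hw']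

/-- `E u = (a, 0)` iff `u ∈ Z_J` -/
theorem mem_ZJ_of (h : Bk B ZJ L W Z C₀ e) {u : G} (hu : u ∈ W ⊔ C₀) (h2 : (E W C₀ e u).2 = 0) : u ∈ ZJ := by
  obtain ⟨w, hw, c, hc, rfl⟩ := h.dec hu
  rw [h.E_eq hw hc] at h2
  rw [h.ZJeq]
  exact mul_mem (mem_sup_left ((h.memZ w).2 ⟨hw, h2⟩)) (mem_sup_right hc)

theorem E_of_mem_ZJ (h : Bk B ZJ L W Z C₀ e) {u : G} (hu : u ∈ ZJ) : (E W C₀ e u).2 = 0 := by
  rw [h.ZJeq] at hu
  obtain ⟨z, hz, c, hc, rfl⟩ := mem_sup_comm (fun a ha b hb => h.WC a (h.ZW ha) b hb) hu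
  rw [h.E_eq (h.ZW hz) hc]
  exact ((h.memZ z).1 hz).2

theorem E_inv (h : Bk B ZJ L W Z C₀ e) {u : G} (hu : u ∈ W ⊔ C₀) : E W C₀ e u⁻¹ = - E W C₀ e u := by
  have h1 := h.E_mul hu (inv_mem hu)
  rw [mul_inv_cancel, h.E_W (one_mem _), h.e_one] at h1
  exact (neg_eq_of_add_eq_zero_right h1.symm).symm

/-- an element of `L` acts on `W × C₀` -/
theorem L_act (h : Bk B ZJ L W Z C₀ e) {g : G} (hg : g ∈ L) {w c : G} (hc : c ∈ C₀) :
    g * (w * c) * g⁻¹ = (g * w * g⁻¹) * c := by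
  have h1 : c * g⁻¹ = g⁻¹ * c := by
    have h2 := h.LC g hg c hc
    calc c * g⁻¹ = g⁻¹ * (g * c) * g⁻¹ := by group
      _ = g⁻¹ * (c * g) * g⁻¹ := by rw [h2]
      _ = g⁻¹ * c := by group
  calc g * (w * c) * g⁻¹ = g * w * (c * g⁻¹) := by group
    _ = (g * w * g⁻¹) * c := by rw [h1]; group

theorem L_act_mem (h : Bk B ZJ L W Z C₀ e) {g : G} (hg : g ∈ L) {u : G} (hu : u ∈ W ⊔ C₀) :
    g * u * g⁻¹ ∈ W ⊔ C₀ := by
  obtain ⟨w, hw, c, hc, rfl⟩ := h.dec hu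
  rw [h.L_act hg hc]
  exact mul_mem (mem_sup_left (h.nW g hg w hw)) (mem_sup_right hc)

theorem E_act (h : Bk B ZJ L W Z C₀ e) {g : G} (hg : g ∈ L) {f : F × F → F × F} (ha : Act W e g f) {u : G}
    (hu : u ∈ W ⊔ C₀) : E W C₀ e (g * u * g⁻¹) = f (E W C₀ e u) := by
  obtain ⟨w, hw, c, hc, rfl⟩ := h.dec hu
  rw [h.L_act hg hc, h.E_eq (h.nW g hg w hw) hc, h.E_eq hw hc]
  exact ha w hw

/-- **the diagonal elements normalise `B`** -/
theorem torus [Finite G] (h : Bk B ZJ L W Z C₀ e) {l : F} (hl : l ≠ 0) :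
    ∃ g ∈ L, g ∈ normalizer (B : Set G) ∧ ∃ m : F, Act W e g (fun p => (l * p.1 + m * p.2, l⁻¹ * p.2)) := by
  obtain ⟨g, hg, ha⟩ := h.dg l hl
  have hnW := h.nW
  let X : Subgroup G :=
    { carrier := {x | x ∈ L ∧ ∃ m : F, Act W e x (fun p => (p.1 + m * p.2, p.2))}
      one_mem' := ⟨one_mem _, 0, fun w _ => by simp⟩
      mul_mem' := by
        rintro x y ⟨hx, m, hxm⟩ ⟨hy, m', hym⟩
        refine ⟨mul_mem hx hy, m + m', fun w hw => ?_⟩
        have e1 : x * y * w * (x * y)⁻¹ = x * (y * w * y⁻¹) * x⁻¹ := by group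
        rw [e1, hxm _ (hnW y hy w hw), hym w hw]
        ext <;> simp <;> ring
      inv_mem' := by
        rintro x ⟨hx, m, hxm⟩
        refine ⟨inv_mem hx, -m, fun w hw => ?_⟩
        have h1 : x⁻¹ * w * x⁻¹⁻¹ ∈ W := hnW _ (inv_mem hx) w hw
        have h2 := hxm _ h1
        have e1 : x * (x⁻¹ * w * x⁻¹⁻¹) * x⁻¹ = w := by group
        rw [e1] at h2
        set p := e (x⁻¹ * w * x⁻¹⁻¹) with hp
        rw [h2]
        ext <;> simp }
  have hXL : X ≤ L := fun x hx => hx.1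
  have hBX : B ≤ X := fun b hb => ⟨h.BL hb, h.bact b hb⟩
  have hgX : cj g X ≤ X := by
    rintro _ ⟨x, ⟨hx, m, hxm⟩, rfl⟩
    show g * x * g⁻¹ ∈ X
    refine ⟨mul_mem (mul_mem hg hx) (inv_mem hg), l * m * l, fun w hw => ?_⟩
    have h1 : g⁻¹ * w * g⁻¹⁻¹ ∈ W := hnW _ (inv_mem hg) w hw
    have h2 := ha _ h1
    have e1 : g * (g⁻¹ * w * g⁻¹⁻¹) * g⁻¹ = w := by group
    rw [e1] at h2
    have e2 : g * x * g⁻¹ * w * (g * x * g⁻¹)⁻¹ = g * (x * (g⁻¹ * w * g⁻¹⁻¹) * x⁻¹) * g⁻¹ := by group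
    rw [e2, ha _ (hnW x hx _ h1), hxm _ h1]
    set p := e (g⁻¹ * w * g⁻¹⁻¹) with hp
    rw [h2]
    ext
    · simp only
      field_simp
    · simp only
  have hS1 : Syl B X := ⟨hBX, h.B2, fun T hT h2 hle => h.syl T hle (hT.trans hXL) h2⟩
  have hgX' : cj g X = X := Subgroup.eq_of_le_of_card_ge hgX (by rw [card_cj])
  have hS2 : Syl (cj g B) X := by
    refine ⟨(cj_mono g hBX).trans hgX, isPGroup_cj g h.B2, fun T hT h2 hle => ?_⟩
    have h3 := hS1.2.2 (cj g⁻¹ T) (by rw [cj_le_iff, inv_inv, hgX']; exact hT) (isPGroup_cj _ h2) (by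
      rw [← cj_inv_cj g B]; exact cj_mono _ hle)
    have h4 := congrArg (cj g) h3
    rwa [cj_cj_inv] at h4
  obtain ⟨x, ⟨hx, m, hxm⟩, ex⟩ := syl_conj hS2 hS1
  refine ⟨x * g, mul_mem hx hg, ?_, m * l⁻¹, fun w hw => ?_⟩
  · rw [mem_normalizer_iff_cj, ← cj_cj, ex]
  · have e1 : x * g * w * (x * g)⁻¹ = x * (g * w * g⁻¹) * x⁻¹ := by group
    rw [e1, hxm _ (hnW g hg w hw), ha w hw]
    ext <;> simp [mul_assoc]

/-- an element of `N_G(B) ∩ C_G(Z_J)` with `[U, y] ≤ Z_J` acts on `U` as an element of `B` -/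
theorem act_B [Finite G] (h : Bk B ZJ L W Z C₀ e) {y : G} (hy : y ∈ normalizer (B : Set G))
    (hz : ∀ z ∈ ZJ, y * z = z * y) (hU : ∀ u ∈ W ⊔ C₀, u⁻¹ * (y * u * y⁻¹) ∈ ZJ) :
    ∃ b ∈ B, ∀ u ∈ W ⊔ C₀, y * u * y⁻¹ = b * u * b⁻¹ := by
  obtain ⟨a, r, hr, e1⟩ := Nat.exists_eq_two_pow_mul_odd (orderOf_pos y).ne'
  refine ⟨y ^ r, h.mem_B _ (pow_mem hy r) (fun z hz' => ?_) ?_, ?_⟩
  · exact ((show Commute y z from hz z hz').pow_left r).eq
  · refine IsPGroup.of_card (n := a) ?_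
    rw [Nat.card_zpowers, orderOf_pow' y hr.pos.ne', e1]
    have h1 : Nat.gcd (2 ^ a * r) r = r := Nat.gcd_eq_right (Dvd.intro_left _ rfl)
    rw [h1]
    exact Nat.mul_div_cancel _ hr.pos
  · -- `y ^ 2` centralises `U`
    have h2 : ∀ u ∈ W ⊔ C₀, y ^ 2 * u * (y ^ 2)⁻¹ = u := by
      intro u hu
      have h3 := hU u hu
      set f := u⁻¹ * (y * u * y⁻¹) with hf
      have e2 : y * u * y⁻¹ = u * f := by rw [hf]; group
      have e3 : y * f * y⁻¹ = f := by rw [hz f h3]; group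
      have e4 : f * f = 1 := by rw [← pow_two]; exact h.sqJ f h3
      calc y ^ 2 * u * (y ^ 2)⁻¹ = y * (y * u * y⁻¹) * y⁻¹ := by rw [pow_two]; group
        _ = y * (u * f) * y⁻¹ := by rw [e2]
        _ = (y * u * y⁻¹) * (y * f * y⁻¹) := by group
        _ = u * f * f := by rw [e2, e3]
        _ = u * (f * f) := mul_assoc _ _ _
        _ = u := by rw [e4, mul_one]
    have h3 : ∀ n : ℕ, ∀ u ∈ W ⊔ C₀, (y ^ 2) ^ n * u * ((y ^ 2) ^ n)⁻¹ = u := by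
      intro n u hu
      have h4 : Commute (y ^ 2) u := mul_inv_eq_iff_eq_mul.1 (h2 u hu)
      have h5 := (h4.pow_left n).eq
      rw [h5]; group
    intro u hu
    obtain ⟨n, rfl⟩ := hr
    have e2 : y ^ (2 * n + 1) = y * (y ^ 2) ^ n := by rw [pow_succ, pow_mul]; exact (Commute.refl y).pow_left 2 |>.pow_left n |>.eq
    have e3 : y ^ (2 * n + 1) * u * (y ^ (2 * n + 1))⁻¹ = y * ((y ^ 2) ^ n * u * ((y ^ 2) ^ n)⁻¹) * y⁻¹ := by
      rw [e2]; group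
    rw [e3, h3 n u hu]

/-- **Semilinearity.** `x ∈ N_G(B)` normalises `Z`, `U`, centralises `C₀`: there are `σ`-like maps: `α`, `β` with
`x (p) = (α p.1 + δ p.2, β p.2)` and for every `l ≠ 0` an `l' ≠ 0` with `α (l a) = l' α a`, `β (l⁻¹ a) = l'⁻¹ β a`. -/
theorem semi [Finite G] (h : Bk B ZJ L W Z C₀ e) {x : G} (hx : x ∈ normalizer (B : Set G)) (hZ : cj x Z = Z)
    (hC : ∀ c ∈ C₀, x * c = c * x) (hU : ∀ w ∈ W, x * w * x⁻¹ ∈ W ⊔ C₀) :
    ∃ α δ β : F → F, (∀ w ∈ W, E W C₀ e (x * w * x⁻¹) = (α (e w).1 + δ (e w).2, β (e w).2)) ∧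
      ∀ l : F, l ≠ 0 → ∃ l' : F, l' ≠ 0 ∧ (l' = 1 → l = 1) ∧ (∀ a, α (l * a) = l' * α a) ∧
        ∀ a, β (l⁻¹ * a) = l'⁻¹ * β a := by
  classical
  choose s hsW hse using h.surj
  have hs : ∀ w ∈ W, s (e w) = w := fun w hw => h.inj _ (hsW _) _ hw (hse _)
  have hsm : ∀ p p', s (p + p') = s p * s p' := fun p p' =>
    h.inj _ (hsW _) _ (mul_mem (hsW _) (hsW _)) (by rw [h.mul _ (hsW _) _ (hsW _), hse, hse, hse])
  set X : F × F → F × F := fun p => E W C₀ e (x * s p * x⁻¹) with hX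
  have hXm : ∀ p p', X (p + p') = X p + X p' := by
    intro p p'
    have e1 : x * s (p + p') * x⁻¹ = (x * s p * x⁻¹) * (x * s p' * x⁻¹) := by rw [hsm]; group
    simp only [hX]
    rw [e1, h.E_mul (hU _ (hsW _)) (hU _ (hsW _))]
  have hZx : ∀ z ∈ Z, x * z * x⁻¹ ∈ Z := fun z hz => by
    have h1 : x * z * x⁻¹ ∈ cj x Z := ⟨z, hz, rfl⟩
    rwa [hZ] at h1
  have hsZ : ∀ a : F, s (a, 0) ∈ Z := fun a => (h.memZ _).2 ⟨hsW _, by rw [hse]⟩
  have hX0 : ∀ a : F, (X (a, 0)).2 = 0 := fun a => by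
    have h1 := hZx _ (hsZ a)
    simp only [hX]
    rw [h.E_W (h.ZW h1)]
    exact ((h.memZ _).1 h1).2
  set α : F → F := fun a => (X (a, 0)).1 with hα
  set δ : F → F := fun a => (X (0, a)).1 with hδ
  set β : F → F := fun a => (X (0, a)).2 with hβ
  have hXp : ∀ p : F × F, X p = (α p.1 + δ p.2, β p.2) := by
    intro p
    have e1 : p = (p.1, 0) + (0, p.2) := by ext <;> simp
    conv_lhs => rw [e1]
    rw [hXm]
    ext
    · rfl
    · show (X (p.1, 0)).2 + (X (0, p.2)).2 = β p.2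
      rw [hX0, zero_add]
  -- commutation with `B`
  have hrel : ∀ m : F, ∃ m' : F, ∀ y : F, α (m * y) = m' * β y := by
    intro m
    obtain ⟨b, hb, hbm⟩ := h.full m
    have hb' : x * b * x⁻¹ ∈ B := (mem_normalizer_iff.1 hx b).1 hb
    obtain ⟨m', hm'⟩ := h.bact _ hb'
    refine ⟨m', fun y => ?_⟩
    have e1 : b * s (0, y) * b⁻¹ = s (m * y, y) := by
      refine h.inj _ (h.nW b (h.BL hb) _ (hsW _)) _ (hsW _) ?_
      rw [hbm _ (hsW _), hse, hse]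
      ext <;> simp
    have e2 : x * s (m * y, y) * x⁻¹ = (x * b * x⁻¹) * (x * s (0, y) * x⁻¹) * (x * b * x⁻¹)⁻¹ := by
      rw [← e1]; group
    have h1 : X (m * y, y) = ((X (0, y)).1 + m' * (X (0, y)).2, (X (0, y)).2) := by
      have h2 := h.E_act (h.BL hb') hm' (hU _ (hsW (0, y)))
      rw [← e2] at h2
      exact h2
    have h2 := congrArg Prod.fst h1
    rw [hXp (m * y, y), hXp (0, y)] at h2
    have hα0 : α 0 = 0 := by
      have h3 := hXm (0, 0) (0, 0)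
      have h4 : ((0 : F), (0 : F)) + (0, 0) = (0, 0) := by ext <;> simp
      rw [h4] at h3
      have h5 := left_eq_add.1 h3
      show (X (0, 0)).1 = 0
      rw [h5]; rfl
    simp only [hα0, zero_add] at h2
    rw [add_comm] at h2
    exact add_left_cancel h2
  -- injectivity
  have hxinv : ∀ u ∈ ZJ, x⁻¹ * u * x ∈ ZJ := by
    intro u hu
    rw [h.ZJeq] at hu ⊢
    obtain ⟨z, hz, c, hc, rfl⟩ := mem_sup_comm (fun a ha b hb => h.WC a (h.ZW ha) b hb) hu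
    have h1 : x⁻¹ * z * x ∈ Z := by
      have h2 : z ∈ cj x Z := by rw [hZ]; exact hz
      exact mem_cj.1 h2
    have h2 : x⁻¹ * c * x = c := by
      have h3 := hC c hc
      calc x⁻¹ * c * x = x⁻¹ * (c * x) := by group
        _ = x⁻¹ * (x * c) := by rw [h3]
        _ = c := by group
    have e1 : x⁻¹ * (z * c) * x = (x⁻¹ * z * x) * (x⁻¹ * c * x) := by group
    rw [e1, h2]
    exact mul_mem (mem_sup_left h1) (mem_sup_right hc)
  have hβ1 : β 1 ≠ 0 := by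
    intro h0
    have h1 : x * s (0, 1) * x⁻¹ ∈ ZJ := h.mem_ZJ_of (hU _ (hsW _)) h0
    have h2 := hxinv _ h1
    have e1 : x⁻¹ * (x * s (0, 1) * x⁻¹) * x = s (0, 1) := by group
    rw [e1] at h2
    have h3 := h.E_of_mem_ZJ h2
    rw [h.E_W (hsW _), hse] at h3
    exact one_ne_zero h3
  have hα1 : ∀ a, α a = 0 → a = 0 := by
    intro a h0
    have h1 := hZx _ (hsZ a)
    have h2 : e (x * s (a, 0) * x⁻¹) = 0 := by
      rw [← h.E_W (h.ZW h1)]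
      exact Prod.ext h0 (hX0 a)
    have h3 : x * s (a, 0) * x⁻¹ = 1 := h.inj _ (h.ZW h1) _ (one_mem _) (by rw [h2, h.e_one])
    have h4 : s (a, 0) = 1 := conj_eq_one_iff.1 h3
    have h5 := hse (a, 0)
    rw [h4, h.e_one] at h5
    exact (congrArg Prod.fst h5).symm
  have hα1' : α 1 ≠ 0 := fun h0 => one_ne_zero (hα1 1 h0)
  have r1 : ∀ m y, α (m * y) * β 1 = α m * β y := by
    intro m y
    obtain ⟨m', hm'⟩ := hrel m
    have h1 := hm' 1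
    rw [mul_one] at h1
    rw [hm' y, h1]; ring
  have r2 : ∀ y, α y * β 1 = α 1 * β y := fun y => by
    have h1 := r1 1 y
    rwa [one_mul] at h1
  have r3 : ∀ y, β y = α y * β 1 / α 1 := fun y => by
    rw [r2 y]; field_simp
  have r4 : ∀ l a, α (l * a) = α l / α 1 * α a := by
    intro l a
    have h1 := r1 l a
    rw [r3 a] at h1
    have h2 : α (l * a) * β 1 = (α l / α 1 * α a) * β 1 := by rw [h1]; ring
    exact mul_right_cancel₀ hβ1 h2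
  refine ⟨α, δ, β, fun w hw => ?_, fun l hl => ⟨α l / α 1, div_ne_zero (fun h0 => hl (hα1 l h0)) hα1', ?_, r4 l, ?_⟩⟩
  · have h1 := hXp (e w)
    simp only [hX] at h1
    rwa [hs w hw] at h1
  · intro h1
    have h2 : α l = α 1 := by rw [div_eq_one_iff_eq hα1'] at h1; exact h1
    have h3 : α (l - 1) = 0 := by
      have h4 := hXm (l - 1, 0) (1, 0)
      have e1 : ((l - 1, 0) : F × F) + (1, 0) = (l, 0) := by ext <;> simp
      rw [e1] at h4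
      have h5 := congrArg Prod.fst h4
      have h6 : α l = α (l - 1) + α 1 := h5
      rw [h2] at h6
      exact right_eq_add.1 h6
    exact sub_eq_zero.1 (hα1 _ h3)
  · intro a
    have hl' : α l / α 1 ≠ 0 := div_ne_zero (fun h0 => hl (hα1 l h0)) hα1'
    have h1 : α a = α l / α 1 * α (l⁻¹ * a) := by
      rw [← r4 l (l⁻¹ * a), mul_inv_cancel_left₀ hl]
    have h2 : α (l⁻¹ * a) = (α l / α 1)⁻¹ * α a := by
      rw [h1, inv_mul_cancel_left₀ hl']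
    rw [r3 (l⁻¹ * a), h2, r3 a]
    ring

/-- **`x ∈ N_G(B)` which normalises `Z`, `W C₀` and centralises `C₀` normalises `W`.** -/
theorem cjW [Finite G] (h : Bk B ZJ L W Z C₀ e) (hF : ∃ l : F, l ≠ 0 ∧ l ≠ 1) {x : G}
    (hx : x ∈ normalizer (B : Set G)) (hZ : cj x Z = Z)
    (hC : ∀ c ∈ C₀, x * c = c * x) (hU : ∀ w ∈ W, x * w * x⁻¹ ∈ W ⊔ C₀) (hU' : ∀ w ∈ W, x⁻¹ * w * x ∈ W ⊔ C₀) :
    ∀ w ∈ W, x * w * x⁻¹ ∈ W := by
  obtain ⟨α, δ, β, hact, hsemi⟩ := h.semi hx hZ hC hU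
  obtain ⟨l, hl0, hl1⟩ := hF
  obtain ⟨l', hl0', hl1', hα, hβ⟩ := hsemi l hl0
  obtain ⟨g, hgL, hgB, m, hg⟩ := h.torus hl0
  obtain ⟨k, hkL, hkB, m', hk⟩ := h.torus hl0'
  have hZx : ∀ z ∈ Z, x⁻¹ * z * x ∈ Z := fun z hz => by
    have h1 : z ∈ cj x Z := by rw [hZ]; exact hz
    exact mem_cj.1 h1
  have hCx : ∀ c ∈ C₀, x * c * x⁻¹ = c := fun c hc => by rw [hC c hc]; group
  have hCx' : ∀ c ∈ C₀, x⁻¹ * c * x = c := fun c hc => by
    have h3 := hC c hc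
    calc x⁻¹ * c * x = x⁻¹ * (c * x) := by group
      _ = x⁻¹ * (x * c) := by rw [h3]
      _ = c := by group
  have hUx : ∀ u ∈ W ⊔ C₀, x * u * x⁻¹ ∈ W ⊔ C₀ := by
    intro u hu
    obtain ⟨w, hw, c, hc, rfl⟩ := h.dec hu
    have e1 : x * (w * c) * x⁻¹ = (x * w * x⁻¹) * (x * c * x⁻¹) := by group
    rw [e1, hCx c hc]
    exact mul_mem (hU w hw) (mem_sup_right hc)
  have hUx' : ∀ u ∈ W ⊔ C₀, x⁻¹ * u * x ∈ W ⊔ C₀ := by
    intro u hu
    obtain ⟨w, hw, c, hc, rfl⟩ := h.dec hu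
    have e1 : x⁻¹ * (w * c) * x = (x⁻¹ * w * x) * (x⁻¹ * c * x) := by group
    rw [e1, hCx' c hc]
    exact mul_mem (hU' w hw) (mem_sup_right hc)
  have hEx : ∀ u ∈ W ⊔ C₀, E W C₀ e (x * u * x⁻¹) = (α (E W C₀ e u).1 + δ (E W C₀ e u).2, β (E W C₀ e u).2) := by
    intro u hu
    obtain ⟨w, hw, c, hc, rfl⟩ := h.dec hu
    have e1 : x * (w * c) * x⁻¹ = (x * w * x⁻¹) * (x * c * x⁻¹) := by group
    rw [e1, hCx c hc, h.E_mul (hU w hw) (mem_sup_right hc), h.E_eq hw hc, hact w hw]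
    have h2 : E W C₀ e c = 0 := by
      have h3 := h.E_eq (one_mem W) hc
      rwa [one_mul, h.e_one] at h3
    rw [h2, add_zero]
  -- `y = k⁻¹ (x g x⁻¹)`
  set n : G := x * g * x⁻¹ with hn
  have hnB : n ∈ normalizer (B : Set G) := mul_mem (mul_mem hx hgB) (inv_mem hx)
  have hnC : ∀ c ∈ C₀, n * c * n⁻¹ = c := by
    intro c hc
    have h1 : g * c * g⁻¹ = c := by rw [h.LC g hgL c hc]; group
    calc n * c * n⁻¹ = x * (g * (x⁻¹ * c * x) * g⁻¹) * x⁻¹ := by rw [hn]; group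
      _ = c := by rw [hCx' c hc, h1, hCx c hc]
  have hnU : ∀ u ∈ W ⊔ C₀, n * u * n⁻¹ ∈ W ⊔ C₀ := by
    intro u hu
    have e1 : n * u * n⁻¹ = x * (g * (x⁻¹ * u * x) * g⁻¹) * x⁻¹ := by rw [hn]; group
    rw [e1]
    exact hUx _ (h.L_act_mem hgL (hUx' u hu))
  have hEn : ∀ u ∈ W ⊔ C₀, (E W C₀ e (n * u * n⁻¹)).2 = l'⁻¹ * (E W C₀ e u).2 := by
    intro u hu
    have e1 : n * u * n⁻¹ = x * (g * (x⁻¹ * u * x) * g⁻¹) * x⁻¹ := by rw [hn]; group
    have h1 := hEx _ (h.L_act_mem hgL (hUx' u hu))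
    have h2 := h.E_act hgL hg (hUx' u hu)
    have h3 := hEx _ (hUx' u hu)
    have e2 : x * (x⁻¹ * u * x) * x⁻¹ = u := by group
    rw [e2] at h3
    rw [e1, h1, h2]
    simp only
    rw [hβ, h3]
  have hEnZ : ∀ u ∈ Z, (E W C₀ e (n * u * n⁻¹)).1 = l' * (E W C₀ e u).1 := by
    intro u hu
    have huU : u ∈ W ⊔ C₀ := mem_sup_left (h.ZW hu)
    have e1 : n * u * n⁻¹ = x * (g * (x⁻¹ * u * x) * g⁻¹) * x⁻¹ := by rw [hn]; group
    have h1 := hEx _ (h.L_act_mem hgL (hUx' u huU))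
    have h2 := h.E_act hgL hg (hUx' u huU)
    have h3 := hEx _ (hUx' u huU)
    have e2 : x * (x⁻¹ * u * x) * x⁻¹ = u := by group
    rw [e2] at h3
    have h4 : (E W C₀ e (x⁻¹ * u * x)).2 = 0 := h.E_of_mem_ZJ (by
      rw [h.ZJeq]; exact mem_sup_left (hZx u hu))
    have h5 : δ 0 = 0 := by
      have h6 := hEx 1 (one_mem _)
      have h7 : E W C₀ e 1 = 0 := by rw [h.E_W (one_mem _), h.e_one]
      have h8 := hα 0
      rw [mul_zero] at h8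
      have h9 : α 0 = 0 := by
        have h10 : (l' - 1) * α 0 = 0 := by rw [sub_mul, one_mul, ← h8, sub_self]
        exact (mul_eq_zero.1 h10).resolve_left fun h0 => hl1 (hl1' (sub_eq_zero.1 h0))
      have e3 : x * 1 * x⁻¹ = 1 := by group
      rw [e3, h7] at h6
      have h11 := congrArg Prod.fst h6
      simp only [Prod.fst_zero, Prod.snd_zero, h9, zero_add] at h11
      exact h11.symm
    rw [e1, h1, h2, h3, h4]
    simp only [mul_zero, add_zero, h5, hα]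
  set y : G := k⁻¹ * n with hy
  have hyB : y ∈ normalizer (B : Set G) := mul_mem (inv_mem hkB) hnB
  have hkC : ∀ c ∈ C₀, k⁻¹ * c * k = c := fun c hc => by
    have h3 := h.LC k hkL c hc
    calc k⁻¹ * c * k = k⁻¹ * (c * k) := by group
      _ = k⁻¹ * (k * c) := by rw [h3]
      _ = c := by group
  have hkZ : ∀ z ∈ ZJ, k⁻¹ * z * k ∈ ZJ := by
    intro z hz
    have hzU : z ∈ W ⊔ C₀ := by
      rw [h.ZJeq] at hz
      exact sup_le_sup_right h.ZW _ hz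
    have h1 := h.L_act_mem (inv_mem hkL) hzU
    rw [inv_inv] at h1
    refine h.mem_ZJ_of h1 ?_
    have h2 := h.E_act hkL hk h1
    have e1 : k * (k⁻¹ * z * k) * k⁻¹ = z := by group
    rw [e1] at h2
    have h3 := h.E_of_mem_ZJ hz
    rw [h2] at h3
    exact (mul_eq_zero.1 h3).resolve_left (inv_ne_zero hl0')
  have hyZ : ∀ z ∈ ZJ, y * z = z * y := by
    intro z hz
    rw [h.ZJeq] at hz
    obtain ⟨a, ha, c, hc, rfl⟩ := mem_sup_comm (fun a ha b hb => h.WC a (h.ZW ha) b hb) hz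
    have h1 : n * a * n⁻¹ = k * a * k⁻¹ := by
      have ha' : x⁻¹ * a * x ∈ Z := hZx a ha
      have hgZ : g * (x⁻¹ * a * x) * g⁻¹ ∈ Z := (h.memZ _).2 ⟨h.nW g hgL _ (h.ZW ha'), by
        rw [hg _ (h.ZW ha')]
        simp only
        rw [((h.memZ _).1 ha').2, mul_zero]⟩
      have hnZ : n * a * n⁻¹ ∈ Z := by
        have e1 : n * a * n⁻¹ = x * (g * (x⁻¹ * a * x) * g⁻¹) * x⁻¹ := by rw [hn]; group
        rw [e1, ← hZ]
        exact ⟨_, hgZ, rfl⟩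
      refine h.inj _ (h.ZW hnZ) _ (h.nW k hkL a (h.ZW ha)) ?_
      rw [hk a (h.ZW ha)]
      have h2 := hEnZ a ha
      rw [h.E_W (h.ZW hnZ), h.E_W (h.ZW ha)] at h2
      have h3 := ((h.memZ _).1 hnZ).2
      have h4 := ((h.memZ _).1 ha).2
      ext
      · simp only
        rw [h2, h4, mul_zero, add_zero]
      · simp only
        rw [h3, h4, mul_zero]
    have h2 : y * a * y⁻¹ = a := by
      calc y * a * y⁻¹ = k⁻¹ * (n * a * n⁻¹) * k := by rw [hy]; group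
        _ = a := by rw [h1]; group
    have h3 : y * c * y⁻¹ = c := by
      calc y * c * y⁻¹ = k⁻¹ * (n * c * n⁻¹) * k := by rw [hy]; group
        _ = c := by rw [hnC c hc, hkC c hc]
    have h4 : y * (a * c) * y⁻¹ = a * c := by
      calc y * (a * c) * y⁻¹ = (y * a * y⁻¹) * (y * c * y⁻¹) := by group
        _ = a * c := by rw [h2, h3]
    exact mul_inv_eq_iff_eq_mul.1 h4
  have hyU : ∀ u ∈ W ⊔ C₀, u⁻¹ * (y * u * y⁻¹) ∈ ZJ := by
    intro u hu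
    have hku := h.L_act_mem hkL hu
    have h1 : (k * u * k⁻¹)⁻¹ * (n * u * n⁻¹) ∈ ZJ := by
      refine h.mem_ZJ_of (mul_mem (inv_mem hku) (hnU u hu)) ?_
      rw [h.E_mul (inv_mem hku) (hnU u hu), h.E_inv hku, h.E_act hkL hk hu, Prod.snd_add, hEn u hu, Prod.snd_neg]
      simp
    have e1 : u⁻¹ * (y * u * y⁻¹) = k⁻¹ * ((k * u * k⁻¹)⁻¹ * (n * u * n⁻¹)) * k := by rw [hy]; group
    rw [e1]
    exact hkZ _ h1
  obtain ⟨b, hb, hbU⟩ := h.act_B hyB hyZ hyU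
  -- the end
  intro w hw
  -- `w = g w₀ g⁻¹ w₀⁻¹`
  obtain ⟨w₀, hw₀, e0⟩ : ∃ w₀ ∈ W, g * w₀ * g⁻¹ * w₀⁻¹ = w := by
    have hl2 : l - 1 ≠ 0 := sub_ne_zero.2 hl1
    have hl3 : l⁻¹ - 1 ≠ 0 := sub_ne_zero.2 fun h0 => hl1 (by rw [← inv_inv l, h0, inv_one])
    obtain ⟨w₀, hw₀, e1⟩ := h.surj (((e w).1 - m * ((e w).2 / (l⁻¹ - 1))) / (l - 1), (e w).2 / (l⁻¹ - 1))
    have hgw := h.nW g hgL w₀ hw₀
    refine ⟨w₀, hw₀, h.inj _ (mul_mem hgw (inv_mem hw₀)) _ hw ?_⟩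
    rw [h.mul _ hgw _ (inv_mem hw₀), h.e_inv hw₀, hg w₀ hw₀, e1]
    ext
    · simp only [Prod.fst_add, Prod.fst_neg]
      field_simp
      ring
    · simp only [Prod.snd_add, Prod.snd_neg]
      have e2 : l⁻¹ * ((e w).2 / (l⁻¹ - 1)) + -((e w).2 / (l⁻¹ - 1)) = (l⁻¹ - 1) * ((e w).2 / (l⁻¹ - 1)) := by ring
      rw [e2, mul_div_cancel₀ _ hl3]
  set u : G := x * w₀ * x⁻¹ with hu
  have huU : u ∈ W ⊔ C₀ := hU w₀ hw₀
  have e1 : x * w * x⁻¹ = (n * u * n⁻¹) * u⁻¹ := by rw [← e0, hn, hu]; group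
  obtain ⟨w₁, hw₁, c₁, hc₁, e2⟩ := h.dec huU
  have e3 : n * u * n⁻¹ = k * (y * u * y⁻¹) * k⁻¹ := by rw [hy]; group
  have e4 : k * (b * (w₁ * c₁) * b⁻¹) * k⁻¹ = (k * (b * w₁ * b⁻¹) * k⁻¹) * c₁ := by
    rw [h.L_act (h.BL hb) hc₁, h.L_act hkL hc₁]
  rw [e1, e3, hbU u huU, e2, e4]
  have e5 : k * (b * w₁ * b⁻¹) * k⁻¹ * c₁ * (w₁ * c₁)⁻¹ = (k * (b * w₁ * b⁻¹) * k⁻¹) * w₁⁻¹ := by group
  rw [e5]
  exact mul_mem (h.nW k hkL _ (h.nW b (h.BL hb) _ hw₁)) (inv_mem hw₁)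

end Bk

end Cfsg.Agent.Omega.OM.SwapV.Q

end
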