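import Cfsg.Agent.Mrg.Omega.OM.SwapV.Q.Def
import Cfsg.Agent.Mrg.Omega.OM.SwapV.Q.NegMod
import Cfsg.Agent.Mrg.Omega.OM.SwapV.NegPair
import Cfsg.Agent.Mrg.Omega.OM.Var.UniPlusV
import Cfsg.Agent.Mrg.Omega.FF.GlobEnd
import Cfsg.Agent.Mrg.Omega.NOThreeL.RRed.BFr.Noff
import Cfsg.Agent.Mrg.Omega.OM.Lev.Main

section


/-!
# (Om) for `q ≥ 4` over an abstract `V`: the frame at the stage `-1`

* `NegQ S V Q L W Z C A q` : `Uni.Fr` over `B = bau S`, `Z_J = zj S`, `V ≤ O₂(C_G(Z))`, `V` and `V^f` commute, `S` permutes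
  the triples `(W i, C i, Z i)`, coordinates per block;
* `NegQ.gr` : it is a ground frame `Gr` (`K = J(S)`, `B = bau S`, `Z_J = zj S`).
-/

set_option autoImplicit false
set_option linter.unusedSectionVars false

namespace Cfsg.Agent.Omega.OM.SwapV.Q

open Subgroup Cfsg Cfsg.Agent.ZN.ChoiceBase Cfsg.Agent.ZN.ChoiceSit
open Cfsg.Agent.ZN (jj zj bau zc zl o2)
open Cfsg.Agent.MinSimple.MinParabolic (IsMinPar)
open Cfsg.Agent.MinSimple.VModule (oddGen oddGen_le)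
open Cfsg.Agent.Omega.OM.LevD (LB K0)
open Cfsg.Agent.Omega.OM.Uni (Fr FB)
open Cfsg.Agent.Omega.OM.Swap.Fam (Fm BF fm_AA fm_best)

universe u

variable {G : Type u} [Group G] [Finite G]

/-- The frame at stage `-1` over an abstract module `V`, any `q`. -/
structure NegQ {ι : Type} (S : Sylow 2 G) (V Q : Subgroup G) (L W Z C A : ι → Subgroup G) (q : ℕ) : Prop where
  fr : Fr (bau (S : Subgroup G)) Q V (zj (S : Subgroup G)) L W Z C A q (mm (S : Subgroup G))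
  char2 : IsCharacteristicTwoType G
  low : V ≤ o2 (centralizer (zc (S : Subgroup G) : Set G))
  noff : ∀ T : Subgroup G, IsPGroup 2 T → bau (S : Subgroup G) ≤ T → ∀ f : G, cj f V ≤ T → V ≤ cj f T →
    ∀ x ∈ V, ∀ y ∈ V, x * (f * y * f⁻¹) = f * y * f⁻¹ * x
  perm : ∀ s ∈ (S : Subgroup G), ∀ i j, cj s (Z i) = Z j → cj s (W i) = W j ∧ cj s (C i) = C j
  co : ∀ i, ∃ (F : Type) (_ : Field F) (_ : Finite F) (_ : CharP F 2), Nat.card F = q ∧
    ∃ e : G → F × F, Cor F (S : Subgroup G) (bau (S : Subgroup G)) L W Z i e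

section line

variable {ι : Type} {S : Sylow 2 G} {V Q : Subgroup G} {L W Z C A : ι → Subgroup G} {q : ℕ}

/-- **(U1)** -/
theorem NegQ.norm [Finite ι] (h : NegQ S V Q L W Z C A q) {g : G}
    (hg : g ∈ normalizer (bau (S : Subgroup G) : Set G)) :
    cj g V = V ∧ ∀ i, ∃ j, cj g (Z i) = Z j ∧ cj g (W i) ≤ W j ⊔ zj (S : Subgroup G) := by
  have hgB := cj_eq_of_mem_normalizer hg
  have hVB : V ≤ bau (S : Subgroup G) := h.fr.VQ.trans h.fr.QB
  refine h.fr.norm_of hg fun w hw v hv => ?_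
  obtain ⟨y, hy, rfl⟩ := hw
  refine (h.noff _ (S.isPGroup'.to_le (bau_le _)) le_rfl g ?_ ?_ v hv y hy).symm
  · have h1 := cj_mono g hVB
    rwa [hgB] at h1
  · rw [hgB]
    exact hVB

theorem NegQ.norm_le [Finite ι] (h : NegQ S V Q L W Z C A q) :
    normalizer (bau (S : Subgroup G) : Set G) ≤ normalizer (V : Set G) := fun g hg => by
  rw [mem_normalizer_iff_cj]
  exact (h.norm hg).1

/-- The family of offenders: `AA F`. -/
theorem NegQ.fam (h : NegQ S V Q L W Z C A q) {X T F : Subgroup G}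
    (hp : PairV (bau (S : Subgroup G)) V (zj (S : Subgroup G)) X T F)
    (hZM : normalizer (zj (S : Subgroup G) : Set G) ≤ X) :
    ∃ 𝓐 : Set (Subgroup G),
      (∀ Λ : Subgroup G, IsElementaryAbelian 2 Λ → Λ ≤ F → F ≤ normalizer (Λ : Set G) →
        Λ ≤ NoFF.Basic.V V F → Fm F Λ 𝓐) ∧
      (∃ E ∈ 𝓐, E ≤ T ∧ ¬ E ≤ o2 F) ∧
      ∀ E ∈ 𝓐, E ≤ T → E ≤ bau (S : Subgroup G) ∧ ∀ i, (∀ a ∈ E, ∀ x ∈ W i, a * x = x * a) ∨
        Z i ≤ closure {y | ∃ x ∈ W i, ∃ a ∈ E, y = x * (a * x * a⁻¹)} := by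
  have hT2 := hp.syl.2.1
  have h0T : jj (S : Subgroup G) ≤ T := (jj_le_bau _).trans hp.BT
  have hjT : jj T = jj (S : Subgroup G) := MinSimple.EmptyTI.jj_eq S hT2 h0T
  have hJ : ¬ jj (S : Subgroup G) ≤ o2 F := fun hle =>
    hp.nM ((le_normalizer_o2 F).trans (((LB.neg S).nrm _ (isPGroup_o2 F) hle).trans hZM))
  refine ⟨AA F, fun Λ hΛ hΛF hn _ => fm_AA hΛ hΛF hn, ?_, fun E hE hET => ?_⟩
  · by_contra hcon
    push Not at hcon
    apply hJ
    rw [← hjT, Cfsg.Agent.ZN.ChoiceBase.jj_eq]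
    exact sSup_le fun E hE => hcon E (Swap.AA_of_syl hp.syl hE) hE.2.1
  · have hET' := Swap.AA_of_le hE hET hp.syl.1
    have h1 : E ≤ jj (S : Subgroup G) := by
      have := le_jj hET'
      rwa [hjT] at this
    have h2 : Nat.card E = mm (S : Subgroup G) := by
      rw [← mm_bau (S : Subgroup G), ← LemmaK.Main.bau_eq S hT2 hp.BT, mm_bau, mm_eq hET']
    exact ⟨h1.trans (jj_le_bau _), fun i => NegMod.h2 h.fr (h1.trans (jj_le_bau _)) hET'.1 h2 i⟩

/-- **The frame at stage `-1` is a ground frame.** -/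
theorem NegQ.gr [Finite ι] (h : NegQ S V Q L W Z C A q) :
    Gr S (jj (S : Subgroup G)) (bau (S : Subgroup G)) V (zj (S : Subgroup G)) L W Z C A (fun _ => q) where
  lb := LB.neg S
  wc := UniPlus.wc_bau S
  char2 := h.char2
  VB := h.fr.VQ.trans h.fr.QB
  el := h.fr.el
  ZJV := h.fr.ZJV
  WV := h.fr.WV
  ZW := fun i => (h.fr.blk i).ZV
  Zle := h.fr.Z_le
  cardZ := h.fr.cardZ
  cardW := fun i => by rw [(h.fr.blk i).card, h.fr.cardZ i]
  dir := h.fr.dir
  C0 := h.fr.C0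
  WjC := h.fr.WjC
  sup := NegMod.ZJ_le_sup h.fr
  BL := fun i => (h.fr.blk i).BL
  LC := h.fr.LC
  AB := h.fr.AB
  AC := h.fr.AC
  root := fun i v hv hvZ z hz => NegMod.root h.fr hv hvZ hz
  conjZ := fun r x hx => NegMod.conj_ZJ h.fr r hx
  norm := fun g hg => by
    have h1 := h.norm hg
    exact ⟨h1.1, fun i => by obtain ⟨j, hj, -⟩ := h1.2 i; exact ⟨j, hj⟩⟩
  perm := h.perm
  low := h.low
  noff := h.noff
  fixPt := fun _ _ hY => inf_le_right.trans (LevD.fixPt_neg S hY.syl ((jj_le_bau _).trans hY.BT) hY.min hY.nK hY.cz)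
  fam := fun X T F hp _ _ hZM => h.fam hp hZM
  co := h.co

end line

end Cfsg.Agent.Omega.OM.SwapV.Q

end

section


/-!
# (Om) for `q ≥ 4` over an abstract `V`, stage `-1`: the groups `Y i = C_G(Z j : j ≠ i)`

* `NegQ.bfr` : the frame `Var.Bfr` (constant `q`), at least two blocks;
* `NegQ.K0_le` : `⟨C_G(Z_J), all blocks over B⟩ ≤ ⟨Y i⟩`;
* `NegQ.bmv` : `BMV (J(S)) B X` for `X ≥ ⟨Y i⟩, N_G(B)`.
-/

set_option autoImplicit false
set_option linter.unusedSectionVars false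

namespace Cfsg.Agent.Omega.OM.SwapV.Q

open Subgroup Cfsg Cfsg.Agent.ZN.ChoiceBase Cfsg.Agent.ZN.ChoiceSit
open Cfsg.Agent.ZN (jj zj bau zc zl o2)
open Cfsg.Agent.MinSimple.MinParabolic (IsMinPar)
open Cfsg.Agent.Omega.OM.LevD (LB)
open Cfsg.Agent.Omega.OM.Uni (Fr FB)
open Cfsg.Agent.Omega.OM.Var (Bfr YY EE YY_le_EE)
open Cfsg.Agent.Omega.OM.BlkGen (FBlk)

universe u

variable {G : Type u} [Group G]

/-- the frame `Var.Fr` with constant `q` -/
theorem var_of_fr {ι : Type*} {B Q V ZJ : Subgroup G} {L W Z C A : ι → Subgroup G} {q m : ℕ}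
    (h : Fr B Q V ZJ L W Z C A q m) : Var.Fr B Q V ZJ L W Z C A (fun _ => q) m where
  max := h.max
  blk := h.blk
  cardZ := h.cardZ
  QB := h.QB
  VQ := h.VQ
  el := h.el
  mem_Q := h.mem_Q
  zcQ := h.zcQ
  mem_ZJ := h.mem_ZJ
  LV := h.LV
  LQ := h.LQ
  WV := h.WV
  CV := h.CV
  WC := h.WC
  dir := h.dir
  C0 := h.C0
  WjC := h.WjC
  BC := h.BC
  LC := h.LC
  AB := h.AB
  Ael := h.Ael
  Am := h.Am
  Ane := h.Ane
  AC := h.AC

section line

variable [Finite G] {ι : Type} [Finite ι] {S : Sylow 2 G} {V Q : Subgroup G} {L W Z C A : ι → Subgroup G} {q : ℕ}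

/-- the frame over the Baumann group -/
theorem NegQ.bfr [Nonempty ι] (h : NegQ S V Q L W Z C A q) (hq : 4 ≤ q) (h2 : ∀ i : ι, ∃ j, j ≠ i) :
    Bfr S Q V L W Z C A (fun _ => q) (mm (S : Subgroup G)) where
  char2 := h.char2
  fr := var_of_fr h.fr
  com := by
    rintro g hg _ ⟨y, hy, rfl⟩ v hv
    have hgB := cj_eq_of_mem_normalizer hg
    have hVB : V ≤ bau (S : Subgroup G) := h.fr.VQ.trans h.fr.QB
    refine (h.noff _ (S.isPGroup'.to_le (bau_le _)) le_rfl g ?_ ?_ v hv y hy).symm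
    · have h1 := cj_mono g hVB
      rwa [hgB] at h1
    · rw [hgB]
      exact hVB
  two := h2
  four := by
    rintro ⟨h1, -⟩
    have := h1 (Classical.arbitrary ι)
    omega

/-- `⟨C_G(Z_J), blocks⟩ ≤ ⟨Y i⟩` -/
theorem NegQ.K0_le [Nonempty ι] (h : NegQ S V Q L W Z C A q) (hq : 4 ≤ q) (h2 : ∀ i : ι, ∃ j, j ≠ i) :
    Dich.K0 (S : Subgroup G) (FBlk (S : Subgroup G)) ≤ EE Z := (h.bfr hq h2).K0_le

/-- the minimal parabolics which move `Ω₁Z(T)` -/
theorem NegQ.bmv [Nonempty ι] (h : NegQ S V Q L W Z C A q) (hq : 4 ≤ q) (h2 : ∀ i : ι, ∃ j, j ≠ i) {X : Subgroup G}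
    (hE : EE Z ≤ X) (hN : normalizer (bau (S : Subgroup G) : Set G) ≤ X) :
    BMV (jj (S : Subgroup G)) (bau (S : Subgroup G)) X := by
  intro T Y hT hB hY hc _ hZ
  refine ((h.bfr hq h2).par_le FF.Glob.ffthm hT hB hY hc hZ).trans (sup_le hE ?_)
  refine (LB.neg S).norm_zj_le.trans (sup_le ?_ hN)
  exact (((h.bfr hq h2).cent_le (Classical.arbitrary ι)).trans (YY_le_EE Z _)).trans hE

end line

end Cfsg.Agent.Omega.OM.SwapV.Q

end

section


/-!
# NO-3L, box R, `q ≥ 4`: the ground frames `LnQ` (levels) and `NegQ` (stage `-1`) from `DataLow`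

`V = ⟨V_P : P ∈ PP⟩`, `PP ⊆ P*(S)` (for one class: `PP = {P}`, `V* = zl S P`).

* `lnQ_of_data` : `LnQ` from `FrL`, `lev S n ≤ Q`, `perm`, `co`;
* `negQ_of_data` : `NegQ` from `Uni.Fr`, `perm`, `co`;
* `perm_of` : `perm` from: `S` permutes the blocks and the lines, `C i` = the product of the other blocks.
-/

set_option autoImplicit false
set_option linter.unusedSectionVars false

namespace Cfsg.Agent.Omega.NOThreeL.RRed.BFr.DataQ

open Subgroup Cfsg Cfsg.Agent.Omega.MinPar Cfsg.Agent.Omega.Frame Cfsg.Agent.ZN.ChoiceBase Cfsg.Agent.ZN.ChoiceSit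
open Cfsg.Agent.ZN (zc zl o2 zj bau)
open Cfsg.Agent.Omega.OM.SwapV.Q
open Cfsg.Agent.Omega.NO3S.Level (lev)
open Cfsg.Agent.Omega.OM.SwapL (ZL BL lb)
open Cfsg.Agent.Omega.OM.Lev.Uni (FrL)
open Cfsg.Agent.Omega.Node.NO3L (DataLow)
open Cfsg.Agent.Omega.NOThreeL.RRed.BFr.Noff (low comm_S comm_T)

universe u

variable {G : Type u} [Group G] [Finite G] {S : Sylow 2 G} {V : Subgroup G} {PP : Set (Subgroup G)}

/-- **The ground frame at the levels in box R, any `q`.** -/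
theorem lnQ_of_data {ι : Type} [Finite ι] {Q : Subgroup G} {n : ℕ} {L W Z C A : ι → Subgroup G} {q : ℕ}
    (hG : IsCharacteristicTwoType G) (D : DataLow (S : Subgroup G)) (hPP : ∀ P ∈ PP, IsParS (S : Subgroup G) P)
    (hV : V = ⨆ P ∈ PP, zl (S : Subgroup G) P)
    (fr : FrL (BL (S : Subgroup G) n) Q V (zc (lev (S : Subgroup G) n)) (ZL (S : Subgroup G) n) L W Z C A q)
    (levQ : lev (S : Subgroup G) n ≤ Q)
    (perm : ∀ s ∈ (S : Subgroup G), ∀ i j, cj s (Z i) = Z j → cj s (W i) = W j ∧ cj s (C i) = C j)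
    (co : ∀ i, ∃ (F : Type) (_ : Field F) (_ : Finite F) (_ : CharP F 2), Nat.card F = q ∧
      ∃ e : G → F × F, Cor F (S : Subgroup G) (BL (S : Subgroup G) n) L W Z i e) : LnQ S V Q n L W Z C A q where
  fr := fr
  levQ := levQ
  char2 := hG
  low := low D hPP hV
  noff := fun T hT hB f h1 h2 x hx y hy => by
    have hN : normalizer (BL (S : Subgroup G) n : Set G) ≤ normalizer (V : Set G) := fun g hg => by
      rw [mem_normalizer_iff_cj]
      exact (fr.norm_of hg (NO3S.Level.normalizer_le_zc _ (OM.SwapL.norm_lev S (by omega) hg))).1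
    have h3 := comm_T D hPP hV (OM.SwapL.wc S n) (lb S n).BS hN hT hB h1 h2 hx
    exact (mem_centralizer_iff.1 h3 _ ⟨y, hy, rfl⟩).symm
  perm := perm
  co := co

/-- **The ground frame at stage `-1` in box R, any `q`.** -/
theorem negQ_of_data {ι : Type} [Finite ι] {Q : Subgroup G} {L W Z C A : ι → Subgroup G} {q : ℕ}
    (hG : IsCharacteristicTwoType G) (D : DataLow (S : Subgroup G))
    (hPP : ∀ P ∈ PP, IsParS (S : Subgroup G) P) (hV : V = ⨆ P ∈ PP, zl (S : Subgroup G) P)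
    (fr : Cfsg.Agent.Omega.OM.Uni.Fr (bau (S : Subgroup G)) Q V (zj (S : Subgroup G)) L W Z C A q
      (mm (S : Subgroup G)))
    (perm : ∀ s ∈ (S : Subgroup G), ∀ i j, cj s (Z i) = Z j → cj s (W i) = W j ∧ cj s (C i) = C j)
    (co : ∀ i, ∃ (F : Type) (_ : Field F) (_ : Finite F) (_ : CharP F 2), Nat.card F = q ∧
      ∃ e : G → F × F, Cor F (S : Subgroup G) (bau (S : Subgroup G)) L W Z i e) : NegQ S V Q L W Z C A q where
  fr := fr
  char2 := hG
  low := low D hPP hV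
  noff := fun T hT hB g h1 h2 x hx y hy => by
    have hVB : V ≤ bau (S : Subgroup G) := fr.VQ.trans fr.QB
    have hN : normalizer (bau (S : Subgroup G) : Set G) ≤ normalizer (V : Set G) := fun g hg => by
      have hgB := cj_eq_of_mem_normalizer hg
      rw [mem_normalizer_iff_cj]
      refine (fr.norm_of hg fun w hw v hv => ?_).1
      have k1 : cj g V ≤ (S : Subgroup G) := by
        have := cj_mono g hVB
        rw [hgB] at this
        exact this.trans (bau_le _)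
      have k2 : V ≤ cj g (S : Subgroup G) := by
        have := cj_mono g (bau_le (S : Subgroup G))
        rw [hgB] at this
        exact hVB.trans this
      exact mem_centralizer_iff.1 (comm_S D hPP hV k1 k2 hv) w hw
    have h3 := comm_T D hPP hV (OM.UniPlus.wc_bau S) (bau_le _) hN hT hB h1 h2 hx
    exact (mem_centralizer_iff.1 h3 _ ⟨y, hy, rfl⟩).symm
  perm := perm
  co := co

omit [Finite G] in
/-- **`perm`**: `S` permutes the blocks `W i` and the lines `Z i ≠ 1`; `C i` is the product of the other blocks. -/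
theorem perm_of {ι : Type*} {S₀ : Subgroup G} {W Z C : ι → Subgroup G} (hZW : ∀ i, Z i ≤ W i) (hZ : ∀ i, Z i ≠ ⊥)
    (hdir : ∀ i j, i ≠ j → W i ⊓ W j = ⊥) (hC : ∀ i, C i = ⨆ j : {j : ι // j ≠ i}, W j)
    (hW : ∀ s ∈ S₀, ∀ i, ∃ j, cj s (W i) = W j) :
    ∀ s ∈ S₀, ∀ i j, cj s (Z i) = Z j → cj s (W i) = W j ∧ cj s (C i) = C j := by
  intro s hs i j hij
  -- `s` maps `W i` to `W j`
  have key : ∀ a b, (∃ x ∈ W a, x ≠ 1 ∧ s * x * s⁻¹ ∈ W b) → cj s (W a) = W b := by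
    rintro a b ⟨x, hx, hx1, hxb⟩
    obtain ⟨c, hc⟩ := hW s hs a
    have h1 : s * x * s⁻¹ ∈ W c := by rw [← hc]; exact ⟨x, hx, rfl⟩
    by_cases hbc : b = c
    · rw [hbc]; exact hc
    · exfalso
      have h2 : s * x * s⁻¹ ∈ W b ⊓ W c := ⟨hxb, h1⟩
      rw [hdir b c hbc, mem_bot] at h2
      apply hx1
      have : x = s⁻¹ * (s * x * s⁻¹) * s := by group
      rw [this, h2]; group
  have hneZ : ∀ a, ∃ x ∈ Z a, x ≠ 1 := fun a => by
    obtain ⟨z, hz⟩ := (Subgroup.ne_bot_iff_exists_ne_one (H := Z a)).1 (hZ a)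
    exact ⟨z, z.2, fun e => hz (Subtype.ext e)⟩
  have hWij : cj s (W i) = W j := by
    apply key
    obtain ⟨z, hz, hz1⟩ := hneZ i
    refine ⟨z, hZW i hz, hz1, hZW j ?_⟩
    rw [← hij]; exact ⟨z, hz, rfl⟩
  refine ⟨hWij, ?_⟩
  have hinj : ∀ {a b c : ι}, cj s (W a) = W c → cj s (W b) = W c → a = b := by
    intro a b c h1 h2
    by_contra hab
    obtain ⟨x, hx, hx1⟩ := hneZ a
    have h3 : x ∈ W b := by
      have h4 : s * x * s⁻¹ ∈ cj s (W b) := by rw [h2, ← h1]; exact ⟨x, hZW a hx, rfl⟩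
      obtain ⟨y, hy, e⟩ := h4
      have h5 : x = y := by
        have e' : s * y * s⁻¹ = s * x * s⁻¹ := e
        exact (mul_left_cancel (mul_right_cancel e')).symm
      rw [h5]; exact hy
    have h6 : x ∈ W a ⊓ W b := ⟨hZW a hx, h3⟩
    rw [hdir a b hab, mem_bot] at h6
    exact hx1 h6
  have e1 : cj s (C i) = ⨆ k : {k : ι // k ≠ i}, cj s (W k) := by
    rw [hC i]
    exact Subgroup.map_iSup _ _
  rw [e1, hC j]
  apply le_antisymm
  · refine iSup_le fun k => ?_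
    obtain ⟨c, hc⟩ := hW s hs k
    have hcj : c ≠ j := fun e => k.2 (hinj (by rw [hc, e]) hWij)
    rw [hc]
    exact le_iSup (fun k : {k : ι // k ≠ j} => W k) ⟨c, hcj⟩
  · refine iSup_le fun k => ?_
    obtain ⟨c, hc⟩ := hW s⁻¹ (inv_mem hs) k
    have hc' : cj s (W c) = W k := by rw [← hc, cj_cj_inv]
    have hci : c ≠ i := by
      rintro rfl
      rw [hWij] at hc'
      obtain ⟨z, hz, hz1⟩ := hneZ j
      have h6 : z ∈ W j ⊓ W k := ⟨hZW j hz, by rw [← hc']; exact hZW j hz⟩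
      rw [hdir j k (Ne.symm k.2), mem_bot] at h6
      exact hz1 h6
    rw [← hc']
    exact le_iSup (fun k : {k : ι // k ≠ i} => cj s (W k)) ⟨c, hci⟩

end Cfsg.Agent.Omega.NOThreeL.RRed.BFr.DataQ

end

section


/-!
# (Om) for `q ≥ 4` over an abstract `V`: the frames `LnQ`, `NegQ` from one natural `P ∈ P*(S)` (no `HypN`)

`P ∈ P*(S)`, `C_Z(P) = 1`, `V_P` a sum of `k` natural `SL₂(F)`-modules, no mutual pairs, all lines low (`DataLow S`):

* `cor_of_md` : the coordinates `Cor` from `FourF.MD`;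
* `lnQ_of` : stage `n ≥ 0` (`lev S n ≤ O₂(P)`, `lev S (n + 1) ≰ O₂(P)`);
* `negQ_of` : stage `-1` (`J(S) ≰ O₂(P)`).
-/

set_option autoImplicit false
set_option linter.unusedSectionVars false

namespace Cfsg.Agent.Omega.OM.SwapV.Q.OfNat

open Subgroup Cfsg Cfsg.Agent.ZN Cfsg.Agent.ZN.ChoiceBase Cfsg.Agent.ZN.ChoiceSit Cfsg.Agent.Omega.MinPar
open Cfsg.Agent.Omega.Frame
open Cfsg.Agent.Omega.NatPair (ap ap_zero' ap_one' ap_one ap_mul ext2 exists_ap)
open Cfsg.Agent.Lib.SL2Mat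
open Cfsg.Agent.Omega.FFThm (NatK ActsSL NatKM)
open Cfsg.Agent.Omega.FrameFF (cv)
open Cfsg.Agent.Omega.NO3S.OneLine (NatC)
open Cfsg.Agent.Omega.NO3S.Level (lev Lev lev_isLev)
open Cfsg.Agent.Omega.OM.SwapL (ZL BL lb wc norm_lev)
open Cfsg.Agent.Omega.OM.FourF (Act MD dl dl_ap' dl_zero' dl_one')
open Cfsg.Agent.Omega.OM.YThm (Cd Cn Nm rs)
open Cfsg.Agent.Omega.OM.Lev.Uni (FrL)
open Cfsg.Agent.Omega.Node.NO3L (DataLow)
open Cfsg.Agent.Omega.NOThreeL.RRed.BFr.Noff (comm_S comm_T)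

universe u

section gen

variable {G : Type*} [Group G] {F : Type} [Field F] {S P V D : Subgroup G} {k : ℕ} (N : NatK F S P V D k)

/-- `g` acts on the coordinates as `A` -/
def ActN (g : G) (A : Fin k → Matrix.SpecialLinearGroup (Fin 2) F) : Prop :=
  ∀ v ∈ V, ∀ i, N.e (g * v * g⁻¹) i = ap (A i) (N.e v i)

variable {N} {B ZJ : Subgroup G} {L W Z C : Fin k → Subgroup G} {z₀ f₀ : Fin k → F}

theorem one_of (m : MD N B ZJ W Z z₀ f₀) {i : Fin k} {A : Matrix.SpecialLinearGroup (Fin 2) F} {g : G} (hg : g ∈ P)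
    (hgA : ActN N g (Function.update 1 i A)) : g ∈ normalizer (W i : Set G) ∧
    (∀ w ∈ W i, N.e (g * w * g⁻¹) i = ap A (N.e w i)) ∧ ∀ j, j ≠ i → ∀ w ∈ W j, g * w = w * g := by
  classical
  have hgV : ∀ v ∈ V, g * v * g⁻¹ ∈ V := fun v hv => (mem_normalizer_iff.1 (m.PV hg) v).1 hv
  have hgV' : ∀ v, g * v * g⁻¹ ∈ V → v ∈ V := fun v hv => (mem_normalizer_iff.1 (m.PV hg) v).2 hv
  have hz0 : ∀ B : Matrix.SpecialLinearGroup (Fin 2) F, ap B (0 : Fin 2 → F) = 0 := by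
    intro B
    apply ext2
    · rw [ap_zero']; simp
    · rw [ap_one']; simp
  refine ⟨?_, fun w hw => ?_, fun j hj w hw => ?_⟩
  · rw [mem_normalizer_iff]
    intro v
    rw [m.mem_W, m.mem_W]
    constructor
    · rintro ⟨h1, h2⟩
      refine ⟨hgV v h1, fun j hj => ?_⟩
      rw [hgA v h1, h2 j hj, hz0]
    · rintro ⟨h1, h2⟩
      have h3 := hgV' v h1
      refine ⟨h3, fun j hj => ?_⟩
      have h4 := h2 j hj
      rw [hgA v h3, Function.update_of_ne hj, Pi.one_apply, ap_one] at h4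
      exact h4
  · rw [hgA w (m.WV hw), Function.update_self]
  · have h1 := m.WV hw
    have h2 : g * w * g⁻¹ = w := by
      refine m.inj (hgV w h1) h1 ?_
      funext l
      rw [hgA w h1]
      by_cases hl : l = i
      · subst hl
        rw [((m.mem_W j w).1 hw).2 l (Ne.symm hj), hz0]
      · rw [Function.update_of_ne hl, Pi.one_apply, ap_one]
    exact mul_inv_eq_iff_eq_mul.1 h2

theorem up_up [CharP F 2] (c : F) (x : Fin 2 → F) : ap (up c) (ap (up c) x) = x := by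
  rw [← ap_mul, up_mul, CharTwo.add_self_eq_zero, up_zero, ap_one]

/-- elements of `L i` which act on the `i`-th block only -/
theorem exists_pure [CharP F 2] (m : MD N B ZJ W Z z₀ f₀) (BLi : ∀ i, B ≤ L i)
    (LX : ∀ i, ∀ l ∈ L i, l ∈ P ∧ ∃ A, ActN N l A ∧ ∀ j, j ≠ i → ∃ c, A j = up c)
    (acts : ∀ i A, ∃ l ∈ L i, ∃ A', ActN N l A' ∧ A' i = A)
    (hup : ∀ c : Fin k → F, ∃ b ∈ B, ActN N b fun i => up (c i)) (i : Fin k)
    (A : Matrix.SpecialLinearGroup (Fin 2) F) : ∃ g ∈ L i, ActN N g (Function.update 1 i A) := by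
  classical
  obtain ⟨l, hl, A', hA', hAi⟩ := acts i A
  obtain ⟨hlP, A'', hA'', hup''⟩ := LX i l hl
  choose c hc using hup''
  obtain ⟨b, hb, hbA⟩ := hup fun j => if h : j = i then 0 else c j h
  refine ⟨b * l, mul_mem (BLi i hb) hl, fun v hv j => ?_⟩
  have hlv : l * v * l⁻¹ ∈ V := (mem_normalizer_iff.1 (m.PV hlP) v).1 hv
  have e1 : b * l * v * (b * l)⁻¹ = b * (l * v * l⁻¹) * b⁻¹ := by group
  rw [e1, hbA _ hlv j]
  by_cases hj : j = i
  · subst hj
    beta_reduce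
    rw [dif_pos rfl, up_zero, ap_one, hA' v hv j, hAi, Function.update_self]
  · beta_reduce
    rw [dif_neg hj, hA'' v hv j, hc j hj, up_up, Function.update_of_ne hj, Pi.one_apply, ap_one]

/-- **The coordinates `Cor`.** -/
theorem cor_of_md [Finite F] [CharP F 2] (m : MD N B ZJ W Z z₀ f₀) (i : Fin k)
    (BLi : ∀ i, B ≤ L i) (LX : ∀ i, ∀ l ∈ L i, l ∈ P ∧ ∃ A, ActN N l A ∧ ∀ j, j ≠ i → ∃ c, A j = up c)
    (acts : ∀ i A, ∃ l ∈ L i, ∃ A', ActN N l A' ∧ A' i = A)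
    (hup : ∀ c : Fin k → F, ∃ b ∈ B, ActN N b fun i => up (c i)) :
    Cor F S B L W Z i (MD.co N z₀ f₀ i) where
  mul := fun v hv w hw => m.co_mul (m.WV hv) (m.WV hw)
  inj := fun v hv w hw => m.co_inj hv hw
  surj := m.co_surj i
  memZ := fun v => m.co_Z
  act := fun t ht hZ => m.act ht hZ
  full := m.full i
  sl := fun a b c d hd => by
    obtain ⟨A, hA⟩ := dl_ap' (m.hz i) (m.hf i) (Cfsg.Agent.Lib.SL2Mat.mk a b c d hd)
    obtain ⟨g, hg, hgA⟩ := exists_pure m BLi LX acts hup i A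
    obtain ⟨h1, h2, h3⟩ := one_of m (LX i g hg).1 hgA
    refine ⟨g, hg, h1, fun w hw => ?_, h3⟩
    have h4 := hA (N.e w i)
    rw [← h2 w hw] at h4
    have h5 := congrFun h4 0
    have h6 := congrFun h4 1
    rw [dl_zero', ap_zero', mk_00, mk_01] at h5
    rw [dl_one', ap_one', mk_10, mk_11] at h6
    ext
    · rw [MD.co_fst]; exact h5
    · rw [MD.co_snd]; exact h6

/-- `P` permutes the pairs `(W i, C i)` -/
theorem perm_WC (hVn : ∀ g ∈ P, ∀ v ∈ V, g * v * g⁻¹ ∈ V) (mem_W : ∀ i v, v ∈ W i ↔ v ∈ V ∧ ∀ j, j ≠ i → N.e v j = 0)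
    (mem_C : ∀ i v, v ∈ C i ↔ v ∈ V ∧ N.e v i = 0) {g : G} (hg : g ∈ P) :
    ∃ σ : Equiv.Perm (Fin k), ∀ i, cj g (W i) = W (σ i) ∧ cj g (C i) = C (σ i) := by
  obtain ⟨σ, hσ⟩ := N.perm g hg
  refine ⟨σ, fun i => ?_⟩
  have hgv : ∀ x ∈ V, g⁻¹ * x * g ∈ V := by
    intro x hx
    have := hVn g⁻¹ (inv_mem hg) x hx
    rwa [inv_inv] at this
  have e0 : ∀ x : G, g * (g⁻¹ * x * g) * g⁻¹ = x := fun x => by group
  constructor
  · ext x
    rw [mem_cj, mem_W, mem_W]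
    constructor
    · rintro ⟨hx, hx'⟩
      have hxV : x ∈ V := by
        have := hVn g hg _ hx
        rwa [e0] at this
      refine ⟨hxV, fun j hj => ?_⟩
      have h1 := (hσ _ hx (σ.symm j)).2 (hx' _ fun e => hj (by rw [← e, Equiv.apply_symm_apply]))
      rwa [Equiv.apply_symm_apply, e0] at h1
    · rintro ⟨hx, hx'⟩
      refine ⟨hgv x hx, fun j hj => ?_⟩
      refine (hσ _ (hgv x hx) j).1 ?_
      rw [e0]
      exact hx' _ fun e => hj (σ.injective e)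
  · ext x
    rw [mem_cj, mem_C, mem_C]
    constructor
    · rintro ⟨hx, hx'⟩
      have hxV : x ∈ V := by
        have := hVn g hg _ hx
        rwa [e0] at this
      have h1 := (hσ _ hx i).2 hx'
      rw [e0] at h1
      exact ⟨hxV, h1⟩
    · rintro ⟨hx, hx'⟩
      refine ⟨hgv x hx, (hσ _ (hgv x hx) i).1 ?_⟩
      rw [e0]
      exact hx'

/-- the pairs with the lines -/
theorem perm_of (hVn : ∀ g ∈ P, ∀ v ∈ V, g * v * g⁻¹ ∈ V) (mem_W : ∀ i v, v ∈ W i ↔ v ∈ V ∧ ∀ j, j ≠ i → N.e v j = 0)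
    (mem_C : ∀ i v, v ∈ C i ↔ v ∈ V ∧ N.e v i = 0) (mem_Z : ∀ i v, v ∈ Z i ↔ v ∈ W i ∧ N.e v i 1 = 0) {g : G}
    (hg : g ∈ P) {i j : Fin k} (hZ : cj g (Z i) = Z j) : cj g (W i) = W j ∧ cj g (C i) = C j := by
  classical
  obtain ⟨σ, hσ⟩ := perm_WC hVn mem_W mem_C hg
  suffices h : σ i = j by
    rw [← h]; exact hσ i
  by_contra hne
  obtain ⟨v, hv, e⟩ := N.surj (Function.update 0 j ![1, 0])
  have hvW : v ∈ W j := (mem_W j v).2 ⟨hv, fun l hl => by rw [e, Function.update_of_ne hl]; rfl⟩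
  have hvZ : v ∈ Z j := (mem_Z j v).2 ⟨hvW, by rw [e, Function.update_self]; rfl⟩
  have h1 : v ∈ W (σ i) := by
    rw [← (hσ i).1]
    rw [← hZ] at hvZ
    exact cj_mono g (fun x hx => ((mem_Z i x).1 hx).1) hvZ
  have h2 := ((mem_W _ v).1 h1).2 j (Ne.symm hne)
  rw [e, Function.update_self] at h2
  have := congrFun h2 0
  simp at this

end gen

section lev

variable {G : Type u} [Group G] [Finite G] {S : Sylow 2 G} {P : Subgroup G} {F : Type} [Field F] [Finite F] [CharP F 2]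
  {k : ℕ}

theorem norm_V_of_fr {ι : Type*} [Finite ι] {n : ℕ} {Q V : Subgroup G} {L W Z C A : ι → Subgroup G} {q : ℕ}
    (fr : FrL (BL (S : Subgroup G) n) Q V (zc (lev (S : Subgroup G) n)) (ZL (S : Subgroup G) n) L W Z C A q) :
    normalizer (BL (S : Subgroup G) n : Set G) ≤ normalizer (V : Set G) := fun g hg => by
  rw [mem_normalizer_iff_cj]
  exact (fr.norm_of hg (NO3S.Level.normalizer_le_zc _ (norm_lev S (by omega) hg))).1

/-- **The frame at stage `n ≥ 0`.** -/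
theorem lnQ_of (hG : IsCharacteristicTwoType G) (D : DataLow (S : Subgroup G)) (hP : IsParS (S : Subgroup G) P)
    (hcen : zc (S : Subgroup G) ⊓ centralizer (P : Set G) = ⊥) {n : ℕ} (hn : lev (S : Subgroup G) n ≤ o2 P)
    (hn1 : ¬ lev (S : Subgroup G) (n + 1) ≤ o2 P) (hk0 : 0 < k)
    (N : NatKM F (S : Subgroup G) P (zl (S : Subgroup G) P) (cv (S : Subgroup G) P) k) :
    ∃ L W Z C A : Fin k → Subgroup G, LnQ S (zl (S : Subgroup G) P) (o2 P) n L W Z C A (Nat.card F) ∧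
      (∀ i, L i ≤ P) ∧ (∀ i v, v ∈ W i ↔ v ∈ zl (S : Subgroup G) P ∧ ∀ j, j ≠ i → N.e v j = 0) ∧
      (∀ i v, v ∈ Z i ↔ v ∈ W i ∧ N.e v i 1 = 0) ∧ ∀ i v, v ∈ C i ↔ v ∈ zl (S : Subgroup G) P ∧ N.e v i = 0 := by
  classical
  have hL := lev_isLev (S : Subgroup G) n
  have hJ := NO3S.exists_BO hG hP hn hn1
  obtain ⟨E, -⟩ := NO3S.OneLine.exa_lev FF.Glob.ffthmM hG hP hL hn hcen hJ
  have hZJ : ∀ v, v ∈ ZL (S : Subgroup G) n ↔ v ∈ zl (S : Subgroup G) P ∧ ∀ i, N.e v i 1 = 0 := by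
    intro v
    have h1 := E.cent_nat N hk0 (x := v)
    have h2 : ZL (S : Subgroup G) n = zc (NO3S.Level.nxt (S : Subgroup G) (lev (S : Subgroup G) n)) := rfl
    rw [h2, NO3S.OneLine.zc_nxt_eq hL]
    exact h1
  have H : Lev.Nat.Hy (Lev.Exa.natM E N hk0) (BL (S : Subgroup G) n) (ZL (S : Subgroup G) n) :=
    Lev.Exa.hy_of E N hk0 rfl hZJ (wc S n) (Lev.Wc.S_norm_Lev hL.next)
  set M := Lev.Exa.natM E N hk0 with hM
  have hMe : M.nat = N.toNatK := rfl
  choose A hA hAX hAb hA1 hA2 using Lev.Exa.exists_one E N hk0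
  obtain ⟨L, Z, A', hL1, hA', hL2, hZ, hF⟩ := H.frL E.elem E.VX E.norm fun i =>
    ⟨A i, hA i, hAX i, hAb i, hA1 i, hA2 i⟩
  have hVn : ∀ g ∈ P, ∀ v ∈ zl (S : Subgroup G) P, g * v * g⁻¹ ∈ zl (S : Subgroup G) P := M.Vn
  have hPV : P ≤ normalizer (zl (S : Subgroup G) P : Set G) := by
    intro p hp
    rw [mem_normalizer_iff_cj]
    refine Subgroup.eq_of_le_of_card_ge ?_ (by rw [card_cj])
    rintro _ ⟨v, hv, rfl⟩
    exact M.Vn p hp v hv
  have hSP : (S : Subgroup G) ≤ P := hP.le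
  have hBN := norm_V_of_fr hF
  -- coordinates
  have cd : Cd F (BL (S : Subgroup G) n) (zl (S : Subgroup G) P) (ZL (S : Subgroup G) n) k N.e :=
    { VV := fun v hv w hw => hF.Vc hv hw
      mul := N.mul
      surj := N.surj
      inj := fun v hv h0 => H.inj hv (one_mem _) (by
        rw [M.map_one]
        exact h0)
      ZV := hF.ZJV
      memZ := fun v hv => ⟨fun h => ((hZJ v).1 h).2, fun h => (hZJ v).2 ⟨hv, h⟩⟩
      nB := fun b hb v hv => M.Vn b (H.BH hb) v hv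
      act := fun b hb => by
        obtain ⟨c, hc⟩ := H.up_of hb
        refine ⟨c, fun v hv i => ?_⟩
        have h1 : N.e (b * v * b⁻¹) i = ap (up (c i)) (N.e v i) := hc v hv i
        rw [h1]
        constructor
        · rw [ap_zero', up_00, up_01, one_mul]
        · rw [ap_one', up_10, up_11, zero_mul, one_mul, zero_add]
      full := fun c => by
        obtain ⟨b, hb, hc⟩ := H.exists_b c
        refine ⟨b, hb, fun v hv i => ?_⟩
        have h1 : N.e (b * v * b⁻¹) i = ap (up (c i)) (N.e v i) := hc v hv i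
        rw [h1]
        constructor
        · rw [ap_zero', up_00, up_01, one_mul]
        · rw [ap_one', up_10, up_11, zero_mul, one_mul, zero_add] }
  have nm : ∀ g ∈ (S : Subgroup G), Nm (BL (S : Subgroup G) n) (zl (S : Subgroup G) P) N.e g := by
    intro g hg
    have hgN : g ∈ normalizer (BL (S : Subgroup G) n : Set G) := (lb S n).two_le S.isPGroup' (lb S n).BS hg
    obtain ⟨h1, h2⟩ := hF.norm_of hgN (NO3S.Level.normalizer_le_zc _ (norm_lev S (by omega) hgN))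
    refine ⟨fun v hv => ?_, fun b hb => (mem_normalizer_iff.1 hgN b).1 hb, fun i => ?_⟩
    · rw [← h1]
      exact ⟨v, hv, rfl⟩
    obtain ⟨j, h3, h4⟩ := h2 i
    refine ⟨j, fun z hz hzl hz1 => ?_, fun w hw hwl l hl => ?_⟩
    · have h5 : z ∈ Z i := (hZ i z).2 ⟨⟨hz, hzl⟩, hz1⟩
      have h6 : g * z * g⁻¹ ∈ Z j := by
        rw [← h3]; exact ⟨z, h5, rfl⟩
      obtain ⟨h7, h8⟩ := (hZ j _).1 h6
      exact ⟨h7.2, h8⟩
    · have h5 : w ∈ Lev.Nat.Wn M i := ⟨hw, hwl⟩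
      have h6 : g * w * g⁻¹ ∈ Lev.Nat.Wn M j ⊔ ZL (S : Subgroup G) n := h4 ⟨w, h5, rfl⟩
      have hle : ZL (S : Subgroup G) n ≤ zl (S : Subgroup G) P := cd.ZV
      have hcom : ∀ a ∈ ZL (S : Subgroup G) n, ∀ b ∈ Lev.Nat.Wn M j, a * b = b * a := fun a ha b hb =>
        cd.VV a (hle ha) b hb.1
      obtain ⟨x, hx, z, hz, e⟩ := SQ1.Bau.mem_sup_comm hcom (by rw [sup_comm]; exact h6)
      rw [e, cd.mul x (hle hx) z hz.1, Pi.add_apply, Pi.add_apply]
      have h8 : N.e z l = 0 := hz.2 l hl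
      rw [h8, (cd.memZ x (hle hx)).1 hx l]
      simp
  obtain ⟨z₀, f₀, h1, h2, h3⟩ := cd.exists_cn hk0 S.isPGroup' nm N.trans
  have md : MD N.toNatK (BL (S : Subgroup G) n) (ZL (S : Subgroup G) n) (Lev.Nat.Wn M) Z z₀ f₀ :=
    ⟨hPV, hSP, h1, h2, h3, fun i v => Iff.rfl, hZ⟩
  have BLi : ∀ i, BL (S : Subgroup G) n ≤ L i := fun i => (hF.blk i).BL
  refine ⟨L, Lev.Nat.Wn M, Z, Lev.Nat.Cn M, A', ?_, fun i l hl => (hL1 i hl).1, fun i v => Iff.rfl, hZ,
    fun i v => Iff.rfl⟩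
  exact
    { fr := hF
      levQ := hn
      char2 := hG
      low := D.low P hP
      noff := fun T hT hB f h1 h2 x hx y hy => by
        have h3 := comm_T (PP := {P}) D (fun R hR => by rw [Set.mem_singleton_iff.1 hR]; exact hP)
          (by simp) (wc S n) (lb S n).BS hBN hT hB h1 h2 hx
        exact (mem_centralizer_iff.1 h3 _ ⟨y, hy, rfl⟩).symm
      perm := fun s hs i j hZ' => perm_of (N := N.toNatK) hVn (fun i v => Iff.rfl) (fun i v => Iff.rfl) hZ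
        (hSP hs) hZ'
      co := fun i => ⟨F, inferInstance, inferInstance, inferInstance, rfl, _, cor_of_md md i BLi
        (fun i l hl => by
          obtain ⟨hlP, A', hA', hup⟩ := hL1 i hl
          exact ⟨hlP, A', hA', hup⟩)
        hL2 H.exists_b⟩ }

/-- **The frame at stage `-1`.** -/
theorem negQ_of (hG : IsCharacteristicTwoType G) (D : DataLow (S : Subgroup G)) (hP : IsParS (S : Subgroup G) P)
    (hcv : cv (S : Subgroup G) P = ⊥) (hJ : ¬ jj (S : Subgroup G) ≤ o2 P) (hk0 : 0 < k)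
    (N : NatKM F (S : Subgroup G) P (zl (S : Subgroup G) P) (cv (S : Subgroup G) P) k) :
    ∃ L W Z C A : Fin k → Subgroup G, NegQ S (zl (S : Subgroup G) P) (o2 P) L W Z C A (Nat.card F) ∧
      (∀ i, L i ≤ P) ∧ (∀ i v, v ∈ W i ↔ v ∈ zl (S : Subgroup G) P ∧ ∀ j, j ≠ i → N.e v j = 0) ∧
      (∀ i v, v ∈ Z i ↔ v ∈ W i ∧ N.e v i 1 = 0) ∧ ∀ i v, v ∈ C i ↔ v ∈ zl (S : Subgroup G) P ∧ N.e v i = 0 := by
  classical
  have hT : Syl (S : Subgroup G) P := ⟨hP.le, S.isPGroup', fun _ _ hT hST => S.is_maximal' hT hST⟩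
  have hc : P ⊓ centralizer (o2 P : Set G) ≤ o2 P := hP.isLoc.char2 S hG
  have o := OM.natOut hT hP.toIsMinPar hc hJ hk0 N.toNatK hcv
  obtain ⟨L, Z, A, hL1, hA, hL2, hZ, hF⟩ := OM.Uni.natFr hT hP.toIsMinPar hc hJ hk0 N.toNatK hcv (OM.Uni.mx_sylow S)
  set M := SQ1.FFOne.natKB_of hT hc hJ hk0 N.toNatK with hM
  have hVn : ∀ g ∈ P, ∀ v ∈ zl (S : Subgroup G) P, g * v * g⁻¹ ∈ zl (S : Subgroup G) P := M.Vn
  have hPV : P ≤ normalizer (zl (S : Subgroup G) P : Set G) := by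
    intro p hp
    rw [mem_normalizer_iff_cj]
    refine Subgroup.eq_of_le_of_card_ge ?_ (by rw [card_cj])
    rintro _ ⟨v, hv, rfl⟩
    exact M.Vn p hp v hv
  have hSP : (S : Subgroup G) ≤ P := hP.le
  have hBS : bau (S : Subgroup G) ≤ (S : Subgroup G) := ChoiceBase.bau_le _
  have hVB : zl (S : Subgroup G) P ≤ bau (S : Subgroup G) := hF.VQ.trans hF.QB
  have hBN : normalizer (bau (S : Subgroup G) : Set G) ≤ normalizer (zl (S : Subgroup G) P : Set G) := fun g hg => by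
    have hgB := cj_eq_of_mem_normalizer hg
    rw [mem_normalizer_iff_cj]
    refine (hF.norm_of hg fun w hw v hv => ?_).1
    have k1 : cj g (zl (S : Subgroup G) P) ≤ (S : Subgroup G) := by
      have := cj_mono g hVB
      rw [hgB] at this
      exact this.trans hBS
    have k2 : zl (S : Subgroup G) P ≤ cj g (S : Subgroup G) := by
      have := cj_mono g hBS
      rw [hgB] at this
      exact hVB.trans this
    exact mem_centralizer_iff.1 (comm_S (PP := {P}) D (fun R hR => by rw [Set.mem_singleton_iff.1 hR]; exact hP)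
      (by simp) k1 k2 hv) w hw
  have hnorm : ∀ g ∈ normalizer (bau (S : Subgroup G) : Set G), cj g (zl (S : Subgroup G) P) = zl (S : Subgroup G) P ∧
      ∀ i, ∃ j, cj g (Z i) = Z j ∧ cj g (OM.Uni.Wn M i) ≤ OM.Uni.Wn M j ⊔ zj (S : Subgroup G) := fun g hg => by
    refine hF.norm_of hg fun w hw v hv => ?_
    obtain ⟨y, hy, rfl⟩ := hw
    have h1 := cj_eq_of_mem_normalizer (hBN hg)
    have h2 : g * y * g⁻¹ ∈ zl (S : Subgroup G) P := by
      rw [← h1]
      exact ⟨y, hy, rfl⟩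
    exact hF.Vc h2 hv
  -- coordinates
  have hup : ∀ {b : G} {c : Fin k → F}, ActsSL N.e (zl (S : Subgroup G) P) (cv (S : Subgroup G) P) b
      (fun i => up (c i)) → ∀ v ∈ zl (S : Subgroup G) P, ∀ i,
      N.e (b * v * b⁻¹) i 0 = N.e v i 0 + c i * N.e v i 1 ∧ N.e (b * v * b⁻¹) i 1 = N.e v i 1 := by
    intro b c hc v hv i
    rw [hc.1 v hv i]
    constructor
    · rw [ap_zero', up_00, up_01, one_mul]
    · rw [ap_one', up_10, up_11, zero_mul, one_mul, zero_add]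
  have cd : Cd F (bau (S : Subgroup G)) (zl (S : Subgroup G) P) (zj (S : Subgroup G)) k N.e :=
    { VV := fun v hv w hw => hF.Vc hv hw
      mul := N.mul
      surj := N.surj
      inj := fun v hv h0 => by
        have h1 := (N.ker v hv).1 h0
        rwa [o.Dbot, mem_bot] at h1
      ZV := o.zj_le
      memZ := fun v hv => ⟨fun h => ((o.mem_zj v).1 h).2, fun h => (o.mem_zj v).2 ⟨hv, h⟩⟩
      nB := fun b hb v hv => M.Vn b (hSP (hBS hb)) v hv
      act := fun b hb => by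
        obtain ⟨c, hc⟩ := o.bau_up b hb
        exact ⟨c, hup hc⟩
      full := fun c => by
        obtain ⟨b, hb, hc⟩ := o.jj_up c
        exact ⟨b, ChoiceBase.jj_le_bau _ hb, hup hc⟩ }
  have nm : ∀ g ∈ (S : Subgroup G), Nm (bau (S : Subgroup G)) (zl (S : Subgroup G) P) N.e g := by
    intro g hg
    have hgN : g ∈ normalizer (bau (S : Subgroup G) : Set G) := Line.S_le S hg
    obtain ⟨h1, h2⟩ := hnorm g hgN
    refine ⟨fun v hv => ?_, fun b hb => (mem_normalizer_iff.1 hgN b).1 hb, fun i => ?_⟩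
    · rw [← h1]
      exact ⟨v, hv, rfl⟩
    obtain ⟨j, h3, h4⟩ := h2 i
    refine ⟨j, fun z hz hzl hz1 => ?_, fun w hw hwl l hl => ?_⟩
    · have h5 : z ∈ Z i := (hZ i z).2 ⟨⟨hz, hzl⟩, hz1⟩
      have h6 : g * z * g⁻¹ ∈ Z j := by
        rw [← h3]; exact ⟨z, h5, rfl⟩
      obtain ⟨h7, h8⟩ := (hZ j _).1 h6
      exact ⟨h7.2, h8⟩
    · have h5 : w ∈ OM.Uni.Wn M i := ⟨hw, hwl⟩
      have h6 : g * w * g⁻¹ ∈ OM.Uni.Wn M j ⊔ zj (S : Subgroup G) := h4 ⟨w, h5, rfl⟩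
      have hle : zj (S : Subgroup G) ≤ zl (S : Subgroup G) P := cd.ZV
      have hcom : ∀ a ∈ zj (S : Subgroup G), ∀ b ∈ OM.Uni.Wn M j, a * b = b * a := fun a ha b hb =>
        cd.VV a (hle ha) b hb.1
      obtain ⟨x, hx, z, hz, e⟩ := SQ1.Bau.mem_sup_comm hcom (by rw [sup_comm]; exact h6)
      rw [e, cd.mul x (hle hx) z hz.1, Pi.add_apply, Pi.add_apply]
      have h8 : N.e z l = 0 := hz.2 l hl
      rw [h8, (cd.memZ x (hle hx)).1 hx l]
      simp
  obtain ⟨z₀, f₀, h1, h2, h3⟩ := cd.exists_cn hk0 S.isPGroup' nm N.trans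
  have md : MD N.toNatK (bau (S : Subgroup G)) (zj (S : Subgroup G)) (OM.Uni.Wn M) Z z₀ f₀ :=
    ⟨hPV, hSP, h1, h2, h3, fun i v => Iff.rfl, hZ⟩
  have BLi : ∀ i, bau (S : Subgroup G) ≤ L i := fun i => (hF.blk i).BL
  refine ⟨L, OM.Uni.Wn M, Z, OM.Uni.Cn M, A, ?_, fun i l hl => (hL1 i hl).1, fun i v => Iff.rfl, hZ,
    fun i v => Iff.rfl⟩
  exact
    { fr := hF
      char2 := hG
      low := D.low P hP
      noff := fun T hT hB f h1 h2 x hx y hy => by
        have h3 := comm_T (PP := {P}) D (fun R hR => by rw [Set.mem_singleton_iff.1 hR]; exact hP)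
          (by simp) (OM.UniPlus.wc_bau S) hBS hBN hT hB h1 h2 hx
        exact (mem_centralizer_iff.1 h3 _ ⟨y, hy, rfl⟩).symm
      perm := fun s hs i j hZ' => perm_of (N := N.toNatK) hVn (fun i v => Iff.rfl) (fun i v => Iff.rfl) hZ
        (hSP hs) hZ'
      co := fun i => ⟨F, inferInstance, inferInstance, inferInstance, rfl, _, cor_of_md md i BLi
        (fun i l hl => by
          obtain ⟨hlP, A', hA', hup⟩ := hL1 i hl
          exact ⟨hlP, A', hA', hup⟩)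
        hL2 (fun c => by
          obtain ⟨b, hb, hc⟩ := o.jj_up c
          exact ⟨b, ChoiceBase.jj_le_bau _ hb, hc.1⟩)⟩ }

end lev

end Cfsg.Agent.Omega.OM.SwapV.Q.OfNat

end
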