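import Cfsg.Agent.Mrg.Omega.OM.SwapV.Q.Def
import Cfsg.Agent.Mrg.Omega.OM.FourF.Mod
import Cfsg.Agent.Mrg.Omega.NOThreeL.RRed.NS.Blk
import Cfsg.Agent.Mrg.Omega.NOThreeL.RRed.NS.Spl
import Cfsg.Agent.Mrg.Omega.NOThreeL.RRed.BFr.Idx

section


/-!
# (Om) for `q ≥ 4` over an abstract `V`: the coordinates from a natural module of one `P`

`M : NatKM F S P V D k`, `h : Nb M`, `DD M j = 1` for all `j`, `S` centralises `D`.

* `resK` : `⨆ blk M j` is a natural module with `D = 1` (`NatK`); `resC` : the same as `NatC`;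
* `CorA F S W Z e` : coordinates on one block `W` with line `Z`; **`exists_corA`** : for `blk M j`, `YY h j`;
* `CorA.cor` : `CorA` and the root groups give `Cor`.
-/

set_option autoImplicit false
set_option linter.unusedSectionVars false

namespace Cfsg.Agent.Omega.OM.SwapV.Q

open Subgroup Cfsg Cfsg.Agent.ZN.ChoiceBase Cfsg.Agent.ZN.ChoiceSit
open Cfsg.Agent.ZN (jj zj bau zc zl o2)
open Cfsg.Agent.Lib.SL2Mat
open Cfsg.Agent.Omega.NatPair hiding cj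
open Cfsg.Agent.Omega.FFThm (NatK NatKM ActsSL Off)
open Cfsg.Agent.Omega.NO3S.ThmB (Nb)
open Cfsg.Agent.Omega.NO3S.KeyRad (blk blk_le e_blk exists_blk_e conj_iSup_blk)
open Cfsg.Agent.Omega.NOThreeL.RRed.NS (DD YY iSup_DD exists_iSup_blk iSup_blk_norm)
open Cfsg.Agent.Omega.NO3S.OneLine (NatC)
open Cfsg.Agent.Omega.OM.Lev.Nat (exists_up)
open Cfsg.Agent.Omega.OM.YThm
open Cfsg.Agent.Omega.OM.FourF (Act MD)

universe u

variable {G : Type u} [Group G]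

/-- Coordinates on one block `W` with line `Z`. -/
structure CorA (F : Type) [Field F] (S W Z : Subgroup G) (e : G → F × F) : Prop where
  mul : ∀ v ∈ W, ∀ w ∈ W, e (v * w) = e v + e w
  inj : ∀ v ∈ W, ∀ w ∈ W, e v = e w → v = w
  surj : ∀ p, ∃ v ∈ W, e v = p
  memZ : ∀ v, v ∈ Z ↔ v ∈ W ∧ (e v).2 = 0
  act : ∀ t ∈ S, cj t Z = Z → ∃ (s : F ≃+* F) (l : F), Act W e t (fun p => (s p.1 + l * s p.2, s p.2))

theorem CorA.cor {ι : Type} {F : Type} [Field F] {S B : Subgroup G} {L W Z A : ι → Subgroup G} {i : ι}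
    {e : G → F × F} (c : CorA F S (W i) (Z i) e) (BS : B ≤ S) (AB : A i ≤ B)
    (cB : ∀ b ∈ B, ∀ z ∈ Z i, b * z = z * b)
    (root : ∀ v ∈ W i, v ∉ Z i → ∀ z ∈ Z i, ∃ a ∈ A i, a * v * a⁻¹ * v⁻¹ = z)
    (sl : ∀ a b c d : F, a * d - b * c = 1 → ∃ g ∈ L i, g ∈ normalizer (W i : Set G) ∧
      Act (W i) e g (fun p => (a * p.1 + b * p.2, c * p.1 + d * p.2)) ∧ ∀ j, j ≠ i → ∀ w ∈ W j, g * w = w * g) :
    Cor F S B L W Z i e where
  mul := c.mul
  inj := c.inj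
  surj := c.surj
  memZ := c.memZ
  act := c.act
  sl := sl
  full := fun l => by
    obtain ⟨v, hv, hve⟩ := c.surj (0, 1)
    obtain ⟨z, hz, hze⟩ := c.surj (l, 0)
    have hzZ : z ∈ Z i := (c.memZ z).2 ⟨hz, by rw [hze]⟩
    have hvZ : v ∉ Z i := fun h => by
      have := ((c.memZ v).1 h).2
      rw [hve] at this
      exact one_ne_zero this
    obtain ⟨a, ha, e1⟩ := root v hv hvZ z hzZ
    have haB := AB ha
    have hcj : cj a (Z i) = Z i := by
      refine cj_eq_of_mem_normalizer (mem_normalizer_iff.2 fun x => ?_)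
      constructor
      · intro hx
        rw [cB a haB x hx]
        simpa using hx
      · intro hx
        have h1 := cB a haB _ hx
        have h2 : a * x * a⁻¹ = x := by
          have h3 : a * (a * x * a⁻¹) = a * x := by rw [h1]; group
          exact mul_left_cancel h3
        rwa [h2] at hx
    obtain ⟨s, m, hs⟩ := c.act a (BS haB) hcj
    have hs1 : ∀ x, s x = x := by
      intro x
      obtain ⟨y, hy, hye⟩ := c.surj (x, 0)
      have hyZ : y ∈ Z i := (c.memZ y).2 ⟨hy, by rw [hye]⟩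
      have h1 := hs y hy
      have h2 : a * y * a⁻¹ = y := by rw [cB a haB y hyZ]; group
      rw [h2, hye] at h1
      have h3 := congrArg Prod.fst h1
      simp only [map_zero, mul_zero, add_zero] at h3
      exact h3.symm
    have hm : m = l := by
      have h1 := hs v hv
      have h2 : a * v * a⁻¹ = z * v := by rw [← e1]; group
      rw [h2, c.mul z hz v hv, hze, hve] at h1
      have h3 := congrArg Prod.fst h1
      simp only [hs1, Prod.fst_add, add_zero, zero_add, mul_one] at h3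
      exact h3.symm
    refine ⟨a, haB, fun w hw => ?_⟩
    rw [hs w hw]
    simp only [hs1, hm]

section res

variable {F : Type} [Field F] {S P V D : Subgroup G} {k : ℕ} {M : NatKM F S P V D k} (h : Nb M) [CharP F 2]
include h

theorem supV : (⨆ j, blk M j) ≤ V := iSup_le fun j => blk_le h j

theorem sup_inf (spl : ∀ j, DD M j = ⊥) : (⨆ j, blk M j) ⊓ D = ⊥ := by
  rw [eq_bot_iff]
  rintro x ⟨h1, h2⟩
  have h3 := iSup_DD h h1 h2
  simpa [spl] using h3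

theorem sup_inj (spl : ∀ j, DD M j = ⊥) {v w : G} (hv : v ∈ ⨆ j, blk M j) (hw : w ∈ ⨆ j, blk M j)
    (e : M.e v = M.e w) : v = w := by
  have h1 : v * w⁻¹ ∈ D := (h.mem_D (supV h hv) (supV h hw)).2 e
  have h2 : v * w⁻¹ ∈ (⨆ j, blk M j) ⊓ D := Subgroup.mem_inf.2 ⟨mul_mem hv (inv_mem hw), h1⟩
  rw [sup_inf h spl, mem_bot] at h2
  exact mul_inv_eq_one.1 h2

theorem sup_surj (x : Fin k → Fin 2 → F) : ∃ v ∈ ⨆ j, blk M j, M.e v = x := by
  obtain ⟨v, -, hv⟩ := M.surj x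
  obtain ⟨w, hw, hwv⟩ := exists_iSup_blk h v
  exact ⟨w, hw, hwv.trans hv⟩

theorem mem_blk_iff (spl : ∀ j, DD M j = ⊥) {j : Fin k} {v : G} :
    v ∈ blk M j ↔ v ∈ (⨆ j, blk M j) ∧ ∀ l, l ≠ j → M.e v l = 0 := by
  constructor
  · intro hv
    exact ⟨(le_iSup (blk M) j : blk M j ≤ _) hv, fun l hl => e_blk h hl hv⟩
  · rintro ⟨hv, h0⟩
    obtain ⟨w, hw, hwe⟩ := exists_blk_e h j (M.e v j)
    have h1 : v = w := by
      refine sup_inj h spl hv ((le_iSup (blk M) j : blk M j ≤ _) hw) (funext fun l => ?_)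
      by_cases hl : l = j
      · rw [hl, hwe]
      · rw [h0 l hl, e_blk h hl hw]
    rw [h1]
    exact hw

/-- `e (x v x⁻¹)` depends only on `e v` -/
theorem e_conj_congr {x v w : G} (hx : x ∈ P) (hv : v ∈ V) (hw : w ∈ V) (e : M.e v = M.e w) :
    M.e (x * v * x⁻¹) = M.e (x * w * x⁻¹) := by
  rw [← h.mem_D (h.memV hx hv) (h.memV hx hw)]
  have h1 : v * w⁻¹ ∈ D := (h.mem_D hv hw).2 e
  have h2 := (mem_normalizer_iff.1 (h.DP' hx) _).1 h1
  have e1 : x * (v * w⁻¹) * x⁻¹ = x * v * x⁻¹ * (x * w * x⁻¹)⁻¹ := by group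
  rwa [e1] at h2

/-- **`V = ⟨Z^P⟩`, `Z` central in `S`, split blocks ⟹ `S` centralises `D`.** -/
theorem cent_D (spl : ∀ j, DD M j = ⊥) {Z : Subgroup G} (hZV : Z ≤ V) (hZS : ∀ z ∈ Z, ∀ s ∈ S, s * z = z * s)
    (hgen : ∀ K : Subgroup G, Z ≤ K → P ≤ normalizer (K : Set G) → V ≤ K) : ∀ s ∈ S, ∀ d ∈ D, s * d = d * s := by
  have hcm : ∀ a ∈ (⨆ j, blk M j), ∀ b ∈ D ⊓ centralizer (S : Set G), a * b = b * a := fun a ha b hb =>
    h.cm (supV h ha) (h.DV hb.1)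
  have hP : P ≤ centralizer ((D ⊓ centralizer (S : Set G) : Subgroup G) : Set G) := by
    refine M.gen _ (fun s hs => mem_centralizer_iff.2 fun d hd => ?_) fun g hg A hA => mem_centralizer_iff.2 fun d hd => ?_
    · exact (mem_centralizer_iff.1 hd.2 s hs).symm
    · exact (hA.2 d hd.1).symm
  have hV : V ≤ (⨆ j, blk M j) ⊔ (D ⊓ centralizer (S : Set G)) := by
    refine hgen _ (fun z hz => ?_) fun p hp => ?_
    · obtain ⟨w, hw, hwe⟩ := exists_iSup_blk h z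
      have h1 : z * w⁻¹ ∈ D := (h.mem_D (hZV hz) (supV h hw)).2 hwe.symm
      have e : z = z * w⁻¹ * w := by group
      rw [e]
      refine mul_mem (mem_sup_right ⟨h1, mem_centralizer_iff.2 fun s hs => ?_⟩) (mem_sup_left hw)
      have h2 : s * (z * w⁻¹) * s⁻¹ ∈ D := (mem_normalizer_iff.1 (h.DP' (h.SP' hs)) _).1 h1
      have h3 : s * w * s⁻¹ ∈ (⨆ j, blk M j) := conj_iSup_blk h (h.SP' hs) hw
      have h4 : s * (z * w⁻¹) * s⁻¹ * (s * w * s⁻¹) = z := by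
        calc _ = s * z * s⁻¹ := by group
          _ = z := by rw [hZS z hz s hs]; group
      have h5 : (z * w⁻¹)⁻¹ * (s * (z * w⁻¹) * s⁻¹) = w * (s * w * s⁻¹)⁻¹ := by
        have h6 : s * (z * w⁻¹) * s⁻¹ = z * (s * w * s⁻¹)⁻¹ := by
          rw [eq_mul_inv_iff_mul_eq]
          exact h4
        rw [h6]
        group
      have h7 : (z * w⁻¹)⁻¹ * (s * (z * w⁻¹) * s⁻¹) ∈ (⨆ j, blk M j) ⊓ D :=
        Subgroup.mem_inf.2 ⟨by rw [h5]; exact mul_mem hw (inv_mem h3), mul_mem (inv_mem h1) h2⟩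
      rw [sup_inf h spl, mem_bot, inv_mul_eq_one] at h7
      calc s * (z * w⁻¹) = s * (z * w⁻¹) * s⁻¹ * s := by group
        _ = z * w⁻¹ * s := by rw [← h7]
    · have key : ∀ p ∈ P, ∀ y ∈ (⨆ j, blk M j) ⊔ (D ⊓ centralizer (S : Set G)),
          p * y * p⁻¹ ∈ (⨆ j, blk M j) ⊔ (D ⊓ centralizer (S : Set G)) := by
        intro p hp y hy
        obtain ⟨w, hw, c, hc, rfl⟩ := SQ1.Bau.mem_sup_comm hcm hy
        have e1 : p * (w * c) * p⁻¹ = p * w * p⁻¹ * c := by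
          have e2 : c * p = p * c := mem_centralizer_iff.1 (hP hp) c hc
          calc p * (w * c) * p⁻¹ = p * w * (c * p⁻¹) := by group
            _ = p * w * (p⁻¹ * c) := by
              have e3 : c * p⁻¹ = p⁻¹ * c := (show Commute c p from e2).inv_right.eq
              rw [e3]
            _ = _ := by group
        rw [e1]
        exact mul_mem (mem_sup_left (conj_iSup_blk h hp hw)) (mem_sup_right hc)
      refine mem_normalizer_iff.2 fun y => ⟨key p hp y, fun hy => ?_⟩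
      have h1 := key p⁻¹ (inv_mem hp) _ hy
      have e : p⁻¹ * (p * y * p⁻¹) * p⁻¹⁻¹ = y := by group
      rwa [e] at h1
  intro s hs d hd
  obtain ⟨w, hw, c, hc, e⟩ := SQ1.Bau.mem_sup_comm hcm (hV (h.DV hd))
  have h1 : w ∈ (⨆ j, blk M j) ⊓ D := by
    refine Subgroup.mem_inf.2 ⟨hw, ?_⟩
    have h2 : w = d * c⁻¹ := by rw [e]; group
    rw [h2]
    exact mul_mem hd (inv_mem hc.1)
  rw [sup_inf h spl, mem_bot] at h1
  rw [e, h1, one_mul]
  exact mem_centralizer_iff.1 hc.2 s hs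

/-- an offender of `⨆ blk M j` is one of `V` -/
theorem off_res [Finite G] (spl : ∀ j, DD M j = ⊥) (hD : ∀ s ∈ S, ∀ d ∈ D, s * d = d * s) {A : Subgroup G}
    (hA : A ≤ S) (ho : Off (⨆ j, blk M j) A) : Off V A := by
  refine ⟨ho.elem, fun hc => ho.ne (hc.trans (centralizer_le (supV h))), ?_⟩
  have hcm : ∀ a ∈ (⨆ j, blk M j), ∀ b ∈ D, a * b = b * a := fun a ha b hb => h.cm (supV h ha) (h.DV hb)
  have hsup : (⨆ j, blk M j) ⊔ D = V := by
    refine le_antisymm (sup_le (supV h) h.DV) fun v hv => ?_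
    obtain ⟨w, hw, hwv⟩ := exists_iSup_blk h v
    have h1 : v * w⁻¹ ∈ D := (h.mem_D hv (supV h hw)).2 hwv.symm
    have e : v = v * w⁻¹ * w := by group
    rw [e]
    exact mul_mem (mem_sup_right h1) (mem_sup_left hw)
  have h1 := SQ1.Bau.card_sup_comm (A := ⨆ j, blk M j) (B := D) hcm
  rw [hsup, sup_inf h spl, card_bot, mul_one] at h1
  have h2 := SQ1.Bau.card_sup_comm (A := (⨆ j, blk M j) ⊓ centralizer (A : Set G)) (B := D) fun a ha b hb => hcm a ha.1 b hb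
  have h3 : (⨆ j, blk M j) ⊓ centralizer (A : Set G) ⊓ D = ⊥ := by
    rw [eq_bot_iff, ← sup_inf h spl]
    exact inf_le_inf_right _ inf_le_left
  rw [h3, card_bot, mul_one] at h2
  have h4 : ((⨆ j, blk M j) ⊓ centralizer (A : Set G)) ⊔ D ≤ V ⊓ centralizer (A : Set G) := by
    refine sup_le (inf_le_inf_right _ (supV h)) (le_inf h.DV fun d hd => ?_)
    exact mem_centralizer_iff.2 fun a ha => hD a (hA ha) d hd
  have h5 := Subgroup.card_le_of_le h4
  have h6 : A ⊓ centralizer (V : Set G) = A ⊓ centralizer ((⨆ j, blk M j : Subgroup G) : Set G) := by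
    refine le_antisymm (inf_le_inf_left _ (centralizer_le (supV h))) ?_
    rintro a ⟨ha, hc⟩
    refine ⟨ha, mem_centralizer_iff.2 fun v hv => ?_⟩
    have hv' : v ∈ (⨆ j, blk M j) ⊔ D := by rw [hsup]; exact hv
    obtain ⟨x, hx, y, hy, rfl⟩ := SQ1.Bau.mem_sup_comm hcm hv'
    have e1 : Commute x a := mem_centralizer_iff.1 hc x hx
    have e2 : Commute y a := (hD a (hA ha) y hy).symm
    exact (e1.mul_left e2).eq
  rw [h6, h1]
  calc Nat.card ↥(⨆ j, blk M j) * Nat.card D * Nat.card ↥(A ⊓ centralizer ((⨆ j, blk M j : Subgroup G) : Set G))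
      = Nat.card D * (Nat.card ↥(⨆ j, blk M j) *
        Nat.card ↥(A ⊓ centralizer ((⨆ j, blk M j : Subgroup G) : Set G))) := by ring
    _ ≤ Nat.card D * (Nat.card A * Nat.card ↥((⨆ j, blk M j) ⊓ centralizer (A : Set G))) :=
      Nat.mul_le_mul_left _ ho.le
    _ = Nat.card A * (Nat.card ↥((⨆ j, blk M j) ⊓ centralizer (A : Set G)) * Nat.card D) := by ring
    _ = Nat.card A * Nat.card ↥(((⨆ j, blk M j) ⊓ centralizer (A : Set G)) ⊔ D) := by rw [h2]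
    _ ≤ _ := Nat.mul_le_mul_left _ h5

theorem acts_res {g : G} {A : Fin k → Matrix.SpecialLinearGroup (Fin 2) F} (hg : ActsSL M.e V D g A) :
    ActsSL M.e (⨆ j, blk M j) ⊥ g A :=
  ⟨fun v hv => hg.1 v (supV h hv), fun d hd => by rw [mem_bot.1 hd, mul_one, one_mul]⟩

/-- **`⨆ blk M j` as a natural module with `D = 1`.** -/
def resK [Finite G] (spl : ∀ j, DD M j = ⊥) (hD : ∀ s ∈ S, ∀ d ∈ D, s * d = d * s) :
    NatK F S P (⨆ j, blk M j) ⊥ k where
  e := M.e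
  mul := fun v hv w hw => M.mul v (supV h hv) w (supV h hw)
  surj := sup_surj h
  ker := fun v hv => by
    constructor
    · intro h0
      refine mem_bot.2 (sup_inj h spl hv (one_mem _) ?_)
      rw [h0, Nb.e_one (M := M)]
    · intro h0
      rw [mem_bot.1 h0, Nb.e_one (M := M)]
  lift := fun A => by
    obtain ⟨g, hg, hA⟩ := M.lift A
    exact ⟨g, hg, acts_res h hA⟩
  norm := fun g hg x hx A hA => by
    obtain ⟨B, hB⟩ := M.norm g hg x hx A fun v hv i => by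
      obtain ⟨w, hw, hwv⟩ := exists_iSup_blk h v
      rw [e_conj_congr h hx hv (supV h hw) hwv.symm, hA w hw i, hwv]
    exact ⟨B, fun v hv => hB v (supV h hv)⟩
  perm := fun g hg => by
    obtain ⟨σ, hσ⟩ := M.perm g hg
    exact ⟨σ, fun v hv => hσ v (supV h hv)⟩
  trans := fun i j => by
    obtain ⟨t, ht, h1⟩ := M.trans i j
    exact ⟨t, ht, fun v hv => h1 v (supV h hv)⟩
  line := fun t ht => by
    obtain ⟨σ, hσ⟩ := M.line t ht
    exact ⟨σ, fun v hv => hσ v (supV h hv)⟩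
  unip := fun b => by
    obtain ⟨t, ht, h1⟩ := M.unip b
    exact ⟨t, ht, acts_res h h1⟩
  gen := fun K hK hx => M.gen K hK fun g hg A hA => hx g hg A (acts_res h hA)
  off := fun A hA ho => by
    obtain ⟨I, h1, h2⟩ := M.off A hA (off_res h spl hD hA ho)
    refine ⟨I, fun a ha => ?_, fun b hb => ?_⟩
    · obtain ⟨b, hb, hb2⟩ := h1 a ha
      exact ⟨b, hb, acts_res h hb2⟩
    · obtain ⟨a, ha, ha2⟩ := h2 b hb
      exact ⟨a, ha, acts_res h ha2⟩

/-- the same as `NatC` -/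
def resC [Finite G] (spl : ∀ j, DD M j = ⊥) (hD : ∀ s ∈ S, ∀ d ∈ D, s * d = d * s) (hk : 0 < k) (VQ : V ≤ o2 P)
    (cQ : ∀ x ∈ o2 P, ∀ v ∈ V, x * v = v * x) : NatC F S P (⨆ j, blk M j) ⊥ k where
  nat := resK h spl hD
  DV := bot_le
  Vn := fun _ hg _ hv => conj_iSup_blk h hg hv
  VQ := (supV h).trans VQ
  Vsq := fun v hv => h.V2.2 v (supV h hv)
  VcQ := fun x hx v hv => cQ x hx v (supV h hv)
  pos := hk

/-- the product of the lines -/
def ZZ : Subgroup G where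
  carrier := {v | v ∈ (⨆ j, blk M j) ∧ ∀ i, M.e v i 1 = 0}
  one_mem' := ⟨one_mem _, fun i => by rw [Nb.e_one (M := M)]; rfl⟩
  mul_mem' := by
    rintro a b ⟨ha, ha0⟩ ⟨hb, hb0⟩
    refine ⟨mul_mem ha hb, fun i => ?_⟩
    rw [M.mul a (supV h ha) b (supV h hb), Pi.add_apply, Pi.add_apply, ha0, hb0, add_zero]
  inv_mem' := by
    rintro a ⟨ha, ha0⟩
    exact ⟨inv_mem ha, fun i => by rw [h.e_inv (supV h ha), ha0]⟩

theorem mem_ZZ {v : G} : v ∈ ZZ h ↔ v ∈ (⨆ j, blk M j) ∧ ∀ i, M.e v i 1 = 0 := Iff.rfl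

theorem ZZ_norm {s : G} (hs : s ∈ S) {v : G} (hv : v ∈ ZZ h) : s * v * s⁻¹ ∈ ZZ h := by
  obtain ⟨τ, hτ⟩ := M.line s hs
  refine ⟨conj_iSup_blk h (h.SP' hs) hv.1, fun m => ?_⟩
  obtain ⟨l, rfl⟩ := τ.surjective m
  exact (hτ v (supV h hv.1) l).2 (hv.2 l)

theorem cd_res [Finite G] [Finite F] (spl : ∀ j, DD M j = ⊥) (hD : ∀ s ∈ S, ∀ d ∈ D, s * d = d * s) (hk : 0 < k)
    (VQ : V ≤ o2 P) (cQ : ∀ x ∈ o2 P, ∀ v ∈ V, x * v = v * x) (hS : Syl S P) :
    YThm.Cd F (S ⊓ centralizer (ZZ h : Set G)) (⨆ j, blk M j) (ZZ h) k M.e where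
  VV := fun v hv w hw => h.cm (supV h hv) (supV h hw)
  mul := fun v hv w hw => M.mul v (supV h hv) w (supV h hw)
  surj := sup_surj h
  inj := fun v hv h0 => sup_inj h spl hv (one_mem _) (by rw [h0, Nb.e_one (M := M)])
  ZV := fun _ hv => hv.1
  memZ := fun v hv => ⟨fun h1 => h1.2, fun h1 => ⟨hv, h1⟩⟩
  nB := fun b hb v hv => conj_iSup_blk h (h.SP' hb.1) hv
  act := fun b hb => by
    obtain ⟨c, hc⟩ := exists_up (resC h spl hD hk VQ cQ) hS hb.1 fun v hv hv1 =>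
      (mem_centralizer_iff.1 hb.2 v ⟨hv, hv1⟩).symm
    refine ⟨c, fun v hv i => ?_⟩
    have h1 : M.e (b * v * b⁻¹) i = ap (up (c i)) (M.e v i) := hc v hv i
    rw [h1]
    constructor
    · rw [ap_zero', up_00, up_01, one_mul]
    · rw [ap_one', up_10, up_11, zero_mul, one_mul, zero_add]
  full := fun c => by
    obtain ⟨t, ht, hA, -⟩ := M.unip c
    refine ⟨t, ⟨ht, mem_centralizer_iff.2 fun z hz => ?_⟩, fun v hv i => ?_⟩
    · symm
      refine mul_inv_eq_iff_eq_mul.1 (sup_inj h spl (conj_iSup_blk h (h.SP' ht) hz.1) hz.1 ?_)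
      funext j
      rw [hA z (supV h hz.1) j]
      apply ext2
      · rw [ap_zero', up_00, up_01, hz.2 j]; ring
      · rw [ap_one', up_10, up_11]; ring
    · rw [hA v (supV h hv) i]
      constructor
      · rw [ap_zero', up_00, up_01, one_mul]
      · rw [ap_one', up_10, up_11, zero_mul, one_mul, zero_add]

theorem nm_res {s : G} (hs : s ∈ S) : Nm (S ⊓ centralizer (ZZ h : Set G)) (⨆ j, blk M j) M.e s where
  nV := fun v hv => conj_iSup_blk h (h.SP' hs) hv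
  nB := fun b hb => by
    refine Subgroup.mem_inf.2 ⟨mul_mem (mul_mem hs hb.1) (inv_mem hs), mem_centralizer_iff.2 fun z hz => ?_⟩
    have h1 := ZZ_norm h (inv_mem hs) hz
    rw [inv_inv] at h1
    have h2 := mem_centralizer_iff.1 hb.2 _ h1
    calc z * (s * b * s⁻¹) = s * (s⁻¹ * z * s * b) * s⁻¹ := by group
      _ = s * (b * (s⁻¹ * z * s)) * s⁻¹ := by rw [h2]
      _ = s * b * s⁻¹ * z := by group
  nW := fun i => by
    obtain ⟨σ, hσ⟩ := M.perm s (h.SP' hs)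
    obtain ⟨τ, hτ⟩ := M.line s hs
    have key : ∀ v ∈ (⨆ j, blk M j), (∀ l, l ≠ i → M.e v l = 0) → ∀ l, l ≠ σ i → M.e (s * v * s⁻¹) l = 0 := by
      intro v hv h1 l hl
      obtain ⟨m, rfl⟩ := σ.surjective l
      exact (hσ v (supV h hv) m).2 (h1 m fun h2 => hl (by rw [h2]))
    refine ⟨σ i, fun z hz h1 h2 => ⟨key z hz h1, ?_⟩, fun w hw h1 l hl => ?_⟩
    · obtain ⟨m, hm⟩ := τ.surjective (σ i)
      rw [← hm]
      refine (hτ z (supV h hz) m).2 ?_
      by_cases hmi : m = i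
      · rw [hmi]; exact h2
      · rw [h1 m hmi]; rfl
    · rw [key w hw h1 l hl]; rfl

theorem exists_md_res [Finite G] [Finite F] (spl : ∀ j, DD M j = ⊥) (hD : ∀ s ∈ S, ∀ d ∈ D, s * d = d * s)
    (hk : 0 < k) (VQ : V ≤ o2 P) (cQ : ∀ x ∈ o2 P, ∀ v ∈ V, x * v = v * x) (hS : Syl S P) : ∃ z₀ f₀ : Fin k → F,
    MD (resK h spl hD) (S ⊓ centralizer (ZZ h : Set G)) (ZZ h) (blk M) (YY h) z₀ f₀ := by
  obtain ⟨z₀, f₀, h1, h2, h3⟩ := (cd_res h spl hD hk VQ cQ hS).exists_cn hk hS.2.1 (fun _ hs => nm_res h hs)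
    (resK h spl hD).trans
  exact ⟨z₀, f₀, iSup_blk_norm h, h.SP', h1, h2, h3, fun i v => mem_blk_iff h spl, fun i v => Iff.rfl⟩

/-- **The coordinates of a block.** -/
theorem exists_corA [Finite G] [Finite F] (spl : ∀ j, DD M j = ⊥) (hD : ∀ s ∈ S, ∀ d ∈ D, s * d = d * s)
    (hk : 0 < k) (VQ : V ≤ o2 P) (cQ : ∀ x ∈ o2 P, ∀ v ∈ V, x * v = v * x) (hS : Syl S P) (j : Fin k) :
    ∃ e : G → F × F, CorA F S (blk M j) (YY h j) e ∧ ∀ a b c d : F, a * d - b * c = 1 →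
      ∃ A : Matrix.SpecialLinearGroup (Fin 2) F, ∀ g : G,
        (∀ w ∈ blk M j, M.e (g * w * g⁻¹) j = ap A (M.e w j)) →
          Act (blk M j) e g fun p => (a * p.1 + b * p.2, c * p.1 + d * p.2) := by
  obtain ⟨z₀, f₀, hm⟩ := exists_md_res h spl hD hk VQ cQ hS
  refine ⟨MD.co (resK h spl hD) z₀ f₀ j, ⟨fun v hv w hw => hm.co_mul (hm.WV hv) (hm.WV hw),
    fun v hv w hw => hm.co_inj hv hw, hm.co_surj j, fun v => hm.co_Z, fun t ht hZ => hm.act ht hZ⟩, ?_⟩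
  intro a b c d hd
  obtain ⟨A, hA⟩ := FourF.dl_ap' (hm.hz j) (hm.hf j) (Cfsg.Agent.Lib.SL2Mat.mk a b c d hd)
  refine ⟨A, fun g hg w hw => ?_⟩
  have h4 := hA (M.e w j)
  rw [← hg w hw] at h4
  have h5 := congrFun h4 0
  have h6 := congrFun h4 1
  rw [FourF.dl_zero', ap_zero', mk_00, mk_01] at h5
  rw [FourF.dl_one', ap_one', mk_10, mk_11] at h6
  ext
  · rw [MD.co_fst]; exact h5
  · rw [MD.co_snd]; exact h6

end res

end Cfsg.Agent.Omega.OM.SwapV.Q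

end

section


/-!
# NO-3L, box R: the frame `FrL` over `B = C_S(Z_J)` for natural blocks, `q ≥ 4` : the data

* `SLA F D N e` : `D` acts on `N` as `SL₂(F)` in the coordinates `e`;
* `Bq S M V N D l C q` : `V = ∏ N i`, `C i = ∏_{j ≠ i} N j`, `M` permutes the `N i` transitively, `S` permutes the
  triples `(N i, l i, D i)`, `CorA` + `SLA` on every block, offenders of `S` act as full root groups or trivially (`off`);
* `LvQ S M V N X L J AA` : the level data (`AA` a family of best offenders on `X ≥ V`, one block is moved).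
-/

set_option autoImplicit false
set_option linter.unusedSectionVars false

namespace Cfsg.Agent.Omega.NOThreeL.RRed.QFr

open Subgroup Cfsg Cfsg.Agent.ZN Cfsg.Agent.ZN.ChoiceBase
open Cfsg.Agent.Omega.SQ1.Bau (mem_sup_comm card_sup_comm elem_comm elem_sq)
open Cfsg.Agent.Omega.OM.Lev.Uni (Best)
open Cfsg.Agent.Omega.FFThm (ElemM)
open Cfsg.Agent.Omega.NO3S.OneLine (BFam)
open Cfsg.Agent.Omega.OM.FourF (Act)
open Cfsg.Agent.Omega.OM.SwapV.Q (CorA)

universe u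

variable {G : Type u} [Group G]

/-- `D` acts on `N` as `SL₂(F)` in the coordinates `e`. -/
structure SLA (F : Type) [Field F] (D N : Subgroup G) (e : G → F × F) : Prop where
  nD : ∀ g ∈ D, ∀ w ∈ N, g * w * g⁻¹ ∈ N
  act : ∀ g ∈ D, ∃ a b c d : F, a * d - b * c = 1 ∧ Act N e g (fun p => (a * p.1 + b * p.2, c * p.1 + d * p.2))
  lift : ∀ a b c d : F, a * d - b * c = 1 → ∃ g ∈ D, Act N e g (fun p => (a * p.1 + b * p.2, c * p.1 + d * p.2))

/-- **Natural blocks.** -/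
structure Bq {ι : Type} (S : Sylow 2 G) (M V : Subgroup G) (N D l C : ι → Subgroup G) (q : ℕ) : Prop where
  SM : (S : Subgroup G) ≤ M
  VS : V ≤ (S : Subgroup G)
  MV : ∀ g ∈ M, ∀ v ∈ V, g * v * g⁻¹ ∈ V
  MQ : ∀ g ∈ M, ∀ x ∈ (S : Subgroup G) ⊓ centralizer (V : Set G), g * x * g⁻¹ ∈ (S : Subgroup G)
  el : IsElementaryAbelian 2 V
  NV : ∀ i, N i ≤ V
  CV : ∀ i, C i ≤ V
  WC : ∀ i, ∀ v ∈ V, ∃ w ∈ N i, ∃ c ∈ C i, v = w * c
  dir : ∀ i, N i ⊓ C i = ⊥
  C0 : ∀ x ∈ V, (∀ i, x ∈ C i) → x = 1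
  WjC : ∀ i j, i ≠ j → N j ≤ C i
  sup : V ≤ ⨆ i, N i
  Csup : ∀ i, C i ≤ ⨆ j : {j // j ≠ i}, N j
  perm : ∀ g ∈ M, ∀ i, ∃ j, cj g (N i) = N j ∧ cj g (C i) = C j
  permS : ∀ s ∈ (S : Subgroup G), ∀ i, ∃ j, cj s (N i) = N j ∧ cj s (l i) = l j ∧ cj s (D i) = D j
  tr : ∀ i j, ∃ g ∈ M, cj g (N i) = N j
  DM : ∀ i, D i ≤ M
  DC : ∀ i, ∀ d ∈ D i, ∀ c ∈ C i, d * c = c * d
  q4 : 4 ≤ q
  nat : ∀ i, ∃ (F : Type) (_ : Field F) (_ : Finite F) (_ : CharP F 2) (e : G → F × F), Nat.card F = q ∧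
    CorA F (S : Subgroup G) (N i) (l i) e ∧ SLA F (D i) (N i) e
  off : ∀ A : Subgroup G, A ≤ (S : Subgroup G) → ElemM V A →
    (∀ Y : Subgroup G, Y ≤ V → Nat.card ↥(A ⊓ centralizer (Y : Set G)) * Nat.card Y ≤
      Nat.card A * Nat.card ↥(Y ⊓ centralizer (A : Set G))) →
    ∀ i, A ≤ centralizer (N i : Set G) ∨ ((∀ a ∈ A, ∀ z ∈ l i, a * z = z * a) ∧
      (∀ a ∈ A, ∀ v ∈ N i, a * v * a⁻¹ * v⁻¹ ∈ l i) ∧
      q * Nat.card ↥(A ⊓ centralizer (N i : Set G)) ≤ Nat.card A)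

/-- **The level data.** -/
structure LvQ {ι : Type} (S : Sylow 2 G) (M V : Subgroup G) (N : ι → Subgroup G) (X L J : Subgroup G)
    (AA : Set (Subgroup G)) : Prop where
  ML : M ≤ L
  fam : BFam (S : Subgroup G) X L AA
  elX : IsElementaryAbelian 2 X
  VX : V ≤ X
  XS : X ≤ (S : Subgroup G)
  MX : ∀ g ∈ M, ∀ x ∈ X, g * x * g⁻¹ ∈ X
  AJ : ∀ A ∈ AA, A ≤ J
  JS : J ≤ (S : Subgroup G)
  Jg : J ≤ sSup AA ⊔ ((S : Subgroup G) ⊓ centralizer (V : Set G))
  mv : ∃ i, ∃ A ∈ AA, ¬ A ≤ centralizer (N i : Set G)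

/-- `Z_J = C_V(J)` -/
abbrev ZJ (V J : Subgroup G) : Subgroup G := BFr.ZJ V J

/-- `B = C_S(Z_J)` -/
abbrev BB (S V J : Subgroup G) : Subgroup G := BFr.BB S V J

namespace Bq

variable {ι : Type} {S : Sylow 2 G} {M V : Subgroup G} {N D l C : ι → Subgroup G} {q : ℕ} (b : Bq S M V N D l C q)
include b

theorem Vc {v w : G} (hv : v ∈ V) (hw : w ∈ V) : v * w = w * v := elem_comm b.el v hv w hw

theorem lN (i : ι) : l i ≤ N i := by
  obtain ⟨F, _, _, _, e, -, c, -⟩ := b.nat i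
  exact fun v hv => ((c.memZ v).1 hv).1

theorem card_l (i : ι) : Nat.card (l i) = q := by
  obtain ⟨F, _, _, _, e, hF, c, -⟩ := b.nat i
  rw [← hF]
  refine Nat.card_congr (Equiv.ofBijective (fun v : l i => (e v).1) ⟨?_, fun x => ?_⟩)
  · rintro ⟨v, hv⟩ ⟨w, hw⟩ hvw
    have h1 := (c.memZ v).1 hv
    have h2 := (c.memZ w).1 hw
    exact Subtype.ext (c.inj v h1.1 w h2.1 (Prod.ext hvw (h1.2.trans h2.2.symm)))
  · obtain ⟨v, hv, hve⟩ := c.surj (x, 0)
    refine ⟨⟨v, (c.memZ v).2 ⟨hv, by rw [hve]⟩⟩, ?_⟩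
    show (e v).1 = x
    rw [hve]

theorem card_N (i : ι) : Nat.card (N i) = q * q := by
  obtain ⟨F, _, _, _, e, hF, c, -⟩ := b.nat i
  rw [← hF, ← Nat.card_prod]
  refine Nat.card_congr (Equiv.ofBijective (fun v : N i => e v) ⟨?_, fun x => ?_⟩)
  · rintro ⟨v, hv⟩ ⟨w, hw⟩ hvw
    exact Subtype.ext (c.inj v hv w hw hvw)
  · obtain ⟨v, hv, hve⟩ := c.surj x
    exact ⟨⟨v, hv⟩, hve⟩

theorem exists_ne (i : ι) : ∃ z ∈ l i, z ≠ 1 := by
  by_contra hcon
  push Not at hcon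
  have h1 : l i = ⊥ := (eq_bot_iff_forall _).2 hcon
  have h2 := b.card_l i
  rw [h1, card_bot] at h2
  have := b.q4
  omega

theorem N_inj {i j : ι} (e : N i = N j) : i = j := by
  by_contra hne
  obtain ⟨z, hz, hz1⟩ := b.exists_ne i
  have h1 : z ∈ N i := b.lN i hz
  have h2 : z ∈ N i ⊓ C i := mem_inf.2 ⟨h1, b.WjC i j hne (e ▸ h1)⟩
  rw [b.dir i, mem_bot] at h2
  exact hz1 h2

theorem l_inj {i j : ι} (e : l i = l j) : i = j := by
  by_contra hne
  obtain ⟨z, hz, hz1⟩ := b.exists_ne i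
  have h2 : z ∈ N i ⊓ C i := mem_inf.2 ⟨b.lN i hz, b.WjC i j hne (b.lN j (e ▸ hz))⟩
  rw [b.dir i, mem_bot] at h2
  exact hz1 h2

/-- an element of `M` which normalises `N i` normalises `C i` -/
theorem cj_C {g : G} (hg : g ∈ M) {i j : ι} (e : cj g (N i) = N j) : cj g (C i) = C j := by
  obtain ⟨k, h1, h2⟩ := b.perm g hg i
  rw [h2, b.N_inj (h1.symm.trans e)]

theorem cj_l {s : G} (hs : s ∈ (S : Subgroup G)) {i j : ι} (e : cj s (N i) = N j) : cj s (l i) = l j := by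
  obtain ⟨k, h1, h2, -⟩ := b.permS s hs i
  rw [h2, b.N_inj (h1.symm.trans e)]

theorem cj_N {s : G} (hs : s ∈ (S : Subgroup G)) {i j : ι} (e : cj s (l i) = l j) : cj s (N i) = N j := by
  obtain ⟨k, h1, h2, -⟩ := b.permS s hs i
  rw [h1, b.l_inj (h2.symm.trans e)]

/-- elements centralising all blocks centralise `V` -/
theorem cent_V {g : G} (h : ∀ i, ∀ v ∈ N i, g * v = v * g) : ∀ v ∈ V, g * v = v * g := by
  have h1 : V ≤ centralizer ({g} : Set G) := b.sup.trans (iSup_le fun i v hv =>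
    mem_centralizer_singleton_iff.2 (h i v hv).symm)
  exact fun v hv => (mem_centralizer_singleton_iff.1 (h1 hv)).symm

/-- elements centralising the other blocks centralise `C i` -/
theorem cent_C {g : G} {i : ι} (h : ∀ j, j ≠ i → ∀ v ∈ N j, g * v = v * g) : ∀ v ∈ C i, g * v = v * g := by
  have h1 : C i ≤ centralizer ({g} : Set G) := (b.Csup i).trans (iSup_le fun j v hv =>
    mem_centralizer_singleton_iff.2 (h j.1 j.2 v hv).symm)
  exact fun v hv => (mem_centralizer_singleton_iff.1 (h1 hv)).symm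

end Bq

end Cfsg.Agent.Omega.NOThreeL.RRed.QFr

end
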