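import Cfsg.Agent.Mrg.Omega.OM.SwapV.Q.QF
import Cfsg.Agent.Mrg.Omega.Node.MulG
import Cfsg.Agent.Mrg.Omega.OM.Lev.SMin
import Cfsg.Agent.Mrg.Omega.OM.Lev.FixPt
import Cfsg.Agent.Mrg.Omega.OM.Lev.Low.FrFour

section


/-!
# UNI+ for the blocks of stage `K₀` over `B = C_S(Ω₁Z(nxt S K₀))`, any weakly closed level `K₀`, any `q`

* `V_le` : an FF-block `L' ≤ N_G(K₀)` over `B` has its module in `Ω₁Z(K₀)`;
* `uniK` : it has an index `i` of the frame `FrL B Q V (zc K₀) ZJ ..`;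
* `exists_blkK` : a minimal parabolic `Y` over `T ≥ B` with `K₀ ≤ O₂(Y)`, `nxt S K₀ ≰ O₂(Y)`, `[Ω₁Z(T), Y] ≠ 1` is
  generated by `T` and such a block;
* `qfK` : the frame `QF` at the level `K₀`; `exists_blkK8` : then `L' ≤ L i ⊔ C_G(W i ⊔ Z_J)` if `q ≥ 8`.
-/

set_option autoImplicit false
set_option linter.unusedSectionVars false

namespace Cfsg.Agent.Omega.OM.SwapV.Q.UniK

open Subgroup Cfsg Cfsg.Agent.ZN.ChoiceBase Cfsg.Agent.ZN.ChoiceSit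
open Cfsg.Agent.ZN (jj zj bau zc zl o2)
open Cfsg.Agent.MinSimple.MinParabolic (IsMinPar)
open Cfsg.Agent.Omega.NO3S.Level (nxt Lev)
open Cfsg.Agent.Omega.OM.LevB (FBlk)
open Cfsg.Agent.Omega.OM.Lev.Uni (FrL)
open Cfsg.Agent.Omega.OM.Uni (FB)
open Cfsg.Agent.Omega.OM.UniPlus (NB)
open Cfsg.Agent.Omega.OM.SwapK (WL BK ZK)
open Cfsg.Agent.Omega.SQ1.Bau (elem_sq)

universe u

variable {G : Type u} [Group G] [Finite G] {ι : Type} {S : Sylow 2 G} {K₀ V Q : Subgroup G}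
  {L W Z C A : ι → Subgroup G} {q : ℕ}

/-- the module of a block `L' ≤ N_G(K₀)` lies in `Ω₁Z(K₀)` -/
theorem V_le (wl : WL S K₀) {L' V' : Subgroup G} (h : FBlk (BK (S : Subgroup G) K₀) L' V')
    (hn : L' ≤ normalizer (K₀ : Set G)) : V' ≤ zc K₀ := by
  have hf : Fact (Nat.Prime 2) := ⟨Nat.prime_two⟩
  obtain ⟨Z', q', hF⟩ := h.fb
  have hBS : BK (S : Subgroup G) K₀ ≤ (S : Subgroup G) := inf_le_left
  have h1 := h.blk.le_centralizer (S.isPGroup'.to_le wl.lev.le) hn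
  exact fun v hv => wl.lev.mem_of_comm (hBS (hF.VB hv)) (elem_sq hF.el v hv) fun y hy =>
    (mem_centralizer_iff.1 (h1 hy) v hv).symm

/-- `N_G(B)` permutes the `Z i` -/
theorem norm [Finite ι] (wl : WL S K₀)
    (fr : FrL (BK (S : Subgroup G) K₀) Q V (zc K₀) (ZK (S : Subgroup G) K₀) L W Z C A q) {g : G}
    (hg : g ∈ normalizer (BK (S : Subgroup G) K₀ : Set G)) :
    cj g V = V ∧ ∀ i, ∃ j, cj g (Z i) = Z j ∧ cj g (W i) ≤ W j ⊔ ZK (S : Subgroup G) K₀ :=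
  fr.norm_of hg (NO3S.Level.normalizer_le_zc _ (wl.norm_B hg))

/-- **UNI+ for the blocks in `N_G(K₀)`.** -/
theorem uniK [Finite ι] (wl : WL S K₀)
    (fr : FrL (BK (S : Subgroup G) K₀) Q V (zc K₀) (ZK (S : Subgroup G) K₀) L W Z C A q) {L' V' : Subgroup G}
    (h : FBlk (BK (S : Subgroup G) K₀) L' V') (hn : L' ≤ normalizer (K₀ : Set G)) :
    ∃ i, NB (BK (S : Subgroup G) K₀) L' V' (Z i) q ∧ V' ≤ W i ⊔ ZK (S : Subgroup G) K₀ ∧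
      (∀ z ∈ ZK (S : Subgroup G) K₀, z ∈ C i ↔ ∀ l ∈ L', l * z = z * l) ∧
        (q = 2 → V' = W i ∧ L' ≤ L i ⊔ centralizer ((W i ⊔ ZK (S : Subgroup G) K₀ : Subgroup G) : Set G)) := by
  have hX := V_le wl h hn
  obtain ⟨⟨Z', q', hF⟩, hb⟩ := h
  obtain ⟨-, i, -, h1, h2, h3, h4⟩ := Cfsg.Agent.Omega.OM.Lev.UniPlus.uniPlusX fr wl.lb.Bp wl.wcB
    (fun g hg j => by obtain ⟨k, hk, -⟩ := (norm wl fr hg).2 j; exact ⟨k, hk⟩) hF hX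
  exact ⟨i, h1, h2, h3, h4⟩

/-- **A minimal parabolic of stage `K₀` is generated by `T` and a block with an index.** -/
theorem exists_blkK [Finite ι] (wl : WL S K₀)
    (fr : FrL (BK (S : Subgroup G) K₀) Q V (zc K₀) (ZK (S : Subgroup G) K₀) L W Z C A q) {T Y : Subgroup G}
    (hT : Syl T Y) (hB : BK (S : Subgroup G) K₀ ≤ T) (hP : IsMinPar T Y)
    (hc : Y ⊓ centralizer (o2 Y : Set G) ≤ o2 Y) (hK : K₀ ≤ o2 Y) (hn : ¬ nxt (S : Subgroup G) K₀ ≤ o2 Y)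
    (hZ : ¬ Y ≤ centralizer (zc T : Set G)) :
    ∃ i, ∃ L' V' : Subgroup G, L' ≤ Y ∧ Y ≤ T ⊔ L' ∧ NB (BK (S : Subgroup G) K₀) L' V' (Z i) q ∧
      V' ≤ W i ⊔ ZK (S : Subgroup G) K₀ ∧
      (∀ z ∈ ZK (S : Subgroup G) K₀, z ∈ C i ↔ ∀ l ∈ L', l * z = z * l) ∧
        (q = 2 → V' = W i ∧ L' ≤ L i ⊔ centralizer ((W i ⊔ ZK (S : Subgroup G) K₀ : Subgroup G) : Set G)) := by
  obtain ⟨L', V', h1, h2, h3⟩ := wl.exists_fblk hT hB hP hc hK hn hZ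
  have h4 : L' ≤ normalizer (K₀ : Set G) :=
    h1.trans ((le_normalizer_o2 Y).trans (wl.norm_T (isPGroup_o2 Y) hK))
  obtain ⟨i, h5, h6, h7, h8⟩ := uniK wl fr h2 h4
  exact ⟨i, L', V', h1, h3, h5, h6, h7, h8⟩

/-- `L' ≤ C_G(Z_J ∩ C i)` -/
theorem exists_cent [Finite ι] (wl : WL S K₀)
    (fr : FrL (BK (S : Subgroup G) K₀) Q V (zc K₀) (ZK (S : Subgroup G) K₀) L W Z C A q) {T Y : Subgroup G}
    (hT : Syl T Y) (hB : BK (S : Subgroup G) K₀ ≤ T) (hP : IsMinPar T Y)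
    (hc : Y ⊓ centralizer (o2 Y : Set G) ≤ o2 Y) (hK : K₀ ≤ o2 Y) (hn : ¬ nxt (S : Subgroup G) K₀ ≤ o2 Y)
    (hZ : ¬ Y ≤ centralizer (zc T : Set G)) :
    ∃ i, Y ≤ T ⊔ centralizer ((ZK (S : Subgroup G) K₀ ⊓ C i : Subgroup G) : Set G) := by
  obtain ⟨i, L', V', -, h2, -, -, h5, -⟩ := exists_blkK wl fr hT hB hP hc hK hn hZ
  exact ⟨i, h2.trans (sup_le_sup_left (fun l hl => mem_centralizer_iff.2 fun z hz =>
    ((h5 z hz.1).1 hz.2 l hl).symm) _)⟩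

/-- **The frame `QF` at the level `K₀`.** -/
theorem qfK [Finite ι] (wl : WL S K₀)
    (fr : FrL (BK (S : Subgroup G) K₀) Q V (zc K₀) (ZK (S : Subgroup G) K₀) L W Z C A q)
    (co : ∀ i, ∃ (F : Type) (_ : Field F) (_ : Finite F) (_ : CharP F 2), Nat.card F = q ∧
      ∃ e : G → F × F, Cor F (S : Subgroup G) (BK (S : Subgroup G) K₀) L W Z i e) :
    QF (S : Subgroup G) (BK (S : Subgroup G) K₀) V (ZK (S : Subgroup G) K₀) L W Z C q where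
  B2 := wl.lb.Bp
  BS := wl.lb.BS
  wc := wl.wcB
  syl := fun R hR hR2 hBR => wl.lb.syl.2.2 R hR hR2 hBR
  sq := wl.lb.sq
  Bc := wl.lb.Bc
  zcB := fr.zcB
  Vc := fun v hv w hw => fr.Vc hv hw
  WV := fr.WV
  CV := fr.CV
  ZJV := fr.ZJV
  dir := fr.dir
  WjC := fr.WjC
  blk := fr.blk
  nb := fun i => ⟨fr.blk i, fr.cardZ i⟩
  cardZ := fr.cardZ
  Zle := fr.Z_le
  split := fun i z hz => by
    obtain ⟨w, hw, c, hc, hcJ, e⟩ := fr.split_ZJ i hz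
    exact ⟨w, hw, c, hcJ, hc, e⟩
  LC := fr.LC
  root := fun i w hw hwZ z hz => by
    obtain ⟨a, ha, e⟩ := SWQ.ModQ.root fr hw hwZ hz
    exact ⟨a, fr.AB i ha, e⟩
  norm := fun _ hg i => (norm wl fr hg).2 i
  co := co

/-- **A minimal parabolic of stage `K₀` lies in `⟨T, L i, C_G(Z_J)⟩`** (`q ≥ 8`). -/
theorem exists_blkK8 [Finite ι] (wl : WL S K₀)
    (fr : FrL (BK (S : Subgroup G) K₀) Q V (zc K₀) (ZK (S : Subgroup G) K₀) L W Z C A q)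
    (co : ∀ i, ∃ (F : Type) (_ : Field F) (_ : Finite F) (_ : CharP F 2), Nat.card F = q ∧
      ∃ e : G → F × F, Cor F (S : Subgroup G) (BK (S : Subgroup G) K₀) L W Z i e) (hq : 8 ≤ q) {T Y : Subgroup G}
    (hT : Syl T Y) (hB : BK (S : Subgroup G) K₀ ≤ T) (hP : IsMinPar T Y)
    (hc : Y ⊓ centralizer (o2 Y : Set G) ≤ o2 Y) (hK : K₀ ≤ o2 Y) (hn : ¬ nxt (S : Subgroup G) K₀ ≤ o2 Y)
    (hZ : ¬ Y ≤ centralizer (zc T : Set G)) :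
    ∃ i, Y ≤ T ⊔ (L i ⊔ centralizer (ZK (S : Subgroup G) K₀ : Set G)) := by
  obtain ⟨i, L', V', -, h2, h3, h4, h5, -⟩ := exists_blkK wl fr hT hB hP hc hK hn hZ
  obtain ⟨-, h6⟩ := (qfK wl fr co).uniTwo8 hq h3 h4 fun z hz hzC => (h5 z hz).1 hzC
  refine ⟨i, h2.trans (sup_le_sup_left (h6.trans (sup_le_sup_left (centralizer_le ?_) _)) _)⟩
  exact_mod_cast (le_sup_right : ZK (S : Subgroup G) K₀ ≤ W i ⊔ ZK (S : Subgroup G) K₀)

end Cfsg.Agent.Omega.OM.SwapV.Q.UniK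

end

section


/-!
# `K_0 = ⟨C_G(Z_J), the FF-blocks over B which normalise K₀⟩` over any weakly closed level `K₀`, any `q`

* `FQ`, `KQ` : the family of FF-blocks `L' ≤ N_G(K₀)` over `B = BK S K₀`, and `K_0`;
* `fam`, `norm_KQ`, `L_le` : `N_G(B)` normalises `KQ`, `L i ≤ KQ`;
* `KQ_le` : `KQ ≤ X` if all `C_G(Z_J ∩ C i) ≤ X`; `KQ_le8` : `KQ ≤ X` if `C_G(Z_J), L i ≤ X` and `q ≥ 8`;
* `par_le` : a minimal parabolic `Y` over `T ≥ B` with `K₀ ≤ O₂(Y)`, `[Ω₁Z(T), Y] ≠ 1` lies in `⟨KQ, N_G(B)⟩`;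
* `dich` : if `KQ` normalises a 2-group `≠ 1` then `O = O₂(KQ) ≠ 1`, `O ≤ B`, `⟨KQ, N_G(B)⟩ ≤ N_G(O)`.
-/

set_option autoImplicit false
set_option linter.unusedSectionVars false

namespace Cfsg.Agent.Omega.OM.SwapV.Q.UniK

open Subgroup Cfsg Cfsg.Agent.ZN.ChoiceBase Cfsg.Agent.ZN.ChoiceSit
open Cfsg.Agent.ZN (jj zj bau zc zl o2)
open Cfsg.Agent.MinSimple.MinParabolic (IsMinPar)
open Cfsg.Agent.Omega.NO3S.Level (nxt Lev)
open Cfsg.Agent.Omega.OM.LevB (FBlk)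
open Cfsg.Agent.Omega.OM.Lev.Uni (FrL)
open Cfsg.Agent.Omega.OM.LevD (Fam K0)
open Cfsg.Agent.Omega.OM.SwapK (WL BK ZK)

universe u

variable {G : Type u} [Group G]

/-- The FF-blocks over `B = BK S K₀` which normalise `K₀`. -/
def FQ (S K₀ L' V' : Subgroup G) : Prop := FBlk (BK S K₀) L' V' ∧ L' ≤ normalizer (K₀ : Set G)

/-- `K_0 = ⟨C_G(Z_J), FQ⟩` -/
noncomputable def KQ (S K₀ : Subgroup G) : Subgroup G := K0 (ZK S K₀) (FQ S K₀)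

variable [Finite G] {ι : Type} {S : Sylow 2 G} {K₀ V Q : Subgroup G} {L W Z C A : ι → Subgroup G} {q : ℕ}

theorem cent_le_KQ : centralizer (ZK (S : Subgroup G) K₀ : Set G) ≤ KQ (S : Subgroup G) K₀ := LevD.cent_le_K0

theorem blk_le_KQ {L' V' : Subgroup G} (h : FBlk (BK (S : Subgroup G) K₀) L' V')
    (hn : L' ≤ normalizer (K₀ : Set G)) : L' ≤ KQ (S : Subgroup G) K₀ := LevD.blk_le_K0 (𝓑 := FQ _ _) ⟨h, hn⟩

/-- the frame's blocks are in the family -/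
theorem fblk (wl : WL S K₀) (fr : FrL (BK (S : Subgroup G) K₀) Q V (zc K₀) (ZK (S : Subgroup G) K₀) L W Z C A q)
    (hn : ∀ i, L i ≤ normalizer (K₀ : Set G)) (i : ι) : FQ (S : Subgroup G) K₀ (L i) (W i) :=
  ⟨⟨⟨_, _, fr.blk i⟩, (fr.blk i).toBlock (fr.cardZ i) wl.lb.Bp wl.lb.weakNormal⟩, hn i⟩

theorem L_le (wl : WL S K₀) (fr : FrL (BK (S : Subgroup G) K₀) Q V (zc K₀) (ZK (S : Subgroup G) K₀) L W Z C A q)
    (hn : ∀ i, L i ≤ normalizer (K₀ : Set G)) (i : ι) : L i ≤ KQ (S : Subgroup G) K₀ :=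
  LevD.blk_le_K0 (fblk wl fr hn i)

/-- **`FQ` is a family of blocks.** -/
theorem fam [Finite ι] (wl : WL S K₀)
    (fr : FrL (BK (S : Subgroup G) K₀) Q V (zc K₀) (ZK (S : Subgroup G) K₀) L W Z C A q)
    (hn : ∀ i, L i ≤ normalizer (K₀ : Set G)) :
    Fam (BK (S : Subgroup G) K₀) (ZK (S : Subgroup G) K₀) (FQ (S : Subgroup G) K₀) where
  blk := fun _ _ h => h.1.blk
  conj := fun n hn' L' V' h => ⟨h.1.conj hn', by
    have h1 := mem_normalizer_iff_cj.1 (wl.norm_B hn')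
    have h2 := cj_mono n h.2
    rw [cj_normalizer] at h2
    rwa [h1] at h2⟩
  zj_le := (Cfsg.Agent.Omega.OM.Lev.Low.zj_le fr fun i => ((fr.blk i).ZV.trans (le_iSup W i))).trans (iSup_le fun i => le_iSup
    (fun i : {x : Subgroup G × Subgroup G // FQ (S : Subgroup G) K₀ x.1 x.2} => i.1.2) ⟨(L i, W i), fblk wl fr hn i⟩)

/-- **`N_G(B)` normalises `KQ`.** -/
theorem norm_KQ [Finite ι] (wl : WL S K₀)
    (fr : FrL (BK (S : Subgroup G) K₀) Q V (zc K₀) (ZK (S : Subgroup G) K₀) L W Z C A q)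
    (hn : ∀ i, L i ≤ normalizer (K₀ : Set G)) :
    normalizer (BK (S : Subgroup G) K₀ : Set G) ≤ normalizer (KQ (S : Subgroup G) K₀ : Set G) :=
  LevD.norm_K0 wl.lb (fam wl fr hn)

/-- **`KQ ≤ X` if all `C_G(Z_J ∩ C i) ≤ X`.** -/
theorem KQ_le [Finite ι] [Nonempty ι] (wl : WL S K₀)
    (fr : FrL (BK (S : Subgroup G) K₀) Q V (zc K₀) (ZK (S : Subgroup G) K₀) L W Z C A q) {X : Subgroup G}
    (hX : ∀ i, centralizer ((ZK (S : Subgroup G) K₀ ⊓ C i : Subgroup G) : Set G) ≤ X) :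
    KQ (S : Subgroup G) K₀ ≤ X := by
  refine sup_le ?_ (iSup_le ?_)
  · refine le_trans (centralizer_le ?_) (hX (Classical.arbitrary ι))
    exact_mod_cast (inf_le_left : ZK (S : Subgroup G) K₀ ⊓ C _ ≤ _)
  · rintro ⟨⟨L', V'⟩, h, hn⟩
    obtain ⟨i, -, -, h1, -⟩ := uniK wl fr h hn
    exact le_trans (fun l hl => mem_centralizer_iff.2 fun z hz => ((h1 z hz.1).1 hz.2 l hl).symm) (hX i)

/-- **`KQ ≤ X` if `C_G(Z_J), L i ≤ X`, `q ≥ 8`.** -/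
theorem KQ_le8 [Finite ι] (wl : WL S K₀)
    (fr : FrL (BK (S : Subgroup G) K₀) Q V (zc K₀) (ZK (S : Subgroup G) K₀) L W Z C A q)
    (co : ∀ i, ∃ (F : Type) (_ : Field F) (_ : Finite F) (_ : CharP F 2), Nat.card F = q ∧
      ∃ e : G → F × F, Cor F (S : Subgroup G) (BK (S : Subgroup G) K₀) L W Z i e) (hq : 8 ≤ q) {X : Subgroup G}
    (hD : centralizer (ZK (S : Subgroup G) K₀ : Set G) ≤ X) (hL : ∀ i, L i ≤ X) : KQ (S : Subgroup G) K₀ ≤ X := by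
  refine sup_le hD (iSup_le ?_)
  rintro ⟨⟨L', V'⟩, h, hn⟩
  obtain ⟨i, h3, h4, h5, -⟩ := uniK wl fr h hn
  obtain ⟨-, h6⟩ := (qfK wl fr co).uniTwo8 hq h3 h4 fun z hz hzC => (h5 z hz).1 hzC
  refine h6.trans (sup_le (hL i) ((centralizer_le ?_).trans hD))
  exact_mod_cast (le_sup_right : ZK (S : Subgroup G) K₀ ≤ W i ⊔ ZK (S : Subgroup G) K₀)

/-- **Minimal parabolics of stage `≥ K₀` which move `Ω₁Z(T)` lie in `⟨KQ, N_G(B)⟩`.** -/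
theorem par_le (wl : WL S K₀) {T Y : Subgroup G} (hT : Syl T Y) (hB : BK (S : Subgroup G) K₀ ≤ T)
    (hP : IsMinPar T Y) (hc : Y ⊓ centralizer (o2 Y : Set G) ≤ o2 Y) (hK : K₀ ≤ o2 Y)
    (hZ : ¬ Y ≤ centralizer (zc T : Set G)) :
    Y ≤ KQ (S : Subgroup G) K₀ ⊔ normalizer (BK (S : Subgroup G) K₀ : Set G) := by
  by_cases hn : nxt (S : Subgroup G) K₀ ≤ o2 Y
  · refine ((le_normalizer_o2 Y).trans (wl.lb.nrm _ (isPGroup_o2 Y) hn)).trans ?_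
    exact wl.lb.norm_zj_le.trans (sup_le_sup_right cent_le_KQ _)
  · obtain ⟨L', V', h1, h2, h3⟩ := wl.exists_fblk hT hB hP hc hK hn hZ
    have h4 : L' ≤ normalizer (K₀ : Set G) :=
      h1.trans ((le_normalizer_o2 Y).trans (wl.norm_T (isPGroup_o2 Y) hK))
    exact h3.trans (sup_le ((wl.lb.two_le hT.2.1 hB).trans le_sup_right) ((blk_le_KQ h2 h4).trans le_sup_left))

/-- **If `KQ` normalises a 2-group `≠ 1` then `O₂(KQ) ≠ 1` lies in `B`, and `⟨KQ, N_G(B)⟩` normalises it.** -/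
theorem dich [Finite ι] (wl : WL S K₀)
    (fr : FrL (BK (S : Subgroup G) K₀) Q V (zc K₀) (ZK (S : Subgroup G) K₀) L W Z C A q)
    (hn : ∀ i, L i ≤ normalizer (K₀ : Set G)) {R : Subgroup G} (hR : IsPGroup 2 R) (hR1 : R ≠ ⊥)
    (hK : KQ (S : Subgroup G) K₀ ≤ normalizer (R : Set G)) :
    o2 (KQ (S : Subgroup G) K₀) ≠ ⊥ ∧ o2 (KQ (S : Subgroup G) K₀) ≤ BK (S : Subgroup G) K₀ ∧
      KQ (S : Subgroup G) K₀ ⊔ normalizer (BK (S : Subgroup G) K₀ : Set G) ≤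
        normalizer (o2 (KQ (S : Subgroup G) K₀) : Set G) :=
  (fam wl fr hn).dich wl.lb hR hR1 hK

/-- `O₂(X) ≤ O₂(KQ)` for `X ≥ KQ` with `O₂(X) ≤ C_G(Z_J)` -/
theorem o2_le_KQ {X : Subgroup G} (hX : KQ (S : Subgroup G) K₀ ≤ X)
    (hc : o2 X ≤ centralizer (ZK (S : Subgroup G) K₀ : Set G)) : o2 X ≤ o2 (KQ (S : Subgroup G) K₀) :=
  le_o2 (isPGroup_o2 X) (hc.trans cent_le_KQ) (hX.trans (le_normalizer_o2 X))

end Cfsg.Agent.Omega.OM.SwapV.Q.UniK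

end
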