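import Cfsg.Agent.Mrg.Omega.OM.SwapV.Q.Def
import Cfsg.Agent.Mrg.Omega.OM.SwapV.Q.Main
import Cfsg.Agent.Mrg.Omega.OM.Var.Spread


/-!
# Uniqueness of the blocks over `B` for `q ≥ 8` over the frame `LnQ`: `K0 ≤ ⟨C_G(Z_J), L i : i⟩`

* `bk_of` : one block of the frame;
* `cj_W` : `x ∈ N_G(B)`, `Z_i^x = Z_i`, `x` centralises `Z_J ∩ C i` : `x` normalises `W i` (`q > 2`);
* `V_eq` : an FF-block over `B` with `Z' = Z i` has `V' = W i` (`q > 2`);
* `uniTwo8` : every FF-block `L'` over `B` lies in `L i ⊔ C_G(W i ⊔ Z_J)` (`q ≥ 8`);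
* `LnQ.K0_le8` : `K0 ≤ ⟨C_G(Z_J), L i : i⟩`;
-/

set_option autoImplicit false
set_option linter.unusedSectionVars false

namespace Cfsg.Agent.Omega.OM.SwapV.Q

open Subgroup Cfsg Cfsg.Agent.ZN.ChoiceBase Cfsg.Agent.ZN.ChoiceSit
open Cfsg.Agent.ZN (jj zj bau zc zl o2)
open Cfsg.Agent.MinSimple.MinParabolic (IsMinPar)
open Cfsg.Agent.Omega.NO3S.Level (lev Lev lev_isLev)
open Cfsg.Agent.Omega.OM.FourF (Act)
open Cfsg.Agent.Omega.OM.LevD (LB K0 Fam)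
open Cfsg.Agent.Omega.OM.LevB (FBlk)
open Cfsg.Agent.Omega.OM.Lev.Uni (FrL)
open Cfsg.Agent.Omega.OM.SwapL (ZL BL lb wc norm_lev)
open Cfsg.Agent.Omega.OM.Uni (FB)
open Cfsg.Agent.Omega.OM.UniPlus (NB)
open Cfsg.Agent.Omega.NO3S.EMany.AltQ (Rt sup_eq exists_ne)
open Cfsg.Agent.Omega.NO3S.EMany.FourDQ (trN)
open Cfsg.Agent.Omega.SQ1.Bau (mem_sup_comm)

universe u

variable {G : Type u} [Group G] [Finite G] {ι : Type} {S : Sylow 2 G} {V Q : Subgroup G} {n : ℕ}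
  {L W Z C A : ι → Subgroup G} {q : ℕ}

section one

variable {F : Type} [Field F] {e : G → F × F}

/-- `y ∈ N_G(B)`, a 2-element which centralises `Z_J`, is in `B` -/
theorem mem_BL {y : G} (hy : y ∈ normalizer (BL (S : Subgroup G) n : Set G))
    (hz : ∀ z ∈ ZL (S : Subgroup G) n, y * z = z * y) (h2 : IsPGroup 2 (zpowers y)) : y ∈ BL (S : Subgroup G) n := by
  have h1 : IsPGroup 2 ↥(BL (S : Subgroup G) n ⊔ zpowers y) :=
    (lb S n).Bp.to_sup_of_normal_left' h2 (zpowers_le.2 hy)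
  have h3 : BL (S : Subgroup G) n ⊔ zpowers y ≤ centralizer (ZL (S : Subgroup G) n : Set G) := by
    refine sup_le ?_ (zpowers_le.2 (mem_centralizer_iff.2 fun z hz' => (hz z hz').symm))
    conv_lhs => rw [(lb S n).eqB]
    exact inf_le_right
  have h4 := (lb S n).syl.2.2 _ h3 h1 le_sup_left
  rw [← h4]
  exact mem_sup_right (mem_zpowers y)

/-- **One block of the frame.** -/
theorem bk_of [Finite ι] (h : LnQ S V Q n L W Z C A q) (i : ι)
    (hc : Cor F (S : Subgroup G) (BL (S : Subgroup G) n) L W Z i e) :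
    Bk (BL (S : Subgroup G) n) (ZL (S : Subgroup G) n) (L i) (W i) (Z i) (ZL (S : Subgroup G) n ⊓ C i) e where
  B2 := (lb S n).Bp
  BL := (h.fr.blk i).BL
  syl := (h.fr.blk i).syl
  comm := fun v hv w hw => h.fr.Vc (h.fr.WV i hv) (h.fr.WV i hw)
  WC := fun w hw c hc => h.fr.Vc (h.fr.WV i hw) (h.fr.CV i hc.2)
  CC := fun c hc d hd => h.fr.Vc (h.fr.CV i hc.2) (h.fr.CV i hd.2)
  sqJ := (lb S n).sq
  dir := by
    rw [eq_bot_iff, ← h.fr.dir i]
    exact inf_le_inf_left _ inf_le_right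
  ZW := (h.fr.blk i).ZV
  ZJeq := by
    apply le_antisymm
    · intro z hz
      obtain ⟨w, hw, c, hc, hcJ, rfl⟩ := h.fr.split_ZJ i hz
      exact mul_mem (mem_sup_left hw) (mem_sup_right ⟨hcJ, hc⟩)
    · exact sup_le (h.fr.Z_le i) inf_le_left
  nW := (h.fr.blk i).nV
  LC := fun l hl c hc => h.fr.LC i l hl c hc.1 hc.2
  mem_B := fun y hy hz h2 => mem_BL hy hz h2
  mul := hc.mul
  inj := hc.inj
  surj := hc.surj
  memZ := hc.memZ
  bact := fun b hb => by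
    have hbZ : ∀ z ∈ Z i, b * z * b⁻¹ = z := fun z hz => by rw [(h.fr.blk i).cZ b hb z hz]; group
    have h1 : cj b (Z i) = Z i := by
      refine Subgroup.eq_of_le_of_card_ge ?_ (by rw [card_cj])
      rintro _ ⟨z, hz, rfl⟩
      show b * z * b⁻¹ ∈ Z i
      rw [hbZ z hz]; exact hz
    obtain ⟨s, l, hs⟩ := hc.act b ((lb S n).BS hb) h1
    refine ⟨l, fun w hw => ?_⟩
    have hs1 : ∀ a : F, s a = a := by
      intro a
      obtain ⟨v, hv, e1⟩ := hc.surj (a, 0)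
      have hvZ : v ∈ Z i := (hc.memZ v).2 ⟨hv, by rw [e1]⟩
      have h2 := hs v hv
      rw [hbZ v hvZ, e1] at h2
      have h3 := congrArg Prod.fst h2
      simp only [map_zero, mul_zero, add_zero] at h3
      exact h3.symm
    rw [hs w hw]
    simp only [hs1]
  full := hc.full
  dg := fun l hl => by
    obtain ⟨g, hg, -, ha, -⟩ := hc.sl l 0 0 l⁻¹ (by rw [mul_inv_cancel₀ hl]; ring)
    refine ⟨g, hg, fun w hw => ?_⟩
    rw [ha w hw]
    ext <;> simp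

end one

theorem Z_injL (h : FrL (BL (S : Subgroup G) n) Q V (zc (lev (S : Subgroup G) n)) (ZL (S : Subgroup G) n) L W Z C A q)
    {i j : ι} (e : Z i = Z j) : i = j := by
  by_contra hne
  have h1 : Z i ≤ W i ⊓ C i := le_inf (h.blk i).ZV (by rw [e]; exact (h.blk j).ZV.trans (h.WjC i j hne))
  rw [h.dir i] at h1
  have h2 := Subgroup.card_le_of_le h1
  rw [Subgroup.card_bot, h.cardZ i] at h2
  have := (h.blk i).one
  omega

/-- **`x ∈ N_G(B)` which fixes `Z i` and centralises `Z_J ∩ C i` normalises `W i`** (`q > 2`). -/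
theorem cj_W [Finite ι] (h : LnQ S V Q n L W Z C A q) (hq : 2 < q) {i : ι} {x : G}
    (hx : x ∈ normalizer (BL (S : Subgroup G) n : Set G)) (hZ : cj x (Z i) = Z i)
    (hC : ∀ z ∈ ZL (S : Subgroup G) n, z ∈ C i → x * z = z * x) : ∀ w ∈ W i, x * w * x⁻¹ ∈ W i := by
  obtain ⟨F, _, _, _, hF, e, hc⟩ := h.co i
  have hb := bk_of h i hc
  have hle : W i ⊔ ZL (S : Subgroup G) n ≤ W i ⊔ (ZL (S : Subgroup G) n ⊓ C i) := by
    refine sup_le le_sup_left ?_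
    conv_lhs => rw [hb.ZJeq]
    exact sup_le_sup_right hb.ZW _
  have key : ∀ g ∈ normalizer (BL (S : Subgroup G) n : Set G), cj g (Z i) = Z i →
      cj g (W i) ≤ W i ⊔ (ZL (S : Subgroup G) n ⊓ C i) := by
    intro g hg hgZ
    obtain ⟨j, hj, h2⟩ := (h.fr.norm_of hg (NO3S.Level.normalizer_le_zc _ (norm_lev S (by omega) hg))).2 i
    rw [hgZ] at hj
    have := Z_injL h.fr hj
    subst this
    exact h2.trans hle
  refine hb.cjW ?_ hx hZ (fun c hc => hC c hc.1 hc.2) (fun w hw => key x hx hZ ⟨w, hw, rfl⟩) (fun w hw => ?_)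
  · by_contra hcon
    push Not at hcon
    have := Fintype.ofFinite F
    have h1 : (Set.univ : Set F) ⊆ {0, 1} := fun l _ => by
      by_cases hl : l = 0
      · exact Or.inl hl
      · exact Or.inr (hcon l hl)
    have h2 := Set.ncard_le_ncard h1 (Set.toFinite _)
    rw [Set.ncard_univ, hF] at h2
    have h3 := Set.ncard_insert_le (0 : F) {1}
    rw [Set.ncard_singleton] at h3
    omega
  · have h1 : cj x⁻¹ (Z i) = Z i := by
      conv_lhs => rw [← hZ]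
      exact cj_inv_cj _ _
    have h2 := key x⁻¹ (inv_mem hx) h1 ⟨w, hw, rfl⟩
    have e1 : (MulAut.conj x⁻¹).toMonoidHom w = x⁻¹ * w * x := by simp
    rwa [e1] at h2

/-- `[v, B] = Z i` for `v ∈ V' - Z i`, `V' ≤ W i Z_J`. -/
theorem rtV [Finite ι] (h : LnQ S V Q n L W Z C A q) {i : ι} {L' V' : Subgroup G}
    (hN : NB (BL (S : Subgroup G) n) L' V' (Z i) q) (hV : V' ≤ W i ⊔ ZL (S : Subgroup G) n) :
    Rt (BL (S : Subgroup G) n) V' (Z i) := by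
  intro v hv hvZ z hz
  obtain ⟨w, hw, c, hc, rfl⟩ := mem_sup_comm (fun a ha b hb => h.fr.Vc (h.fr.WV i ha) (h.fr.ZJV hb)) (hV hv)
  have hcB := ((h.fr.mem_ZJ c).1 hc).2
  have hwZ : w ∉ Z i := by
    intro hwZ
    refine hvZ (hN.toMd.mem_Z_iff.2 ⟨hv, fun b hb => ?_⟩)
    have c1 : Commute b w := (h.fr.blk i).cZ b hb w hwZ
    have c2 : Commute b c := hcB b hb
    exact (c1.mul_right c2).eq
  obtain ⟨b, hb, e⟩ := SWQ.ModQ.root h.fr hw hwZ hz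
  refine ⟨b, h.fr.AB i hb, ?_⟩
  have e2 : b * c * b⁻¹ = c := by rw [hcB b (h.fr.AB i hb)]; group
  calc b * (w * c) * b⁻¹ * (w * c)⁻¹ = b * w * b⁻¹ * (b * c * b⁻¹) * c⁻¹ * w⁻¹ := by group
    _ = b * w * b⁻¹ * w⁻¹ := by rw [e2]; group
    _ = z := e

/-- **`V_{L'} = W i`** (`q > 2`). -/
theorem V_eq [Finite ι] (h : LnQ S V Q n L W Z C A q) (hq : 2 < q) {i : ι} {L' V' : Subgroup G}
    (hN : NB (BL (S : Subgroup G) n) L' V' (Z i) q) (hV : V' ≤ W i ⊔ ZL (S : Subgroup G) n)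
    (hcen : ∀ z ∈ ZL (S : Subgroup G) n, z ∈ C i → ∀ l ∈ L', l * z = z * l) : V' = W i := by
  refine Subgroup.eq_of_le_of_card_ge ?_ (by rw [hN.card, (h.fr.blk i).card])
  -- `[V', N_{L'}(B)] ≤ W i`
  have key : ∀ x ∈ L', x ∈ normalizer (BL (S : Subgroup G) n : Set G) → ∀ v ∈ V', x * v * x⁻¹ * v⁻¹ ∈ W i := by
    intro x hx hxB v hv
    obtain ⟨w, hw, c, hc, rfl⟩ := mem_sup_comm (fun a ha b hb => h.fr.Vc (h.fr.WV i ha) (h.fr.ZJV hb)) (hV hv)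
    obtain ⟨z, hz, d, hd, hdJ, rfl⟩ := h.fr.split_ZJ i hc
    have hxZ : cj x (Z i) = Z i := by
      refine Subgroup.eq_of_le_of_card_ge ?_ (by rw [card_cj])
      rintro _ ⟨z, hz, rfl⟩
      exact hN.nZ hx hxB hz
    have hwz : w * z ∈ W i := mul_mem hw ((h.fr.blk i).ZV hz)
    have h1 : x * (w * z) * x⁻¹ ∈ W i := cj_W h hq hxB hxZ (fun z hz hzC => hcen z hz hzC x hx) _ hwz
    have h2 : x * d * x⁻¹ = d := by rw [hcen d hdJ hd x hx]; group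
    have e : x * (w * (z * d)) * x⁻¹ * (w * (z * d))⁻¹ = x * (w * z) * x⁻¹ * (x * d * x⁻¹) * d⁻¹ * (w * z)⁻¹ := by group
    rw [e, h2, mul_inv_cancel_right]
    exact mul_mem h1 (inv_mem hwz)
  obtain ⟨k, hk, hne⟩ := exists_ne hN
  rw [← sup_eq hN hk hne]
  refine sup_le (h.fr.blk i).ZV fun y₀ hy₀ => ?_
  by_cases hy01 : y₀ = 1
  · rw [hy01]; exact one_mem _
  -- `y₁ ≠ 1, y₀`
  have hcard : Nat.card (cj k (Z i)) = q := by rw [card_cj, h.fr.cardZ]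
  obtain ⟨y₁, hy₁, h1, h2⟩ : ∃ y ∈ cj k (Z i), y ≠ 1 ∧ y ≠ y₀⁻¹ := by
    by_contra hcon
    push Not at hcon
    have h1 : (cj k (Z i) : Set G) ⊆ {1, y₀⁻¹} := by
      intro x hx
      by_cases hx1 : x = 1
      · exact Or.inl hx1
      · exact Or.inr (hcon x hx hx1)
    have h2 := Set.ncard_le_ncard h1 (Set.toFinite _)
    have h3 : (cj k (Z i) : Set G).ncard = Nat.card (cj k (Z i)) := rfl
    rw [h3, hcard] at h2
    have h4 := Set.ncard_insert_le (1 : G) {y₀⁻¹}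
    rw [Set.ncard_singleton] at h4
    omega
  have hy₂ : y₀ * y₁ ∈ cj k (Z i) := mul_mem hy₀ hy₁
  have hy₂1 : y₀ * y₁ ≠ 1 := fun e => h2 (eq_inv_of_mul_eq_one_right e)
  obtain ⟨x, hx, hxB, hxy⟩ := trN hN (lb S n).Bp (rtV h hN hV) hk hne hy₁ h1 hy₂ hy₂1
  have h3 := key x hx hxB y₁ (hN.cjV hk hy₁)
  have h4 : y₀ = (x * y₁ * x⁻¹ * (y₀ * y₁)⁻¹)⁻¹ * (x * y₁ * x⁻¹ * y₁⁻¹) := by
    have hc : y₁ * y₀ = y₀ * y₁ := hN.comm (hN.cjV hk hy₁) (hN.cjV hk hy₀)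
    group
  rw [h4]
  exact mul_mem (inv_mem ((h.fr.blk i).ZV hxy)) h3

/-- **Every FF-block over `B` lies in some `L i ⊔ C_G(W i ⊔ Z_J)`** (`q ≥ 8`). -/
theorem uniTwo8 [Finite ι] (h : LnQ S V Q n L W Z C A q) (hq : 8 ≤ q) {L' V' : Subgroup G}
    (hb : FBlk (BL (S : Subgroup G) n) L' V') :
    ∃ i, V' = W i ∧ L' ≤ L i ⊔ centralizer ((W i ⊔ ZL (S : Subgroup G) n : Subgroup G) : Set G) := by
  obtain ⟨⟨Z', q', hF⟩, hb⟩ := hb
  have eqB : BL (S : Subgroup G) n =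
    (S : Subgroup G) ⊓ centralizer (zc (lev (S : Subgroup G) (n + 1)) : Set G) := rfl
  have hX := Lev.LowBlk.V_le S eqB h.fr hF hb.irr
  have hp : ∀ g ∈ normalizer (BL (S : Subgroup G) n : Set G), ∀ j, ∃ k, cj g (Z j) = Z k :=
    fun g hg j => (h.gr.norm g hg).2 j
  obtain ⟨-, i, -, hN, hV, h1, -⟩ := Lev.UniPlus.uniPlusX h.fr (lb S n).Bp (wc S n) hp hF hX
  have hVW := V_eq h (by omega) hN hV fun z hz hzC l hl => (h1 z hz).1 hzC l hl
  subst hVW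
  refine ⟨i, rfl, ?_⟩
  obtain ⟨F, _, _, _, hFc, e, hc⟩ := h.co i
  obtain ⟨k, hk, hkW, hka, -⟩ := hc.sl 0 (-1) 1 0 (by ring)
  have h2 := Var.Spread.uniTwo8 (wc S n) (lb S n).Bp (Lev.UniPlus.nb h.fr i) hN
    (⟨hc.mul, hc.inj, hc.surj, hc.memZ⟩ : Var.Spread.Crd (W i) (Z i) e) (by omega) hc.full (k₁ := k) hk
    (fun u => ?_) (fun R hR hR2 hBR => ?_) (fun z hz => ?_)
  · rwa [h.fr.zcB] at h2
  · constructor
    · intro hu
      rw [mem_cj] at hu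
      have h3 := (hc.memZ _).1 hu
      have h4 : u = k * (k⁻¹ * u * k) * k⁻¹ := by group
      have h5 := hka _ h3.1
      rw [← h4] at h5
      refine ⟨?_, ?_⟩
      · rw [h4]
        exact (h.fr.blk i).nV k hk _ h3.1
      · rw [h5]
        simp only
        rw [h3.2]
        ring
    · rintro ⟨hu, hu0⟩
      rw [mem_cj]
      have h3 : k⁻¹ * u * k ∈ W i := by
        have h4 := (h.fr.blk i).nV k⁻¹ (inv_mem hk) u hu
        rwa [inv_inv] at h4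
      refine (hc.memZ _).2 ⟨h3, ?_⟩
      have h4 : u = k * (k⁻¹ * u * k) * k⁻¹ := by group
      have h5 := hka _ h3
      rw [← h4] at h5
      rw [h5] at hu0
      simpa using hu0
  · rw [h.fr.zcB] at hR
    exact (lb S n).syl.2.2 R hR hR2 hBR
  · rw [h.fr.zcB] at hz
    obtain ⟨w, hw, c, hc', hcJ, e1⟩ := h.fr.split_ZJ i hz
    exact ⟨w, hw, c, fun l hl => h.fr.LC i l hl c hcJ hc', fun l hl => (h1 c hcJ).1 hc' l hl, e1⟩

/-- **`K0 ≤ ⟨C_G(Z_J), L i : i⟩`** (`q ≥ 8`). -/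
theorem LnQ.K0_le8 [Finite ι] (h : LnQ S V Q n L W Z C A q) (hq : 8 ≤ q) :
    K0 (ZL (S : Subgroup G) n) (FBlk (BL (S : Subgroup G) n)) ≤
      centralizer (ZL (S : Subgroup G) n : Set G) ⊔ ⨆ i, L i := by
  refine sup_le le_sup_left (iSup_le ?_)
  rintro ⟨⟨L', V'⟩, hb⟩
  obtain ⟨i, -, hle⟩ := uniTwo8 h hq hb
  refine hle.trans (sup_le ((le_iSup L i).trans le_sup_right) ((centralizer_le ?_).trans le_sup_left))
  exact_mod_cast (le_sup_right : ZL (S : Subgroup G) n ≤ W i ⊔ ZL (S : Subgroup G) n)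

end Cfsg.Agent.Omega.OM.SwapV.Q
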