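import Cfsg.Agent.Mrg.Omega.OM.SwapV.Q.Def
import Cfsg.Agent.Mrg.Omega.OM.Var.Spread
import Cfsg.Agent.Mrg.Omega.OM.SwapV.Q.Neg
import Cfsg.Agent.Mrg.Omega.OM.SwapV.Q.Main
import Cfsg.Agent.Mrg.Omega.OM.SwapV.LowZ
import Cfsg.Agent.Mrg.Omega.OM.Lev.Low.LowMain
import Cfsg.Agent.Mrg.Omega.OM.Lev.LowBlk
import Cfsg.Agent.Mrg.Omega.OM.Lev.SMin
import Cfsg.Agent.Mrg.Omega.NOne.LemmaT
import Cfsg.Agent.Mrg.Omega.NOThreeL.RWide.Typ
import Cfsg.Agent.Mrg.Omega.OM.Var.HU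
import Cfsg.Agent.Mrg.Omega.OM.Lev.Dich
import Cfsg.Agent.Mrg.Omega.FF.GlobEnd
import Cfsg.Agent.Mrg.Omega.EDel.Bx.AODef

section


/-!
# Uniqueness of the blocks over `B` for `q ≥ 8`, frame-free

* `QF S B V ZJ L W Z C q` : what is needed of a frame (any stage, any level `(K, X)`);
* `QF.cj_W` : `x ∈ N_G(B)`, `Z_i^x = Z_i`, `x` centralises `Z_J ∩ C i` : `x` normalises `W i` (`q > 2`);
* `QF.V_eq` : an FF-block over `B` with `Z' = Z i`, `V' ≤ W i Z_J`, `Z_J ∩ C i ≤ C(L')` has `V' = W i` (`q > 2`);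
* `QF.uniTwo8` : then `L' ≤ L i ⊔ C_G(W i ⊔ Z_J)` (`q ≥ 8`).
-/

set_option autoImplicit false
set_option linter.unusedSectionVars false

namespace Cfsg.Agent.Omega.OM.SwapV.Q

open Subgroup Cfsg Cfsg.Agent.ZN.ChoiceBase Cfsg.Agent.ZN.ChoiceSit
open Cfsg.Agent.ZN (jj zj bau zc zl o2)
open Cfsg.Agent.Omega.OM.FourF (Act)
open Cfsg.Agent.Omega.OM.WeakCl (WC)
open Cfsg.Agent.Omega.OM.Uni (FB)
open Cfsg.Agent.Omega.OM.UniPlus (NB)
open Cfsg.Agent.Omega.NO3S.EMany.AltQ (Rt sup_eq exists_ne)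
open Cfsg.Agent.Omega.NO3S.EMany.FourDQ (trN)
open Cfsg.Agent.Omega.SQ1.Bau (mem_sup_comm)

universe u

variable {G : Type u} [Group G] [Finite G] {ι : Type}

/-- What is needed of a frame over `B`, `Z_J = Ω₁Z(B)`, `V`. -/
structure QF (S B V ZJ : Subgroup G) (L W Z C : ι → Subgroup G) (q : ℕ) : Prop where
  B2 : IsPGroup 2 B
  BS : B ≤ S
  wc : WC B
  syl : ∀ R : Subgroup G, R ≤ centralizer (ZJ : Set G) → IsPGroup 2 R → B ≤ R → R = B
  sq : ∀ z ∈ ZJ, z ^ 2 = 1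
  Bc : B ≤ centralizer (ZJ : Set G)
  zcB : zc B = ZJ
  Vc : ∀ v ∈ V, ∀ w ∈ V, v * w = w * v
  WV : ∀ i, W i ≤ V
  CV : ∀ i, C i ≤ V
  ZJV : ZJ ≤ V
  dir : ∀ i, W i ⊓ C i = ⊥
  WjC : ∀ i j, i ≠ j → W j ≤ C i
  blk : ∀ i, FB B (L i) (W i) (Z i) q
  nb : ∀ i, NB B (L i) (W i) (Z i) q
  cardZ : ∀ i, Nat.card (Z i) = q
  Zle : ∀ i, Z i ≤ ZJ
  split : ∀ i, ∀ z ∈ ZJ, ∃ w ∈ Z i, ∃ c ∈ ZJ, c ∈ C i ∧ z = w * c
  LC : ∀ i, ∀ l ∈ L i, ∀ z ∈ ZJ, z ∈ C i → l * z = z * l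
  root : ∀ i, ∀ w ∈ W i, w ∉ Z i → ∀ z ∈ Z i, ∃ b ∈ B, b * w * b⁻¹ * w⁻¹ = z
  norm : ∀ g ∈ normalizer (B : Set G), ∀ i, ∃ j, cj g (Z i) = Z j ∧ cj g (W i) ≤ W j ⊔ ZJ
  co : ∀ i, ∃ (F : Type) (_ : Field F) (_ : Finite F) (_ : CharP F 2), Nat.card F = q ∧
    ∃ e : G → F × F, Cor F S B L W Z i e

namespace QF

variable {S B V ZJ : Subgroup G} {L W Z C : ι → Subgroup G} {q : ℕ}

/-- `y ∈ N_G(B)`, a 2-element which centralises `Z_J`, is in `B` -/
theorem mem_B (h : QF S B V ZJ L W Z C q) {y : G} (hy : y ∈ normalizer (B : Set G))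
    (hz : ∀ z ∈ ZJ, y * z = z * y) (h2 : IsPGroup 2 (zpowers y)) : y ∈ B := by
  have h1 : IsPGroup 2 ↥(B ⊔ zpowers y) := h.B2.to_sup_of_normal_left' h2 (zpowers_le.2 hy)
  have h3 : B ⊔ zpowers y ≤ centralizer (ZJ : Set G) :=
    sup_le h.Bc (zpowers_le.2 (mem_centralizer_iff.2 fun z hz' => (hz z hz').symm))
  have h4 := h.syl _ h3 h1 le_sup_left
  rw [← h4]
  exact mem_sup_right (mem_zpowers y)

section one

variable {F : Type} [Field F] {e : G → F × F}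

/-- **One block of the frame.** -/
theorem bk (h : QF S B V ZJ L W Z C q) (i : ι) (hc : Cor F S B L W Z i e) :
    Bk B ZJ (L i) (W i) (Z i) (ZJ ⊓ C i) e where
  B2 := h.B2
  BL := (h.blk i).BL
  syl := (h.blk i).syl
  comm := fun v hv w hw => h.Vc _ (h.WV i hv) _ (h.WV i hw)
  WC := fun w hw c hc => h.Vc _ (h.WV i hw) _ (h.CV i hc.2)
  CC := fun c hc d hd => h.Vc _ (h.CV i hc.2) _ (h.CV i hd.2)
  sqJ := h.sq
  dir := by
    rw [eq_bot_iff, ← h.dir i]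
    exact inf_le_inf_left _ inf_le_right
  ZW := (h.blk i).ZV
  ZJeq := by
    apply le_antisymm
    · intro z hz
      obtain ⟨w, hw, c, hcJ, hc, rfl⟩ := h.split i z hz
      exact mul_mem (mem_sup_left hw) (mem_sup_right ⟨hcJ, hc⟩)
    · exact sup_le (h.Zle i) inf_le_left
  nW := (h.blk i).nV
  LC := fun l hl c hc => h.LC i l hl c hc.1 hc.2
  mem_B := fun y hy hz h2 => h.mem_B hy hz h2
  mul := hc.mul
  inj := hc.inj
  surj := hc.surj
  memZ := hc.memZ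
  bact := fun b hb => by
    have hbZ : ∀ z ∈ Z i, b * z * b⁻¹ = z := fun z hz => by rw [(h.blk i).cZ b hb z hz]; group
    have h1 : cj b (Z i) = Z i := by
      refine Subgroup.eq_of_le_of_card_ge ?_ (by rw [card_cj])
      rintro _ ⟨z, hz, rfl⟩
      show b * z * b⁻¹ ∈ Z i
      rw [hbZ z hz]; exact hz
    obtain ⟨s, l, hs⟩ := hc.act b (h.BS hb) h1
    refine ⟨l, fun w hw => ?_⟩
    have hs1 : ∀ a : F, s a = a := by
      intro a
      obtain ⟨v, hv, e1⟩ := hc.surj (a, 0)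
      have hvZ : v ∈ Z i := (hc.memZ v).2 ⟨hv, by rw [e1]⟩
      have h2 := hs v hv
      rw [hbZ v hvZ, e1] at h2
      have h3 := congrArg Prod.fst h2
      simp only [map_zero, mul_zero, add_zero] at h3
      exact h3.symm
    rw [hs w hw]
    simp only [hs1]
  full := hc.full
  dg := fun l hl => by
    obtain ⟨g, hg, -, ha, -⟩ := hc.sl l 0 0 l⁻¹ (by rw [mul_inv_cancel₀ hl]; ring)
    refine ⟨g, hg, fun w hw => ?_⟩
    rw [ha w hw]
    ext <;> simp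

end one

theorem Z_inj (h : QF S B V ZJ L W Z C q) {i j : ι} (e : Z i = Z j) : i = j := by
  by_contra hne
  have h1 : Z i ≤ W i ⊓ C i := le_inf (h.blk i).ZV (by rw [e]; exact (h.blk j).ZV.trans (h.WjC i j hne))
  rw [h.dir i] at h1
  have h2 := Subgroup.card_le_of_le h1
  rw [Subgroup.card_bot, h.cardZ i] at h2
  have := (h.blk i).one
  omega

/-- **`x ∈ N_G(B)` which fixes `Z i` and centralises `Z_J ∩ C i` normalises `W i`** (`q > 2`). -/
theorem cj_W (h : QF S B V ZJ L W Z C q) (hq : 2 < q) {i : ι} {x : G}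
    (hx : x ∈ normalizer (B : Set G)) (hZ : cj x (Z i) = Z i)
    (hC : ∀ z ∈ ZJ, z ∈ C i → x * z = z * x) : ∀ w ∈ W i, x * w * x⁻¹ ∈ W i := by
  obtain ⟨F, _, _, _, hF, e, hc⟩ := h.co i
  have hb := h.bk i hc
  have hle : W i ⊔ ZJ ≤ W i ⊔ (ZJ ⊓ C i) := by
    refine sup_le le_sup_left ?_
    conv_lhs => rw [hb.ZJeq]
    exact sup_le_sup_right hb.ZW _
  have key : ∀ g ∈ normalizer (B : Set G), cj g (Z i) = Z i → cj g (W i) ≤ W i ⊔ (ZJ ⊓ C i) := by
    intro g hg hgZ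
    obtain ⟨j, hj, h2⟩ := h.norm g hg i
    rw [hgZ] at hj
    have := h.Z_inj hj
    subst this
    exact h2.trans hle
  refine hb.cjW ?_ hx hZ (fun c hc => hC c hc.1 hc.2) (fun w hw => key x hx hZ ⟨w, hw, rfl⟩) (fun w hw => ?_)
  · by_contra hcon
    push Not at hcon
    have := Fintype.ofFinite F
    have h1 : (Set.univ : Set F) ⊆ {0, 1} := fun l _ => by
      by_cases hl : l = 0
      · exact Or.inl hl
      · exact Or.inr (hcon l hl)
    have h2 := Set.ncard_le_ncard h1 (Set.toFinite _)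
    rw [Set.ncard_univ, hF] at h2
    have h3 := Set.ncard_insert_le (0 : F) {1}
    rw [Set.ncard_singleton] at h3
    omega
  · have h1 : cj x⁻¹ (Z i) = Z i := by
      conv_lhs => rw [← hZ]
      exact cj_inv_cj _ _
    have h2 := key x⁻¹ (inv_mem hx) h1 ⟨w, hw, rfl⟩
    have e1 : (MulAut.conj x⁻¹).toMonoidHom w = x⁻¹ * w * x := by simp
    rwa [e1] at h2

theorem cB (h : QF S B V ZJ L W Z C q) {b z : G} (hb : b ∈ B) (hz : z ∈ ZJ) : b * z = z * b :=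
  (mem_centralizer_iff.1 (h.Bc hb) z hz).symm

/-- `[v, B] = Z i` for `v ∈ V' - Z i`, `V' ≤ W i Z_J`. -/
theorem rtV (h : QF S B V ZJ L W Z C q) {i : ι} {L' V' : Subgroup G}
    (hN : NB B L' V' (Z i) q) (hV : V' ≤ W i ⊔ ZJ) : Rt B V' (Z i) := by
  intro v hv hvZ z hz
  obtain ⟨w, hw, c, hc, rfl⟩ := mem_sup_comm (fun a ha b hb => h.Vc _ (h.WV i ha) _ (h.ZJV hb)) (hV hv)
  have hwZ : w ∉ Z i := by
    intro hwZ
    refine hvZ (hN.toMd.mem_Z_iff.2 ⟨hv, fun b hb => ?_⟩)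
    have c1 : Commute b w := (h.blk i).cZ b hb w hwZ
    have c2 : Commute b c := h.cB hb hc
    exact (c1.mul_right c2).eq
  obtain ⟨b, hb, e⟩ := h.root i w hw hwZ z hz
  refine ⟨b, hb, ?_⟩
  have e2 : b * c * b⁻¹ = c := by rw [h.cB hb hc]; group
  calc b * (w * c) * b⁻¹ * (w * c)⁻¹ = b * w * b⁻¹ * (b * c * b⁻¹) * c⁻¹ * w⁻¹ := by group
    _ = b * w * b⁻¹ * w⁻¹ := by rw [e2]; group
    _ = z := e

/-- **`V_{L'} = W i`** (`q > 2`). -/
theorem V_eq (h : QF S B V ZJ L W Z C q) (hq : 2 < q) {i : ι} {L' V' : Subgroup G}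
    (hN : NB B L' V' (Z i) q) (hV : V' ≤ W i ⊔ ZJ)
    (hcen : ∀ z ∈ ZJ, z ∈ C i → ∀ l ∈ L', l * z = z * l) : V' = W i := by
  refine Subgroup.eq_of_le_of_card_ge ?_ (by rw [hN.card, (h.blk i).card])
  -- `[V', N_{L'}(B)] ≤ W i`
  have key : ∀ x ∈ L', x ∈ normalizer (B : Set G) → ∀ v ∈ V', x * v * x⁻¹ * v⁻¹ ∈ W i := by
    intro x hx hxB v hv
    obtain ⟨w, hw, c, hc, rfl⟩ := mem_sup_comm (fun a ha b hb => h.Vc _ (h.WV i ha) _ (h.ZJV hb)) (hV hv)
    obtain ⟨z, hz, d, hdJ, hd, rfl⟩ := h.split i c hc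
    have hxZ : cj x (Z i) = Z i := by
      refine Subgroup.eq_of_le_of_card_ge ?_ (by rw [card_cj])
      rintro _ ⟨z, hz, rfl⟩
      exact hN.nZ hx hxB hz
    have hwz : w * z ∈ W i := mul_mem hw ((h.blk i).ZV hz)
    have h1 : x * (w * z) * x⁻¹ ∈ W i := h.cj_W hq hxB hxZ (fun z hz hzC => hcen z hz hzC x hx) _ hwz
    have h2 : x * d * x⁻¹ = d := by rw [hcen d hdJ hd x hx]; group
    have e : x * (w * (z * d)) * x⁻¹ * (w * (z * d))⁻¹ = x * (w * z) * x⁻¹ * (x * d * x⁻¹) * d⁻¹ * (w * z)⁻¹ := by group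
    rw [e, h2, mul_inv_cancel_right]
    exact mul_mem h1 (inv_mem hwz)
  obtain ⟨k, hk, hne⟩ := exists_ne hN
  rw [← sup_eq hN hk hne]
  refine sup_le (h.blk i).ZV fun y₀ hy₀ => ?_
  by_cases hy01 : y₀ = 1
  · rw [hy01]; exact one_mem _
  -- `y₁ ≠ 1, y₀`
  have hcard : Nat.card (cj k (Z i)) = q := by rw [card_cj, h.cardZ]
  obtain ⟨y₁, hy₁, h1, h2⟩ : ∃ y ∈ cj k (Z i), y ≠ 1 ∧ y ≠ y₀⁻¹ := by
    by_contra hcon
    push Not at hcon
    have h1 : (cj k (Z i) : Set G) ⊆ {1, y₀⁻¹} := by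
      intro x hx
      by_cases hx1 : x = 1
      · exact Or.inl hx1
      · exact Or.inr (hcon x hx hx1)
    have h2 := Set.ncard_le_ncard h1 (Set.toFinite _)
    have h3 : (cj k (Z i) : Set G).ncard = Nat.card (cj k (Z i)) := rfl
    rw [h3, hcard] at h2
    have h4 := Set.ncard_insert_le (1 : G) {y₀⁻¹}
    rw [Set.ncard_singleton] at h4
    omega
  have hy₂ : y₀ * y₁ ∈ cj k (Z i) := mul_mem hy₀ hy₁
  have hy₂1 : y₀ * y₁ ≠ 1 := fun e => h2 (eq_inv_of_mul_eq_one_right e)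
  obtain ⟨x, hx, hxB, hxy⟩ := trN hN h.B2 (h.rtV hN hV) hk hne hy₁ h1 hy₂ hy₂1
  have h3 := key x hx hxB y₁ (hN.cjV hk hy₁)
  have h4 : y₀ = (x * y₁ * x⁻¹ * (y₀ * y₁)⁻¹)⁻¹ * (x * y₁ * x⁻¹ * y₁⁻¹) := by
    have hc : y₁ * y₀ = y₀ * y₁ := hN.comm (hN.cjV hk hy₁) (hN.cjV hk hy₀)
    group
  rw [h4]
  exact mul_mem (inv_mem ((h.blk i).ZV hxy)) h3

/-- **An FF-block `L'` over `B` of index `i` lies in `L i ⊔ C_G(W i ⊔ Z_J)`** (`q ≥ 8`). -/
theorem uniTwo8 (h : QF S B V ZJ L W Z C q) (hq : 8 ≤ q) {i : ι} {L' V' : Subgroup G}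
    (hN : NB B L' V' (Z i) q) (hV : V' ≤ W i ⊔ ZJ) (hcen : ∀ z ∈ ZJ, z ∈ C i → ∀ l ∈ L', l * z = z * l) :
    V' = W i ∧ L' ≤ L i ⊔ centralizer ((W i ⊔ ZJ : Subgroup G) : Set G) := by
  have hVW := h.V_eq (by omega) hN hV hcen
  subst hVW
  refine ⟨rfl, ?_⟩
  obtain ⟨F, _, _, _, hFc, e, hc⟩ := h.co i
  obtain ⟨k, hk, hkW, hka, -⟩ := hc.sl 0 (-1) 1 0 (by ring)
  have h2 := Var.Spread.uniTwo8 h.wc h.B2 (h.nb i) hN
    (⟨hc.mul, hc.inj, hc.surj, hc.memZ⟩ : Var.Spread.Crd (W i) (Z i) e) (by omega) hc.full (k₁ := k) hk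
    (fun u => ?_) (fun R hR hR2 hBR => ?_) (fun z hz => ?_)
  · rwa [h.zcB] at h2
  · constructor
    · intro hu
      rw [mem_cj] at hu
      have h3 := (hc.memZ _).1 hu
      have h4 : u = k * (k⁻¹ * u * k) * k⁻¹ := by group
      have h5 := hka _ h3.1
      rw [← h4] at h5
      refine ⟨?_, ?_⟩
      · rw [h4]
        exact (h.blk i).nV k hk _ h3.1
      · rw [h5]
        simp only
        rw [h3.2]
        ring
    · rintro ⟨hu, hu0⟩
      rw [mem_cj]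
      have h3 : k⁻¹ * u * k ∈ W i := by
        have h4 := (h.blk i).nV k⁻¹ (inv_mem hk) u hu
        rwa [inv_inv] at h4
      refine (hc.memZ _).2 ⟨h3, ?_⟩
      have h4 : u = k * (k⁻¹ * u * k) * k⁻¹ := by group
      have h5 := hka _ h3
      rw [← h4] at h5
      rw [h5] at hu0
      simpa using hu0
  · rw [h.zcB] at hR
    exact h.syl R hR hR2 hBR
  · rw [h.zcB] at hz
    obtain ⟨w, hw, c, hcJ, hc', e1⟩ := h.split i z hz
    exact ⟨w, hw, c, fun l hl => h.LC i l hl c hcJ hc', fun l hl => hcen c hcJ hc' l hl, e1⟩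

end QF

end Cfsg.Agent.Omega.OM.SwapV.Q

end

section


/-!
# (Om) for `q ≥ 4` over an abstract `V`, stage `-1`: the weak form and uniqueness of the blocks for `q ≥ 8`

* `NegQ.qf`, `LnQ.qf` : the frame-free frame `QF` at the stages `-1` and `n ≥ 0`;
* `NegQ.fam0`, `NegQ.nonLocK` : if `⟨C_G(Z_J), all FF-blocks over B⟩` normalises a 2-group `≠ 1` then `M = N_G(O)`,
  `O = O₂(K0) ≠ 1`, contains `N_G(B)`, all `L i` and all subgroups of characteristic 2 over `B`;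
* `NegQ.K0_le8` : `K0 ≤ ⟨C_G(Z_J), L i : i⟩` (`q ≥ 8`).
-/

set_option autoImplicit false
set_option linter.unusedSectionVars false

namespace Cfsg.Agent.Omega.OM.SwapV.Q

open Subgroup Cfsg Cfsg.Agent.ZN.ChoiceBase Cfsg.Agent.ZN.ChoiceSit
open Cfsg.Agent.ZN (jj zj bau zc zl o2)
open Cfsg.Agent.MinSimple.MinParabolic (IsMinPar)
open Cfsg.Agent.Omega.OM.LevD (LB)
open Cfsg.Agent.Omega.OM.Uni (Fr FB)
open Cfsg.Agent.Omega.OM.SwapL (ZL BL lb wc norm_lev)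

universe u

variable {G : Type u} [Group G] [Finite G] {ι : Type} [Finite ι] {S : Sylow 2 G} {V Q : Subgroup G} {n : ℕ}
  {L W Z C A : ι → Subgroup G} {q : ℕ}

/-- **The frame `QF` at stage `-1`.** -/
theorem NegQ.qf (h : NegQ S V Q L W Z C A q) :
    QF (S : Subgroup G) (bau (S : Subgroup G)) V (zj (S : Subgroup G)) L W Z C q where
  B2 := (LB.neg S).Bp
  BS := bau_le _
  wc := UniPlus.wc_bau S
  syl := fun R hR hR2 hBR => (LB.neg S).syl.2.2 R hR hR2 hBR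
  sq := (LB.neg S).sq
  Bc := (LB.neg S).Bc
  zcB := h.fr.zcB
  Vc := fun v hv w hw => h.fr.Vc hv hw
  WV := h.fr.WV
  CV := h.fr.CV
  ZJV := h.fr.ZJV
  dir := h.fr.dir
  WjC := h.fr.WjC
  blk := h.fr.blk
  nb := fun i => ⟨h.fr.blk i, h.fr.cardZ i⟩
  cardZ := h.fr.cardZ
  Zle := h.fr.Z_le
  split := fun i z hz => by
    obtain ⟨w, hw, c, hc, hcJ, e⟩ := h.fr.split_ZJ i hz
    exact ⟨w, hw, c, hcJ, hc, e⟩
  LC := h.fr.LC
  root := fun i w hw hwZ z hz => by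
    obtain ⟨a, ha, e⟩ := NegMod.root h.fr hw hwZ hz
    exact ⟨a, h.fr.AB i ha, e⟩
  norm := fun g hg i => (h.norm hg).2 i
  co := h.co

/-- **The frame `QF` at stage `n ≥ 0`.** -/
theorem LnQ.qf (h : LnQ S V Q n L W Z C A q) :
    QF (S : Subgroup G) (BL (S : Subgroup G) n) V (ZL (S : Subgroup G) n) L W Z C q where
  B2 := (lb S n).Bp
  BS := (lb S n).BS
  wc := wc S n
  syl := fun R hR hR2 hBR => (lb S n).syl.2.2 R hR hR2 hBR
  sq := (lb S n).sq
  Bc := (lb S n).Bc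
  zcB := h.fr.zcB
  Vc := fun v hv w hw => h.fr.Vc hv hw
  WV := h.fr.WV
  CV := h.fr.CV
  ZJV := h.fr.ZJV
  dir := h.fr.dir
  WjC := h.fr.WjC
  blk := h.fr.blk
  nb := fun i => ⟨h.fr.blk i, h.fr.cardZ i⟩
  cardZ := h.fr.cardZ
  Zle := h.fr.Z_le
  split := fun i z hz => by
    obtain ⟨w, hw, c, hc, hcJ, e⟩ := h.fr.split_ZJ i hz
    exact ⟨w, hw, c, hcJ, hc, e⟩
  LC := h.fr.LC
  root := fun i w hw hwZ z hz => by
    obtain ⟨a, ha, e⟩ := SWQ.ModQ.root h.fr hw hwZ hz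
    exact ⟨a, h.fr.AB i ha, e⟩
  norm := fun g hg i => (h.fr.norm_of hg (NO3S.Level.normalizer_le_zc _ (norm_lev S (by omega) hg))).2 i
  co := h.co

/-- the members of `K0`, stage `-1` -/
theorem NegQ.fblk (h : NegQ S V Q L W Z C A q) (i : ι) : BlkGen.FBlk (S : Subgroup G) (L i) (W i) where
  fb := ⟨_, _, h.fr.blk i⟩
  blk := (h.fr.blk i).toBlock (h.fr.cardZ i) (LB.neg S).Bp (LB.neg S).weakNormal

theorem NegQ.fam0 (h : NegQ S V Q L W Z C A q) : Dich.Fam S (BlkGen.FBlk (S : Subgroup G)) :=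
  BlkGen.fam (((NegMod.ZJ_le_sup h.fr).trans (iSup_mono fun i => (h.fr.blk i).ZV)).trans (iSup_le fun i => le_iSup
    (fun i : {x : Subgroup G × Subgroup G // BlkGen.FBlk (S : Subgroup G) x.1 x.2} => i.1.2) ⟨(L i, W i), h.fblk i⟩))

/-- **(Om), stage `-1`**: if `⟨C_G(Z_J), all FF-blocks over B⟩` normalises a nontrivial 2-group, then
`M = N_G(O₂(K0))` contains `N_G(B)`, all `L i` and every subgroup of characteristic 2 over `B`. -/
theorem NegQ.nonLocK [Nonempty ι] (h : NegQ S V Q L W Z C A q) (hq : 4 ≤ q) {R : Subgroup G}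
    (hR : IsPGroup 2 R) (hR1 : R ≠ ⊥)
    (hY : Dich.K0 (S : Subgroup G) (BlkGen.FBlk (S : Subgroup G)) ≤ normalizer (R : Set G)) :
    ∃ O : Subgroup G, IsPGroup 2 O ∧ O ≠ ⊥ ∧ O ≤ bau (S : Subgroup G) ∧
      centralizer (zj (S : Subgroup G) : Set G) ≤ normalizer (O : Set G) ∧ (∀ i, L i ≤ normalizer (O : Set G)) ∧
      normalizer (bau (S : Subgroup G) : Set G) ≤ normalizer (O : Set G) ∧
      ∀ H : Subgroup G, bau (S : Subgroup G) ≤ H → H ⊓ centralizer (o2 H : Set G) ≤ o2 H →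
        H ≤ normalizer (O : Set G) := by
  obtain ⟨ho, hoB, hle⟩ := h.fam0.dich hR hR1 hY
  set O : Subgroup G := o2 (Dich.K0 (S : Subgroup G) (BlkGen.FBlk (S : Subgroup G))) with hO
  have hK : Dich.K0 (S : Subgroup G) (BlkGen.FBlk (S : Subgroup G)) ≤ normalizer (O : Set G) :=
    le_sup_left.trans hle
  have hN : normalizer (bau (S : Subgroup G) : Set G) ≤ normalizer (O : Set G) := le_sup_right.trans hle
  have hLM : ∀ i, L i ≤ normalizer (O : Set G) := fun i => (Dich.blk_le_K0 (h.fblk i)).trans hK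
  have hDM : centralizer (zj (S : Subgroup G) : Set G) ≤ normalizer (O : Set G) := Dich.cent_le_K0.trans hK
  refine ⟨O, isPGroup_o2 _, ho, hoB, hDM, hLM, hN, fun H hB hc => ?_⟩
  refine h.gr.le_of_char2 ‹_› (fun _ => hq) (fun _ _ e => e) ?_ hLM hDM hN hB hc
  intro T Y hT hBT hP hcY hn hZ
  have hJ : ¬ jj T ≤ o2 Y := by
    rw [LemmaK.Main.jj_eq S hT.2.1 hBT]
    exact hn
  obtain ⟨L', V', h1, -, h3⟩ := Var.exists_blk FF.Glob.ffthm S hT hBT hP hcY hJ hZ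
  exact h3.trans (sup_le ((Dich.blk_le_K0 h1).trans hK) ((Dich.two_le S hT.2.1 hBT).trans hN))

/-- **`K0 ≤ ⟨C_G(Z_J), L i : i⟩`**, stage `-1` (`q ≥ 8`). -/
theorem NegQ.K0_le8 [Nonempty ι] (h : NegQ S V Q L W Z C A q) (hq : 8 ≤ q) (h2 : ∀ i : ι, ∃ j, j ≠ i) :
    Dich.K0 (S : Subgroup G) (BlkGen.FBlk (S : Subgroup G)) ≤
      centralizer (zj (S : Subgroup G) : Set G) ⊔ ⨆ i, L i := by
  refine sup_le le_sup_left (iSup_le ?_)
  rintro ⟨⟨L', V'⟩, ⟨Z', q', hF⟩, hb⟩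
  obtain ⟨i, rfl, -, hN, hV, -, h1⟩ := (h.bfr (by omega) h2).blk hF
  obtain ⟨-, hle⟩ := h.qf.uniTwo8 hq hN hV fun z hz hzC => (h1 z hz).1 hzC
  refine hle.trans (sup_le ((le_iSup L i).trans le_sup_right) ((centralizer_le ?_).trans le_sup_left))
  exact_mod_cast (le_sup_right : zj (S : Subgroup G) ≤ W i ⊔ zj (S : Subgroup G))

end Cfsg.Agent.Omega.OM.SwapV.Q

end

section


/-!
# (LL) for `q > 2` over `FrL` only (box R, stage `n ≥ 0`)

* `low_four` : `T ≥ B = BL S n` a Sylow 2-subgroup of the minimal parabolic `Y` of characteristic 2, `Y` moves `Ω₁(Z(T))`: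
  `lev S n ≤ O₂(Y)`;
* `blk_four` : if moreover `lev S (n+1) ≰ O₂(Y)`: `Y ≤ ⟨L', T⟩` for an FF-block `L' ≤ Y` over `B`.
-/

set_option autoImplicit false

namespace Cfsg.Agent.Omega.OM.SwapV.LowFour

open Subgroup Cfsg Cfsg.Agent.ZN.ChoiceBase Cfsg.Agent.ZN.ChoiceSit
open Cfsg.Agent.ZN (jj zj bau zc zl o2)
open Cfsg.Agent.MinSimple.MinParabolic (IsMinPar)
open Cfsg.Agent.Omega.NO3S.Level (lev nxt Lev lev_isLev)
open Cfsg.Agent.Omega.OM.Lev.Uni (FrL)
open Cfsg.Agent.Omega.OM.SwapL (ZL BL lb)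

universe u

variable {G : Type u} [Group G] [Finite G] {ι : Type} [Finite ι] {S : Sylow 2 G} {V Q : Subgroup G} {n : ℕ}
  {L W Z C A : ι → Subgroup G} {q : ℕ}

/-- **(LL), `q > 2`, over `FrL`.** -/
theorem low_four
    (h : FrL (BL (S : Subgroup G) n) Q V (zc (lev (S : Subgroup G) n)) (ZL (S : Subgroup G) n) L W Z C A q)
    (hq : 2 < q) {T Y : Subgroup G} (hT : Syl T Y) (hB : BL (S : Subgroup G) n ≤ T) (hP : IsMinPar T Y)
    (hc : Y ⊓ centralizer (o2 Y : Set G) ≤ o2 Y) (hZ : ¬ Y ≤ centralizer (zc T : Set G)) :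
    lev (S : Subgroup G) n ≤ o2 Y := by
  by_contra hn
  obtain ⟨j, hj, hlow, hnj⟩ := Lev.Low.exists_stg (S : Subgroup G) hn
  have hBj : LevB.BL (S : Subgroup G) j ≤ T := (Lev.Low.BL_mono (S : Subgroup G) (by omega : j ≤ n + 1)).trans hB
  obtain ⟨Λ, _, N, c, hy, l, hl⟩ := Lev.Low.exists_ybj S hT hBj hP hc hlow hnj hZ
  have h1 := Lev.Low.no_low h hq hy (LowZ.qv h hT.2.1 hB hj) hB l
  exact hl ((Lev.Low.zc_T_le S hT.2.1 hB).trans h1)

/-- **The block of `Y`, `q > 2`.** -/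
theorem blk_four
    (h : FrL (BL (S : Subgroup G) n) Q V (zc (lev (S : Subgroup G) n)) (ZL (S : Subgroup G) n) L W Z C A q)
    (hq : 2 < q) {T Y : Subgroup G} (hT : Syl T Y) (hB : BL (S : Subgroup G) n ≤ T) (hP : IsMinPar T Y)
    (hc : Y ⊓ centralizer (o2 Y : Set G) ≤ o2 Y) (hn1 : ¬ lev (S : Subgroup G) (n + 1) ≤ o2 Y)
    (hZ : ¬ Y ≤ centralizer (zc T : Set G)) :
    ∃ L' V' : Subgroup G, L' ≤ Y ∧ LevB.FBlk (BL (S : Subgroup G) n) L' V' ∧ Y ≤ L' ⊔ T := by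
  have hK := low_four h hq hT hB hP hc hZ
  obtain ⟨L', V', h1, hF, hsup⟩ := LevB.exists_fblk S hT hB hP hc hK hn1 hZ
  exact ⟨L', V', h1, hF, hsup.trans (by rw [sup_comm])⟩

end Cfsg.Agent.Omega.OM.SwapV.LowFour

end

section


/-!
# `par` of `TypT` for natural blocks over `GF(q)`, `q > 2`, at a level `n ≥ 0` (LL(q), UNI+, FIX-X)

Frame `FrL (BL S n) Q V (zc (lev S n)) (ZL S n) L W Z C A q`, `T ≥ B = BL S n` any 2-group, `1 ≠ F i ≤ Z i ∩ Ω₁(Z(T))`, `T`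
Sylow in `Y_j = C_G(F l : l ≠ j)`.

* `norm_V` : `P ≤ Y_j` minimal over `T`, `P` moves `F j` ⟹ `P ≤ N_G(V)`;
* `norm_W` : then `P` normalises all the `W i` (if `N_G(V)` permutes them);
* `parT_lev` : the field `par` of `TypT`.
-/

set_option autoImplicit false

namespace Cfsg.Agent.Omega.NOThreeL.RWide.ParLev

open Subgroup Cfsg Cfsg.Agent.ZN.ChoiceBase Cfsg.Agent.ZN.ChoiceSit
open Cfsg.Agent.ZN (jj zj bau zc zl o2)
open Cfsg.Agent.MinSimple.MinParabolic (IsMinPar)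
open Cfsg.Agent.Omega.NO3S.Level (lev nxt Lev lev_isLev)
open Cfsg.Agent.Omega.OM Cfsg.Agent.Omega.OM.Uni
open Cfsg.Agent.Omega.OM.Lev.Uni (FrL)
open Cfsg.Agent.Omega.OM.SwapL (ZL BL lb wc)

universe u v

variable {G : Type u} [Group G]

/-- `Y_j` is the centraliser of a group. -/
theorem YY_eq {ι : Type v} (F : ι → Subgroup G) (j : ι) :
    YY F j = centralizer ((⨆ l : {l // l ≠ j}, F l : Subgroup G) : Set G) := by
  apply le_antisymm
  · rw [← le_centralizer_iff]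
    refine iSup_le fun l => ?_
    rw [le_centralizer_iff]
    exact YY_le_cent l.2
  · refine centralizer_le ?_
    rintro x ⟨l, hl, hx⟩
    exact (le_iSup (fun l : {l // l ≠ j} => F l) ⟨l, hl⟩) hx

/-- `T ≤ P ≤ Y_j`, `T` Sylow in `Y_j`: `P` has characteristic 2. -/
theorem char2 [Finite G] (hG : IsCharacteristicTwoType G) {ι : Type v} {F : ι → Subgroup G} {T P : Subgroup G}
    {j l : ι} (hl : l ≠ j) (hne : F l ≠ ⊥) (hF : ∀ i, F i ≤ zc T) (syl : Syl T (YY F j)) (hTP : T ≤ P)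
    (hP : P ≤ YY F j) : P ⊓ centralizer (o2 P : Set G) ≤ o2 P := by
  set E : Subgroup G := ⨆ l : {l // l ≠ j}, F l with hE
  have hE2 : IsPGroup 2 E := syl.2.1.to_le (iSup_le fun l => (hF l).trans (zc_le T))
  have hE1 : E ≠ ⊥ := by
    intro h1
    apply hne
    rw [eq_bot_iff, ← h1]
    exact le_iSup (fun l : {l // l ≠ j} => F l) ⟨l, hl⟩
  have h1 := NOne.LemmaT.char2_centralizer hG hE2 hE1
  rw [← YY_eq] at h1
  have h2 : o2 (YY F j) ≤ o2 P :=
    le_o2 (isPGroup_o2 _) ((o2_le_syl syl).trans hTP) (hP.trans (le_normalizer_o2 _))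
  rintro x ⟨hx, hxc⟩
  exact h2 (h1 ⟨hP hx, centralizer_le (by exact_mod_cast h2) hxc⟩)

section fr

variable {ι : Type v} {B Q V X ZJ : Subgroup G} {L W Z C A : ι → Subgroup G} {q : ℕ}

/-- the elements of `Y_j` normalising `V` normalise the `W i`. -/
theorem norm_W (h : FrL B Q V X ZJ L W Z C A q) {F : ι → Subgroup G} (hF1 : ∀ i, F i ≠ ⊥) (hFZ : ∀ i, F i ≤ Z i)
    (hV : ∀ g ∈ normalizer (V : Set G), ∀ i, ∃ k, cj g (W i) = W k) {j : ι} {P : Subgroup G} (hPY : P ≤ YY F j)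
    (hPV : P ≤ normalizer (V : Set G)) : ∀ i, P ≤ normalizer (W i : Set G) := by
  have hFW : ∀ i, F i ≤ W i := fun i => (hFZ i).trans (h.blk i).ZV
  have hdis : ∀ i k, i ≠ k → ¬ F i ≤ W k := by
    intro i k hik h1
    apply hF1 i
    rw [eq_bot_iff, ← h.dir i]
    exact le_inf (hFW i) (h1.trans (h.WjC i k hik))
  have key : ∀ x ∈ P, ∀ i, i ≠ j → cj x (W i) = W i := by
    intro x hx i hi
    obtain ⟨k, hk⟩ := hV x (hPV hx) i
    have h1 : cj x (F i) = F i :=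
      cj_eq_of_mem_normalizer (centralizer_le_normalizer _ (YY_le_cent hi (hPY hx)))
    have h2 : F i ≤ W k := by
      rw [← h1, ← hk]
      exact cj_mono x (hFW i)
    by_cases hik : i = k
    · rw [hk, hik]
    · exact absurd h2 (hdis i k hik)
  intro i x hx
  rw [mem_normalizer_iff_cj]
  by_cases hi : i = j
  · subst hi
    obtain ⟨k, hk⟩ := hV x (hPV hx) i
    by_cases hik : k = i
    · rw [hk, hik]
    · exfalso
      have h1 := key x hx k hik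
      have h2 : W i = W k := by
        have h3 := congrArg (cj x⁻¹) (hk.trans h1.symm)
        rwa [cj_inv_cj, cj_inv_cj] at h3
      exact hdis i k (Ne.symm hik) ((hFW i).trans h2.le)
  · exact key x hx i hi

end fr

variable [Finite G] {ι : Type} [Finite ι] {S : Sylow 2 G} {V Q : Subgroup G} {n : ℕ}
  {L W Z C A : ι → Subgroup G} {q : ℕ}

/-- **`P ≤ N_G(V)`**. -/
theorem norm_V (hG : IsCharacteristicTwoType G)
    (h : FrL (BL (S : Subgroup G) n) Q V (zc (lev (S : Subgroup G) n)) (ZL (S : Subgroup G) n) L W Z C A q)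
    (hq : 2 < q) (hn : ∀ i : ι, ∃ j, j ≠ i) {T : Subgroup G} (hB : BL (S : Subgroup G) n ≤ T)
    {F : ι → Subgroup G} (hF1 : ∀ i, F i ≠ ⊥) (hFZ : ∀ i, F i ≤ Z i) (hFT : ∀ i, F i ≤ zc T) {j : ι}
    (syl : Syl T (YY F j)) {P : Subgroup G} (hP : IsMinPar T P) (hPY : P ≤ YY F j)
    (hPF : ¬ P ≤ centralizer (F j : Set G)) : P ≤ normalizer (V : Set G) := by
  have hT2 := syl.2.1
  have hTP : T ≤ P := hP.le
  have hT : Syl T P := ⟨hTP, hT2, fun R hR h2 hTR => syl.2.2 R (hR.trans hPY) h2 hTR⟩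
  obtain ⟨l₀, hl₀⟩ := hn j
  have hc : P ⊓ centralizer (o2 P : Set G) ≤ o2 P := char2 hG hl₀ (hF1 l₀) hFT syl hTP hPY
  have hZ : ¬ P ≤ centralizer (zc T : Set G) := fun h1 =>
    hPF (h1.trans (centralizer_le (by exact_mod_cast hFT j)))
  have hTF : T ≤ centralizer (F j : Set G) := by
    intro t ht
    rw [mem_centralizer_iff]
    intro x hx
    exact ((mem_zc.1 (hFT j hx)).2.2 t ht).symm
  by_cases h1 : lev (S : Subgroup G) (n + 1) ≤ o2 P
  · -- `K ≤ O₂(P)`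
    have hPZ : P ≤ normalizer (ZL (S : Subgroup G) n : Set G) :=
      (le_normalizer_o2 P).trans ((lb S n).nrm _ (isPGroup_o2 P) h1)
    have hFJ : F j ≤ ZL (S : Subgroup G) n := (hFZ j).trans (h.Z_le j)
    have hPC : P ≤ normalizer (centralizer (ZL (S : Subgroup G) n : Set G) : Set G) := fun x hx =>
      Dich.norm_cent (hPZ hx)
    have hN : P ≤ normalizer ((P ⊓ centralizer (ZL (S : Subgroup G) n : Set G) : Subgroup G) : Set G) := by
      intro x hx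
      rw [mem_normalizer_iff_cj, cj_inf, cj_eq_of_mem_normalizer (le_normalizer hx),
        cj_eq_of_mem_normalizer (hPC hx)]
    rcases hP.sup_eq_or_inf_le (p := 2) hT2 (syl_not_dvd hT)
      (N := P ⊓ centralizer (ZL (S : Subgroup G) n : Set G)) inf_le_left hN with h2 | h2
    · exfalso
      apply hPF
      rw [← h2]
      exact sup_le (inf_le_right.trans (centralizer_le (by exact_mod_cast hFJ))) hTF
    · have h3 : o2 P ⊓ centralizer (ZL (S : Subgroup G) n : Set G) = BL (S : Subgroup G) n := by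
        apply le_antisymm
        · have h4 := (lb S n).inf_eq hT2 hB
          rw [← h4]
          exact inf_le_inf_right _ (o2_le_syl hT)
        · refine le_inf ?_ (lb S n).Bc
          have h4 : BL (S : Subgroup G) n ≤ T ⊓ (P ⊓ centralizer (ZL (S : Subgroup G) n : Set G)) :=
            le_inf hB (le_inf (hB.trans hTP) (lb S n).Bc)
          exact h4.trans h2
      intro x hx
      have h5 : x ∈ normalizer (BL (S : Subgroup G) n : Set G) := by
        rw [mem_normalizer_iff_cj, ← h3, cj_inf, cj_eq_of_mem_normalizer (le_normalizer_o2 P hx),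
          cj_eq_of_mem_normalizer (hPC hx)]
      rw [mem_normalizer_iff_cj]
      exact (SwapV.LowZ.norm h h5).1
  · -- a block of `P`
    obtain ⟨L', V', hLP, ⟨⟨Z', q', hFB⟩, hb⟩, hsup⟩ := SwapV.LowFour.blk_four h hq hT hB hP hc h1 hZ
    have hlow : lev (S : Subgroup G) n ≤ o2 P := SwapV.LowFour.low_four h hq hT hB hP hc hZ
    have hPX : P ≤ normalizer (zc (lev (S : Subgroup G) n) : Set G) :=
      (le_normalizer_o2 P).trans ((LevD.LB.lev S n).nrm _ (isPGroup_o2 P) hlow)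
    have hX : V' ≤ zc (lev (S : Subgroup G) n) := Lev.LowBlk.V_le S rfl h hFB hb.irr
    have hp : ∀ g ∈ normalizer (BL (S : Subgroup G) n : Set G), ∀ j, ∃ k, cj g (Z j) = Z k := by
      intro g hg j
      obtain ⟨k, hk, -⟩ := (SwapV.LowZ.norm h hg).2 j
      exact ⟨k, hk⟩
    obtain ⟨rfl, i, rfl, hN, hle, hC, -⟩ := Lev.UniPlus.uniPlusX h (lb S n).Bp (wc S n) hp hFB hX
    have hij : i = j := by
      by_contra hne
      apply hF1 i
      rw [eq_bot_iff, ← h.dir i]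
      refine le_inf ((hFZ i).trans (h.blk i).ZV) fun z hz => (hC z (h.Z_le i (hFZ i hz))).2 fun l hl => ?_
      exact (mem_centralizer_iff.1 (YY_le_cent hne (hPY (hLP hl))) z hz).symm
    subst hij
    have hZl : ∀ l, l ≠ i → ∀ r ∈ L', ∀ z ∈ Z l, r * z = z * r := fun l hl r hr z hz =>
      (hC z (h.Z_le l hz)).1 (h.WjC i l hl.symm ((h.blk l).ZV hz)) r hr
    have hVV : V' ≤ V := hle.trans (sup_le (h.WV i) h.ZJV)
    have hXB : zc (lev (S : Subgroup G) n) ≤ BL (S : Subgroup G) n :=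
      ((zc_le _).trans (NO3S.Level.lev_le_succ _ n)).trans (lb S n).KB
    have key : ∀ r ∈ L', ∀ k, ∀ w ∈ W k, r * w * r⁻¹ ∈ V := by
      intro r hr k w hw
      by_cases hk : k = i
      · subst hk
        have hcomm : ∀ v ∈ V', ∀ z ∈ zc (BL (S : Subgroup G) n), v * z = z * v := fun v hv z hz =>
          (mem_zc.1 hz).2.2 v (hN.VB hv)
        have h2 : w ∈ V' ⊔ zc (BL (S : Subgroup G) n) := by
          rw [← OM.UniPlus.sup_zc_eq (Lev.UniPlus.nb h k) hN (by rw [h.zcB]; exact hle)]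
          exact mem_sup_left hw
        obtain ⟨v, hv, z, hz, rfl⟩ := Cfsg.Agent.Omega.SQ1.Bau.mem_sup_comm hcomm h2
        have h3 := hFB.nV r hr v hv
        have h4 := hFB.act r hr z hz
        have h5 : z ∈ V := h.ZJV (by rw [← h.zcB]; exact hz)
        have e : r * (v * z) * r⁻¹ = (r * v * r⁻¹) * (r * z * r⁻¹ * z⁻¹) * z := by group
        rw [e]
        exact mul_mem (mul_mem (hVV h3) (hVV h4)) h5
      · have hwX : w ∈ zc (lev (S : Subgroup G) n) := h.VX (h.WV k hw)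
        refine FixXQ.fixX h hXB k ((mem_normalizer_iff.1 (hPX (hLP hr)) w).1 hwX) fun o ho => ?_
        have ho' : r⁻¹ * o * r⁻¹⁻¹ ∈ BL (S : Subgroup G) n :=
          hFB.cor r⁻¹ (inv_mem hr) o (h.QB ho) fun v hv => h.cQ ho (hVV hv)
        rw [inv_inv] at ho'
        have h2 := (h.blk k).com _ ho' w hw
        have h3 := hZl k hk r hr _ h2
        have e : o * (r * w * r⁻¹) * o⁻¹ * (r * w * r⁻¹)⁻¹ =
            r * (r⁻¹ * o * r * w * (r⁻¹ * o * r)⁻¹ * w⁻¹) * r⁻¹ := by group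
        rw [e, h3, mul_inv_cancel_right]
        exact h2
    have hLV : L' ≤ normalizer (V : Set G) := by
      intro r hr
      refine mem_normalizer_of_cj_le ?_
      conv_lhs => rw [h.V_eq]
      rw [cj, Subgroup.map_iSup]
      refine iSup_le fun k => ?_
      rintro _ ⟨w, hw, rfl⟩
      exact key r hr k w hw
    exact hsup.trans (sup_le hLV (SwapV.LowZ.two_norm h hT2 hB))

/-- **the field `par` of `TypT`**, `q > 2`, stage `n ≥ 0`. -/
theorem parT_lev (hG : IsCharacteristicTwoType G)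
    (h : FrL (BL (S : Subgroup G) n) Q V (zc (lev (S : Subgroup G) n)) (ZL (S : Subgroup G) n) L W Z C A q)
    (hq : 2 < q) (hn : ∀ i : ι, ∃ j, j ≠ i) {T : Subgroup G} (hB : BL (S : Subgroup G) n ≤ T)
    {F : ι → Subgroup G} (hF1 : ∀ i, F i ≠ ⊥) (hFZ : ∀ i, F i ≤ Z i) (hFT : ∀ i, F i ≤ zc T)
    (hV : ∀ g ∈ normalizer (V : Set G), ∀ i, ∃ k, cj g (W i) = W k) (syl : ∀ j, Syl T (YY F j)) :
    ∀ j P, IsMinPar T P → P ≤ YY F j → P ≤ centralizer (F j : Set G) ∨ ∀ i, P ≤ normalizer (W i : Set G) := by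
  intro j P hP hPY
  by_cases hPF : P ≤ centralizer (F j : Set G)
  · exact Or.inl hPF
  · exact Or.inr (norm_W h hF1 hFZ hV hPY (norm_V hG h hq hn hB hF1 hFZ hFT (syl j) hP hPY hPF))

end Cfsg.Agent.Omega.NOThreeL.RWide.ParLev

end

section


/-!
# `par` of `TypT` over `B = bau S` (stage `-1`), natural blocks over any fields, at least three blocks

Frame `Var.Bfr S Q V L W Z C A q m` (`q : ι → ℕ`), `T ≥ B` any 2-group, `1 ≠ F i ≤ Z i ∩ Ω₁(Z(T))`, `T` Sylow in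
`Y_j = C_G(F l : l ≠ j)`.

* `normB` : `K ≤ O₂(P)`: `P ≤ N_G(B)` (every level);
* `norm_V` : `P ≤ Y_j` minimal over `T`, `P` moves `F j` ⟹ `P ≤ N_G(V)`;
* `norm_W` : then `P` normalises all the `W i` (if `N_G(V)` permutes them);
* `parT_neg`, `NegQ.parT` : the field `par` of `TypT`.
-/

set_option autoImplicit false

namespace Cfsg.Agent.Omega.NOThreeL.RWide.ParNeg

open Subgroup Cfsg Cfsg.Agent.ZN.ChoiceBase Cfsg.Agent.ZN.ChoiceSit
open Cfsg.Agent.ZN (jj zj bau zc zl o2)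
open Cfsg.Agent.MinSimple.MinParabolic (IsMinPar)
open Cfsg.Agent.Omega.SQ1.Bau (mem_sup_comm elem_comm elem_sq)
open Cfsg.Agent.Omega.OM
open Cfsg.Agent.Omega.OM.LevD (LB)
open Cfsg.Agent.Omega.OM.Var (Bfr)

universe u v

variable {G : Type u} [Group G]

/-- `Y_j` is the centraliser of a group. -/
theorem YY_eq {ι : Type v} (F : ι → Subgroup G) (j : ι) :
    YY F j = centralizer ((⨆ l : {l // l ≠ j}, F l : Subgroup G) : Set G) := by
  apply le_antisymm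
  · rw [← le_centralizer_iff]
    refine iSup_le fun l => ?_
    rw [le_centralizer_iff]
    exact YY_le_cent l.2
  · refine centralizer_le ?_
    rintro x ⟨l, hl, hx⟩
    exact (le_iSup (fun l : {l // l ≠ j} => F l) ⟨l, hl⟩) hx

/-- `T ≤ P ≤ Y_j`, `T` Sylow in `Y_j`: `P` has characteristic 2. -/
theorem char2 [Finite G] (hG : IsCharacteristicTwoType G) {ι : Type v} {F : ι → Subgroup G} {T P : Subgroup G}
    {j l : ι} (hl : l ≠ j) (hne : F l ≠ ⊥) (hF : ∀ i, F i ≤ zc T) (syl : Syl T (YY F j)) (hTP : T ≤ P)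
    (hP : P ≤ YY F j) : P ⊓ centralizer (o2 P : Set G) ≤ o2 P := by
  set E : Subgroup G := ⨆ l : {l // l ≠ j}, F l with hE
  have hE2 : IsPGroup 2 E := syl.2.1.to_le (iSup_le fun l => (hF l).trans (zc_le T))
  have hE1 : E ≠ ⊥ := by
    intro h1
    apply hne
    rw [eq_bot_iff, ← h1]
    exact le_iSup (fun l : {l // l ≠ j} => F l) ⟨l, hl⟩
  have h1 := NOne.LemmaT.char2_centralizer hG hE2 hE1
  rw [← YY_eq] at h1
  have h2 : o2 (YY F j) ≤ o2 P :=
    le_o2 (isPGroup_o2 _) ((o2_le_syl syl).trans hTP) (hP.trans (le_normalizer_o2 _))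
  rintro x ⟨hx, hxc⟩
  exact h2 (h1 ⟨hP hx, centralizer_le (by exact_mod_cast h2) hxc⟩)

/-- `K ≤ O₂(P)`, `P` minimal over `T ≥ B` moves `F ≤ Z_J ∩ Ω₁(Z(T))`: `P ≤ N_G(B)` (every level). -/
theorem normB [Finite G] {S : Sylow 2 G} {K B ZJ : Subgroup G} (lb : LB S K B ZJ) {T P F : Subgroup G} (hT : Syl T P)
    (hB : B ≤ T) (hP : IsMinPar T P) (h1 : K ≤ o2 P) (hFJ : F ≤ ZJ) (hTF : T ≤ centralizer (F : Set G))
    (hPF : ¬ P ≤ centralizer (F : Set G)) : P ≤ normalizer (B : Set G) := by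
  have hT2 := hT.2.1
  have hPZ : P ≤ normalizer (ZJ : Set G) := (le_normalizer_o2 P).trans (lb.nrm _ (isPGroup_o2 P) h1)
  have hPC : P ≤ normalizer (centralizer (ZJ : Set G) : Set G) := fun x hx => Dich.norm_cent (hPZ hx)
  have hN : P ≤ normalizer ((P ⊓ centralizer (ZJ : Set G) : Subgroup G) : Set G) := by
    intro x hx
    rw [mem_normalizer_iff_cj, cj_inf, cj_eq_of_mem_normalizer (le_normalizer hx),
      cj_eq_of_mem_normalizer (hPC hx)]
  rcases hP.sup_eq_or_inf_le (p := 2) hT2 (syl_not_dvd hT) (N := P ⊓ centralizer (ZJ : Set G)) inf_le_left hN with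
    h2 | h2
  · exfalso
    apply hPF
    rw [← h2]
    exact sup_le (inf_le_right.trans (centralizer_le (by exact_mod_cast hFJ))) hTF
  · have h3 : o2 P ⊓ centralizer (ZJ : Set G) = B := by
      apply le_antisymm
      · have h4 := lb.inf_eq hT2 hB
        rw [← h4]
        exact inf_le_inf_right _ (o2_le_syl hT)
      · refine le_inf ?_ lb.Bc
        have h4 : B ≤ T ⊓ (P ⊓ centralizer (ZJ : Set G)) := le_inf hB (le_inf (hB.trans hT.1) lb.Bc)
        exact h4.trans h2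
    intro x hx
    rw [mem_normalizer_iff_cj, ← h3, cj_inf, cj_eq_of_mem_normalizer (le_normalizer_o2 P hx),
      cj_eq_of_mem_normalizer (hPC hx)]

section perm

variable {ι : Type v} {W C F : ι → Subgroup G}

/-- the elements of `Y_j` permuting the `W i` normalise the `W i`. -/
theorem norm_W (dir : ∀ i, W i ⊓ C i = ⊥) (WjC : ∀ i j, i ≠ j → W j ≤ C i) (hF1 : ∀ i, F i ≠ ⊥)
    (hFW : ∀ i, F i ≤ W i) {j : ι} {P : Subgroup G} (hPY : P ≤ YY F j)
    (hV : ∀ g ∈ P, ∀ i, ∃ k, cj g (W i) = W k) : ∀ i, P ≤ normalizer (W i : Set G) := by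
  have hdis : ∀ i k, i ≠ k → ¬ F i ≤ W k := by
    intro i k hik h1
    apply hF1 i
    rw [eq_bot_iff, ← dir i]
    exact le_inf (hFW i) (h1.trans (WjC i k hik))
  have key : ∀ x ∈ P, ∀ i, i ≠ j → cj x (W i) = W i := by
    intro x hx i hi
    obtain ⟨k, hk⟩ := hV x hx i
    have h1 : cj x (F i) = F i :=
      cj_eq_of_mem_normalizer (centralizer_le_normalizer _ (YY_le_cent hi (hPY hx)))
    have h2 : F i ≤ W k := by
      rw [← h1, ← hk]
      exact cj_mono x (hFW i)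
    by_cases hik : i = k
    · rw [hk, hik]
    · exact absurd h2 (hdis i k hik)
  intro i x hx
  rw [mem_normalizer_iff_cj]
  by_cases hi : i = j
  · subst hi
    obtain ⟨k, hk⟩ := hV x hx i
    by_cases hik : k = i
    · rw [hk, hik]
    · exfalso
      have h1 := key x hx k hik
      have h2 : W i = W k := by
        have h3 := congrArg (cj x⁻¹) (hk.trans h1.symm)
        rwa [cj_inv_cj, cj_inv_cj] at h3
      exact hdis i k (Ne.symm hik) ((hFW i).trans h2.le)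
  · exact key x hx i hi

end perm

variable [Finite G] {ι : Type v} [Finite ι] {S : Sylow 2 G} {V Q : Subgroup G} {L W Z C A : ι → Subgroup G}
  {q : ι → ℕ} {m : ℕ}

/-- **`P ≤ N_G(V)`**, stage `-1`, any fields. -/
theorem norm_V (h : Bfr S Q V L W Z C A q m) (three : ∀ i j : ι, ∃ l, l ≠ i ∧ l ≠ j) {T : Subgroup G}
    (hB : bau (S : Subgroup G) ≤ T) {F : ι → Subgroup G} (hF1 : ∀ i, F i ≠ ⊥) (hFZ : ∀ i, F i ≤ Z i)
    (hFT : ∀ i, F i ≤ zc T) {j : ι} (syl : Syl T (YY F j)) {P : Subgroup G} (hP : IsMinPar T P) (hPY : P ≤ YY F j)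
    (hPF : ¬ P ≤ centralizer (F j : Set G)) : P ≤ normalizer (V : Set G) := by
  have hT2 := syl.2.1
  have hTP : T ≤ P := hP.le
  have hT : Syl T P := ⟨hTP, hT2, fun R hR h2 hTR => syl.2.2 R (hR.trans hPY) h2 hTR⟩
  obtain ⟨l₀, hl₀, -⟩ := three j j
  have hc : P ⊓ centralizer (o2 P : Set G) ≤ o2 P := char2 h.char2 hl₀ (hF1 l₀) hFT syl hTP hPY
  have hZ : ¬ P ≤ centralizer (zc T : Set G) := fun h1 =>
    hPF (h1.trans (centralizer_le (by exact_mod_cast hFT j)))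
  have hTF : T ≤ centralizer (F j : Set G) := by
    intro t ht
    rw [mem_centralizer_iff]
    intro x hx
    exact ((mem_zc.1 (hFT j hx)).2.2 t ht).symm
  have hNB : ∀ g ∈ normalizer (bau (S : Subgroup G) : Set G), cj g V = V := fun g hg =>
    (h.fr.norm_of hg (h.com g hg)).1
  by_cases hJ : jj (S : Subgroup G) ≤ o2 P
  · intro x hx
    rw [mem_normalizer_iff_cj]
    exact hNB x (normB (LB.neg S) hT hB hP hJ ((hFZ j).trans (h.fr.Z_le j)) hTF hPF hx)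
  -- a block of `P`
  rw [← LemmaK.Main.jj_eq S hT2 hB] at hJ
  obtain ⟨L', V', hF, hLP, hsup⟩ := Var.exists_blk FF.Glob.ffthm S hT hB hP hc hJ hZ
  obtain ⟨Z', q', hFB⟩ := hF.fb
  obtain ⟨i, -, -, hN, hle, hLY, -⟩ := h.blk hFB
  have hij : i = j := by
    by_contra hne
    obtain ⟨z, hz, hz1⟩ : ∃ z ∈ F i, z ≠ 1 := by
      by_contra hcon
      push Not at hcon
      exact hF1 i ((eq_bot_iff_forall _).2 hcon)
    exact hz1 (hN.cent (hFZ i hz) fun l hl => (mem_centralizer_iff.1 (YY_le_cent hne (hPY (hLP hl))) z hz).symm)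
  subst hij
  have hZl : ∀ l, l ≠ i → ∀ r ∈ L', ∀ z ∈ Z l, r * z = z * r := fun l hl r hr z hz => h.YZ hl (hLY hr) hz
  have hVV : V' ≤ V := hle.trans (sup_le (h.fr.WV i) h.fr.ZJV)
  have hVB : V ≤ bau (S : Subgroup G) := h.fr.VQ.trans h.fr.QB
  have hsp : ∀ w ∈ W i, ∃ v ∈ V', ∃ z ∈ zc (bau (S : Subgroup G)), w = v * z := by
    intro w hw
    have hcomm : ∀ v ∈ V', ∀ z ∈ zc (bau (S : Subgroup G)), v * z = z * v := fun v hv z hz =>
      (mem_zc.1 hz).2.2 v (hN.VB hv)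
    have h2 : w ∈ V' ⊔ zc (bau (S : Subgroup G)) := by
      rw [← OM.UniPlus.sup_zc_eq (Var.nb h.fr i) hN (by rw [h.fr.zcB]; exact hle)]
      exact mem_sup_left hw
    exact mem_sup_comm hcomm h2
  have key : ∀ r ∈ L', ∀ k, ∀ w ∈ W k, r * w * r⁻¹ ∈ V := by
    intro r hr k w hw
    by_cases hk : k = i
    · subst hk
      obtain ⟨v, hv, z, hz, rfl⟩ := hsp w hw
      have h3 := hFB.nV r hr v hv
      have h4 := hFB.act r hr z hz
      have h5 : z ∈ V := h.fr.ZJV (by rw [← h.fr.zcB]; exact hz)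
      have e : r * (v * z) * r⁻¹ = (r * v * r⁻¹) * (r * z * r⁻¹ * z⁻¹) * z := by group
      rw [e]
      exact mul_mem (mul_mem (hVV h3) (hVV h4)) h5
    · have hwV := h.fr.WV k hw
      have hB1 : r * w * r⁻¹ ∈ bau (S : Subgroup G) :=
        hFB.cor r hr w (hVB hwV) fun v hv => h.fr.Vc hwV (hVV hv)
      have hQB : ∀ x ∈ bau (S : Subgroup G), (∀ v ∈ V', x * v = v * x) → r⁻¹ * x * r ∈ bau (S : Subgroup G) := by
        intro x hx hxc
        have h1 := hFB.cor r⁻¹ (inv_mem hr) x hx hxc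
        rwa [inv_inv] at h1
      have hxQ : r * w * r⁻¹ ∈ Q := by
        refine (h.fr.mem_Q _ hB1).2 fun v hv => ?_
        have h1 : (⨆ k, W k) ≤ centralizer ({r * w * r⁻¹} : Set G) := by
          refine iSup_le fun l v hv => mem_centralizer_singleton_iff.2 ?_
          by_cases hli : l = i
          · subst hli
            obtain ⟨v', hv', z, hz, rfl⟩ := hsp v hv
            have c1 : Commute (r * w * r⁻¹) v' := by
              have h2 := hFB.nV' hr hv'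
              have h3 : w * (r⁻¹ * v' * r) = r⁻¹ * v' * r * w := h.fr.Vc hwV (hVV h2)
              show r * w * r⁻¹ * v' = v' * (r * w * r⁻¹)
              calc r * w * r⁻¹ * v' = r * (w * (r⁻¹ * v' * r)) * r⁻¹ := by group
                _ = r * (r⁻¹ * v' * r * w) * r⁻¹ := by rw [h3]
                _ = v' * (r * w * r⁻¹) := by group
            have c2 : Commute (r * w * r⁻¹) z := (mem_zc.1 hz).2.2 _ hB1
            exact (c1.mul_right c2).symm.eq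
          by_cases hlk : l = k
          · subst hlk
            obtain ⟨k', hk1, hk2⟩ := three i l
            exact (h.com_three hk1 hk2 (hLY hr) hw hv).symm
          · have hvV := h.fr.WV l hv
            have h2 := (h.fr.blk l).com _ hB1 v hv
            have h3 := (h.fr.blk k).com _ (hQB v (hVB hvV) fun y hy => h.fr.Vc hvV (hVV hy)) w hw
            have h4 := hZl k hk r hr _ h3
            have e : v * (r * w * r⁻¹) * v⁻¹ * (r * w * r⁻¹)⁻¹ =
                r * (r⁻¹ * v * r * w * (r⁻¹ * v * r)⁻¹ * w⁻¹) * r⁻¹ := by group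
            have h5 : v * (r * w * r⁻¹) * v⁻¹ * (r * w * r⁻¹)⁻¹ ∈ Z k := by
              rw [e, h4, mul_inv_cancel_right]
              exact h3
            have h6 : v * (r * w * r⁻¹) * v⁻¹ * (r * w * r⁻¹)⁻¹ ∈ Z l := by
              have e2 : v * (r * w * r⁻¹) * v⁻¹ * (r * w * r⁻¹)⁻¹ =
                  (r * w * r⁻¹ * v * (r * w * r⁻¹)⁻¹ * v⁻¹)⁻¹ := by group
              rw [e2]
              exact inv_mem h2
            have h7 := h.fr.Z_inf_C h6 (h.fr.Z_le_C (Ne.symm hlk) h5)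
            exact mul_inv_eq_iff_eq_mul.1 (mul_inv_eq_one.1 h7)
        rw [h.fr.V_eq] at hv
        exact (mem_centralizer_singleton_iff.1 (h1 hv)).symm
      refine Var.fix_Z h.fr (i := k) hxQ ?_ fun y hy => ?_
      · have h1 := elem_sq h.fr.el w hwV
        have e1 : (r * w * r⁻¹) ^ 2 = r * w ^ 2 * r⁻¹ := by rw [pow_two, pow_two]; group
        rw [e1, h1]; group
      · have h3 := (h.fr.blk k).com _ (hQB y (h.fr.QB hy) fun v hv => h.fr.cQ hy (hVV hv)) w hw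
        have h4 := hZl k hk r hr _ h3
        have e : y * (r * w * r⁻¹) * y⁻¹ * (r * w * r⁻¹)⁻¹ =
            r * (r⁻¹ * y * r * w * (r⁻¹ * y * r)⁻¹ * w⁻¹) * r⁻¹ := by group
        have h5 : y * (r * w * r⁻¹) * y⁻¹ * (r * w * r⁻¹)⁻¹ ∈ Z k := by
          rw [e, h4, mul_inv_cancel_right]
          exact h3
        have e2 : r * w * r⁻¹ * y * (r * w * r⁻¹)⁻¹ * y⁻¹ = (y * (r * w * r⁻¹) * y⁻¹ * (r * w * r⁻¹)⁻¹)⁻¹ := by
          group
        rw [e2]
        exact inv_mem h5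
  have hLV : L' ≤ normalizer (V : Set G) := by
    intro r hr
    refine mem_normalizer_of_cj_le ?_
    conv_lhs => rw [h.fr.V_eq]
    rw [cj, Subgroup.map_iSup]
    refine iSup_le fun k => ?_
    rintro _ ⟨w, hw, rfl⟩
    exact key r hr k w hw
  refine hsup.trans (sup_le hLV fun t ht => ?_)
  rw [mem_normalizer_iff_cj]
  exact hNB t (Dich.two_le S hT2 hB ht)

/-- **the field `par` of `TypT`**, stage `-1`, any fields, at least three blocks. -/
theorem parT_neg (h : Bfr S Q V L W Z C A q m) (three : ∀ i j : ι, ∃ l, l ≠ i ∧ l ≠ j) {T : Subgroup G}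
    (hB : bau (S : Subgroup G) ≤ T) {F : ι → Subgroup G} (hF1 : ∀ i, F i ≠ ⊥) (hFZ : ∀ i, F i ≤ Z i)
    (hFT : ∀ i, F i ≤ zc T) (hV : ∀ g ∈ normalizer (V : Set G), ∀ i, ∃ k, cj g (W i) = W k)
    (syl : ∀ j, Syl T (YY F j)) :
    ∀ j P, IsMinPar T P → P ≤ YY F j → P ≤ centralizer (F j : Set G) ∨ ∀ i, P ≤ normalizer (W i : Set G) := by
  intro j P hP hPY
  by_cases hPF : P ≤ centralizer (F j : Set G)
  · exact Or.inl hPF
  · have h1 := norm_V h three hB hF1 hFZ hFT (syl j) hP hPY hPF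
    exact Or.inr (norm_W h.fr.dir h.fr.WjC hF1 (fun i => (hFZ i).trans (h.fr.blk i).ZV) hPY fun g hg =>
      hV g (h1 hg))

/-- **the field `par` of `TypT`** over `NegQ`, `q ≥ 4`. -/
theorem parT_negQ {ι : Type} [Finite ι] [Nonempty ι] {L W Z C A : ι → Subgroup G} {q : ℕ}
    (h : SwapV.Q.NegQ S V Q L W Z C A q) (hq : 4 ≤ q) (three : ∀ i j : ι, ∃ l, l ≠ i ∧ l ≠ j) {T : Subgroup G}
    (hB : bau (S : Subgroup G) ≤ T) {F : ι → Subgroup G} (hF1 : ∀ i, F i ≠ ⊥) (hFZ : ∀ i, F i ≤ Z i)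
    (hFT : ∀ i, F i ≤ zc T) (hV : ∀ g ∈ normalizer (V : Set G), ∀ i, ∃ k, cj g (W i) = W k)
    (syl : ∀ j, Syl T (YY F j)) :
    ∀ j P, IsMinPar T P → P ≤ YY F j → P ≤ centralizer (F j : Set G) ∨ ∀ i, P ≤ normalizer (W i : Set G) :=
  parT_neg (h.bfr hq fun i => (three i i).imp fun _ h => h.1) three hB hF1 hFZ hFT hV syl

end Cfsg.Agent.Omega.NOThreeL.RWide.ParNeg

end

section


/-!
# LEMMA ZJ+(q), step (2) (helper371 #26038 (f1)-(f3), over helper285 #25856; general `q`)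

`E` elementary abelian (`E = Ω₁Z(J(Q_b))`), `A` of maximal order in `O`, `E ≤ N C_E(A)`, `Le ≤ N` (a line `≠` the
fixed line `R`), `[A, Le] ≤ R`, `C_A(e) = C_A(Le) ≤ Q` for all `1 ≠ e ∈ Le`, `R` centralised by `A` and `Q`, `X`
centralised by `A`, `R ∩ Le X = 1`, `|R| ≤ |Le|`, some `t ∈ A` which moves `Le` normalises `Q`. If `y ∈ E` and
`[Q, y] ≤ Le X` then `[Q, y] ≤ X`.

* **`step2Q`**.
-/

set_option autoImplicit false
set_option linter.unusedVariables false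

namespace Cfsg.Agent.Omega.NOThreeL.RWide.ZJQ

open Subgroup
open Cfsg.Agent.Omega.KL.TwoS (Mx comm_of_sq sq_sup)
open Cfsg.Agent.Omega.NoFF.ThmJFam (card_sup_inf)
open Cfsg.Agent.Omega.NoFF.Basic (comm_symm)
open Cfsg.Agent.Omega.OM.KTwo (exists_mul_of_mem_sup)
open Cfsg.Agent.Omega.EDel.LamZJ (cnt)

universe u

variable {G : Type u} [Group G] [Finite G]

omit [Finite G] in
/-- `|A| = |A / A₀| |A₀|` -/
theorem card_quot {A A0 : Subgroup G} (h : A0 ≤ A) :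
    Nat.card A = Nat.card (A ⧸ A0.subgroupOf A) * Nat.card A0 := by
  have h1 := Subgroup.card_eq_card_quotient_mul_card_subgroup (A0.subgroupOf A)
  rwa [Nat.card_congr (Subgroup.subgroupOfEquivOfLe h).toEquiv] at h1

/-- `|A / A₀| ≤ |S|` from a map to `S` which separates the cosets -/
theorem card_quot_le {A A0 S : Subgroup G} (f : G → G) (hf : ∀ a ∈ A, f a ∈ S)
    (hi : ∀ a ∈ A, ∀ b ∈ A, f a = f b → a⁻¹ * b ∈ A0) : Nat.card (A ⧸ A0.subgroupOf A) ≤ Nat.card S := by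
  classical
  refine Nat.card_le_card_of_injective
    (fun τ : A ⧸ A0.subgroupOf A => (⟨f (τ.out : A), hf _ (τ.out : A).2⟩ : S)) ?_
  intro τ σ h
  have h1 : f (τ.out : A) = f (σ.out : A) := congrArg Subtype.val h
  have h2 := hi _ (τ.out : A).2 _ (σ.out : A).2 h1
  have h3 : ((τ.out : A) : A ⧸ A0.subgroupOf A) = ((σ.out : A) : A ⧸ A0.subgroupOf A) := by
    rw [QuotientGroup.eq, mem_subgroupOf]
    exact h2
  rwa [QuotientGroup.out_eq', QuotientGroup.out_eq'] at h3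

/-- the cosets `f t M` (`t` mod `A₀`) are different: `|A / A₀| |M| ≤ |L|`, and they cover `L` in case of equality -/
theorem card_cosets {A A0 L M : Subgroup G} (f : G → G) (hf : ∀ a ∈ A, f a ∈ L) (ML : M ≤ L)
    (hi : ∀ a ∈ A, ∀ b ∈ A, ∀ m ∈ M, f a = f b * m → a⁻¹ * b ∈ A0) :
    Nat.card (A ⧸ A0.subgroupOf A) * Nat.card M ≤ Nat.card L ∧
      (Nat.card L ≤ Nat.card (A ⧸ A0.subgroupOf A) * Nat.card M → ∀ y ∈ L, ∃ a ∈ A, ∃ m ∈ M, y = f a * m) := by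
  classical
  let φ : (A ⧸ A0.subgroupOf A) × M → L :=
    fun p => ⟨f (p.1.out : A) * p.2, mul_mem (hf _ (p.1.out : A).2) (ML p.2.2)⟩
  have hφ : Function.Injective φ := by
    rintro ⟨τ, m⟩ ⟨σ, n⟩ h
    have h1 : f (τ.out : A) * m = f (σ.out : A) * n := congrArg Subtype.val h
    have h2 := hi _ (τ.out : A).2 _ (σ.out : A).2 (n * (m : G)⁻¹) (mul_mem n.2 (inv_mem m.2)) (by
      rw [← mul_assoc, ← h1, mul_inv_cancel_right])
    have h3 : ((τ.out : A) : A ⧸ A0.subgroupOf A) = ((σ.out : A) : A ⧸ A0.subgroupOf A) := by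
      rw [QuotientGroup.eq, mem_subgroupOf]
      exact h2
    rw [QuotientGroup.out_eq', QuotientGroup.out_eq'] at h3
    subst h3
    have h4 : (m : G) = n := mul_left_cancel h1
    rw [Subtype.ext h4]
  have h1 := Nat.card_le_card_of_injective φ hφ
  rw [Nat.card_prod] at h1
  refine ⟨h1, fun h2 y hy => ?_⟩
  have h3 : Function.Bijective φ := by
    have : Fintype ((A ⧸ A0.subgroupOf A) × M) := Fintype.ofFinite _
    have : Fintype L := Fintype.ofFinite _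
    rw [Fintype.bijective_iff_injective_and_card]
    refine ⟨hφ, ?_⟩
    rw [← Nat.card_eq_fintype_card, ← Nat.card_eq_fintype_card, Nat.card_prod]
    exact le_antisymm h1 h2
  obtain ⟨⟨τ, m⟩, h4⟩ := h3.2 ⟨y, hy⟩
  exact ⟨(τ.out : A), (τ.out : A).2, m, m.2, (congrArg Subtype.val h4).symm⟩

/-- **Step (2) of LEMMA ZJ+(q).** -/
theorem step2Q {O E N X Q A Le R : Subgroup G} {t y : G} (hA : Mx O A) (EO : E ≤ O) (Esq : ∀ x ∈ E, x ^ 2 = 1)
    (NE : N ≤ E) (EN : E ≤ N ⊔ (E ⊓ centralizer (A : Set G))) (AE : A ≤ normalizer (E : Set G)) (LN : Le ≤ N)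
    (RE : R ≤ E) (XE : X ≤ E) (RA : ∀ r ∈ R, ∀ a ∈ A, a * r = r * a) (RQ : ∀ r ∈ R, ∀ g ∈ Q, g * r = r * g)
    (XA : ∀ x ∈ X, ∀ a ∈ A, a * x = x * a) (LR : ∀ a ∈ A, ∀ e ∈ Le, a * e * a⁻¹ * e⁻¹ ∈ R)
    (dis : ∀ x ∈ R, x ∈ Le ⊔ X → x = 1)
    (reg : ∀ a ∈ A, ∀ e ∈ Le, e ≠ 1 → a * e = e * a → ∀ e' ∈ Le, a * e' = e' * a)
    (cR : Nat.card R ≤ Nat.card Le) (ht : t ∈ A) (htL : ∃ e ∈ Le, t * e ≠ e * t)
    (AQ : ∀ a ∈ A, (∀ e ∈ Le, a * e = e * a) → a ∈ Q) (tQ : t ∈ normalizer (Q : Set G))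
    (k3 : ∀ A' : Subgroup G, Mx O A' → ∀ w ∈ N, (∀ a ∈ A', a * w * a⁻¹ * w⁻¹ ∈ X) → ∀ a ∈ A', a * w = w * a)
    (hy : y ∈ E) (hyQ : ∀ g ∈ Q, g * y * g⁻¹ * y⁻¹ ∈ Le ⊔ X) :
    ∀ g ∈ Q, g * y * g⁻¹ * y⁻¹ ∈ X := by
  have hEc : ∀ a ∈ E, ∀ b ∈ E, a * b = b * a := fun a ha b hb =>
    (mem_centralizer_iff.1 (comm_of_sq Esq ha) b hb).symm
  have hAc : ∀ a ∈ A, ∀ b ∈ A, a * b = b * a := fun a ha b hb => (mem_centralizer_iff.1 (hA.comm ha) b hb).symm
  have LE : Le ≤ E := LN.trans NE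
  have conjE : ∀ a ∈ A, ∀ x ∈ E, a * x * a⁻¹ ∈ E := fun a ha x hx => (mem_normalizer_iff.1 (AE ha) x).1 hx
  have XAc : ∀ a ∈ A, ∀ x ∈ X, a * x * a⁻¹ = x := fun a ha x hx => by rw [XA x hx a ha, mul_inv_cancel_right]
  -- elements of `Le X`
  have hLX : ∀ x ∈ Le ⊔ X, ∃ e ∈ Le, ∃ c ∈ X, x = e * c := fun x hx =>
    exists_mul_of_mem_sup (((XE.trans (comm_of_sq Esq)).trans (centralizer_le LE)).trans (centralizer_le_normalizer _)) hx
  -- `[t, e x] = [t, e]`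
  have hLXc : ∀ a ∈ A, ∀ e ∈ Le, ∀ c ∈ X, a * (e * c) * a⁻¹ * (e * c)⁻¹ = a * e * a⁻¹ * e⁻¹ := by
    intro a ha e he c hc
    calc a * (e * c) * a⁻¹ * (e * c)⁻¹ = (a * e * a⁻¹) * (a * c * a⁻¹) * c⁻¹ * e⁻¹ := by group
      _ = a * e * a⁻¹ * e⁻¹ := by rw [XAc a ha c hc, mul_inv_cancel_right]
  -- `A₀ = C_A(Le)`
  set A0 : Subgroup G := A ⊓ centralizer (Le : Set G) with hA0
  have mem0 : ∀ {a : G}, a ∈ A0 ↔ a ∈ A ∧ ∀ e ∈ Le, a * e = e * a := by
    intro a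
    rw [hA0, mem_inf, mem_centralizer_iff]
    exact and_congr_right fun _ => ⟨fun h e he => (h e he).symm, fun h e he => (h e he).symm⟩
  have A0A : A0 ≤ A := inf_le_left
  obtain ⟨e0, he0, hte0⟩ := htL
  have e0ne : e0 ≠ 1 := by
    rintro rfl
    exact hte0 (by rw [mul_one, one_mul])
  have htA0 : t ∉ A0 := fun h => hte0 ((mem0.1 h).2 e0 he0)
  -- `a e a⁻¹ = b e b⁻¹` ⟹ `a⁻¹ b ∈ A₀`
  have sep : ∀ e ∈ Le, e ≠ 1 → ∀ a ∈ A, ∀ b ∈ A, a * e * a⁻¹ = b * e * b⁻¹ → a⁻¹ * b ∈ A0 := by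
    intro e he hne a ha b hb hab
    have hm := mul_mem (inv_mem ha) hb
    refine mem0.2 ⟨hm, reg _ hm e he hne ?_⟩
    calc a⁻¹ * b * e = a⁻¹ * (b * e * b⁻¹) * b := by group
      _ = a⁻¹ * (a * e * a⁻¹) * b := by rw [hab]
      _ = e * (a⁻¹ * b) := by group
  have cAR : Nat.card (A ⧸ A0.subgroupOf A) ≤ Nat.card R := by
    refine card_quot_le (fun a => a * e0 * a⁻¹ * e0⁻¹) (fun a ha => LR a ha e0 he0) fun a ha b hb hab => ?_
    exact sep e0 he0 e0ne a ha b hb (mul_right_cancel hab)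
  have cA := card_quot A0A
  -- the group `H = C_E(A)` and the decomposition `y = w c`
  set H : Subgroup G := E ⊓ centralizer (A : Set G) with hH
  have memH : ∀ {x : G}, x ∈ H ↔ x ∈ E ∧ ∀ a ∈ A, a * x = x * a := by
    intro x
    rw [hH, mem_inf, mem_centralizer_iff]
    exact Iff.rfl
  -- `Le ∩ H = 1`
  have LH : Le ⊓ H = ⊥ := by
    rw [eq_bot_iff]
    intro x hx
    rw [mem_bot]
    by_contra hne
    exact hte0 (reg t ht x hx.1 hne ((memH.1 hx.2).2 t ht) e0 he0)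
  have LHc : Le ≤ centralizer (H : Set G) := (LE.trans (comm_of_sq Esq)).trans (centralizer_le inf_le_left)
  have cLH : Nat.card Le * Nat.card H = Nat.card (Le ⊔ H : Subgroup G) := by
    have h1 := card_sup_inf (A := Le) (B := H) LHc
    rw [LH, card_bot, mul_one] at h1
    exact h1.symm
  obtain ⟨w, hw, c, hc, rfl⟩ := exists_mul_of_mem_sup (F := N) (N := H)
    (((inf_le_left.trans (comm_of_sq Esq)).trans (centralizer_le NE)).trans (centralizer_le_normalizer _)) (EN hy)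
  have hwE : w ∈ E := NE hw
  have hcE : c ∈ E := (memH.1 hc).1
  have hcA := (memH.1 hc).2
  -- `k3` for `F C_E(F)`
  have use : ∀ F : Subgroup G, F ≤ A → (∀ f ∈ F, f * (w * c) * f⁻¹ * (w * c)⁻¹ ∈ X) →
      Mx O (F ⊔ E ⊓ centralizer (F : Set G)) → w * c ∈ E ⊓ centralizer (F : Set G) := by
    intro F FA hF hMx
    refine mem_inf.2 ⟨hy, ?_⟩
    have h1 : ∀ a ∈ F ⊔ E ⊓ centralizer (F : Set G), a * w * a⁻¹ * w⁻¹ ∈ X := by
      intro a ha
      obtain ⟨f, hf, d, hd, rfl⟩ := exists_mul_of_mem_sup (F := F) (N := E ⊓ centralizer (F : Set G))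
        (inf_le_right.trans (centralizer_le_normalizer _)) ha
      have e1 : f * d * w * (f * d)⁻¹ * w⁻¹ = f * (w * c) * f⁻¹ * (w * c)⁻¹ := by
        have e2 : d * w * d⁻¹ = w := by rw [hEc d hd.1 w hwE, mul_inv_cancel_right]
        have e3 : f * c * f⁻¹ = c := by rw [hcA f (FA hf), mul_inv_cancel_right]
        calc f * d * w * (f * d)⁻¹ * w⁻¹ = f * (d * w * d⁻¹) * f⁻¹ * w⁻¹ := by group
          _ = f * w * f⁻¹ * w⁻¹ := by rw [e2]
          _ = f * w * f⁻¹ * (c * c⁻¹) * w⁻¹ := by group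
          _ = f * w * f⁻¹ * ((f * c * f⁻¹) * c⁻¹) * w⁻¹ := by rw [e3]
          _ = f * (w * c) * f⁻¹ * (w * c)⁻¹ := by group
      rw [e1]
      exact hF f hf
    have h2 := k3 _ hMx w hw h1
    rw [mem_centralizer_iff]
    intro f hf
    have h3 := h2 f (mem_sup_left hf)
    calc f * (w * c) = f * w * c := by group
      _ = w * (f * c) := by rw [h3]; group
      _ = w * c * f := by rw [hcA f (FA hf)]; group
  set y : G := w * c with hydef
  have kE : ∀ a ∈ A, a * y * a⁻¹ * y⁻¹ ∈ E := fun a ha => mul_mem (conjE a ha y hy) (inv_mem hy)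
  have pH : 0 < Nat.card H := Nat.card_pos
  have p0 : 0 < Nat.card A0 := Nat.card_pos
  by_cases hb : ∀ x ∈ A0, x * y * x⁻¹ * y⁻¹ ∈ X
  · -- β = 1
    have cF := cnt (E := E) hA A0A
    rw [← hH] at cF
    set L : Subgroup G := E ⊓ centralizer (A0 : Set G) with hL
    have HL : H ≤ L := le_inf inf_le_left (inf_le_right.trans (centralizer_le inf_le_left))
    have LeL : Le ≤ L := fun e he => ⟨LE he, mem_centralizer_iff.2 fun a ha => (mem0.1 ha).2 e he⟩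
    have hsupL : Le ⊔ H ≤ L := sup_le LeL HL
    have cL := Subgroup.card_le_of_le hsupL
    rw [← cLH] at cL
    have hle : A0 ⊔ L ≤ O := sup_le (inf_le_left.trans hA.le) (inf_le_left.trans EO)
    have hsq : ∀ a ∈ A0 ⊔ L, a ^ 2 = 1 :=
      sq_sup (fun a ha => hA.sq a ha.1) (fun a ha => Esq a ha.1) (comm_symm inf_le_right)
    have hmax := hA.max _ hle hsq
    have cAq : Nat.card A ≤ Nat.card Le * Nat.card A0 := by
      rw [cA]
      exact Nat.mul_le_mul_right _ (cAR.trans cR)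
    have hMx : Mx O (A0 ⊔ L) := by
      refine hA.of_card hle hsq ?_
      apply Nat.le_of_mul_le_mul_right _ pH
      calc Nat.card A * Nat.card H ≤ Nat.card Le * Nat.card A0 * Nat.card H := Nat.mul_le_mul_right _ cAq
        _ = Nat.card A0 * (Nat.card Le * Nat.card H) := by ring
        _ ≤ Nat.card A0 * Nat.card L := Nat.mul_le_mul_left _ cL
        _ ≤ _ := cF
    have hLcard : Nat.card L ≤ Nat.card Le * Nat.card H := by
      apply Nat.le_of_mul_le_mul_left _ p0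
      calc Nat.card A0 * Nat.card L ≤ Nat.card (A0 ⊔ L : Subgroup G) * Nat.card H := cF
        _ ≤ Nat.card A * Nat.card H := Nat.mul_le_mul_right _ hmax
        _ ≤ Nat.card Le * Nat.card A0 * Nat.card H := Nat.mul_le_mul_right _ cAq
        _ = _ := by ring
    have hLeq : Le ⊔ H = L := Subgroup.eq_of_le_of_card_ge hsupL (by rw [← cLH]; exact hLcard)
    have hyL : y ∈ L := use A0 A0A hb hMx
    rw [← hLeq] at hyL
    obtain ⟨e1, he1, d, hd, hyd⟩ := exists_mul_of_mem_sup (F := Le) (N := H)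
      ((comm_symm LHc).trans (centralizer_le_normalizer _)) hyL
    -- `t y t⁻¹ = r y`
    have hr := LR t ht e1 he1
    set r : G := t * e1 * t⁻¹ * e1⁻¹ with hrdef
    have hty : t * y * t⁻¹ = r * y := by
      have h1 : t * d * t⁻¹ = d := by rw [(memH.1 hd).2 t ht, mul_inv_cancel_right]
      calc t * y * t⁻¹ = (t * e1 * t⁻¹) * (t * d * t⁻¹) := by rw [hyd]; group
        _ = t * e1 * t⁻¹ * e1⁻¹ * (e1 * d) := by rw [h1]; group
        _ = r * y := by rw [← hyd]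
    have htg : ∀ g ∈ Q, g * (t * y * t⁻¹) * g⁻¹ * (t * y * t⁻¹)⁻¹ = g * y * g⁻¹ * y⁻¹ := by
      intro g hg
      have h1 : g * r * g⁻¹ = r := by rw [RQ r hr g hg, mul_inv_cancel_right]
      have h2 : g * y * g⁻¹ * y⁻¹ ∈ E := (sup_le LE XE) (hyQ g hg)
      have h3 := hEc r (RE hr) _ h2
      rw [hty]
      calc g * (r * y) * g⁻¹ * (r * y)⁻¹ = (g * r * g⁻¹) * (g * y * g⁻¹ * y⁻¹) * r⁻¹ := by group
        _ = g * y * g⁻¹ * y⁻¹ := by rw [h1, h3, mul_inv_cancel_right]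
    intro g hg
    have hg' : t⁻¹ * g * t ∈ Q := by
      have h2 := (mem_normalizer_iff.1 (inv_mem tQ) g).1 hg
      rwa [inv_inv] at h2
    obtain ⟨e2, he2, x2, hx2, h2⟩ := hLX _ (hyQ _ hg')
    have e1' : t * (t⁻¹ * g * t * y * (t⁻¹ * g * t)⁻¹ * y⁻¹) * t⁻¹ = g * y * g⁻¹ * y⁻¹ := by
      rw [← htg g hg]
      group
    rw [h2] at e1'
    have h3 : t * (e2 * x2) * t⁻¹ = (t * e2 * t⁻¹ * e2⁻¹) * (e2 * x2) := by
      calc t * (e2 * x2) * t⁻¹ = (t * e2 * t⁻¹) * (t * x2 * t⁻¹) := by group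
        _ = (t * e2 * t⁻¹ * e2⁻¹) * (e2 * x2) := by rw [XAc t ht x2 hx2]; group
    have h4 : t * e2 * t⁻¹ * e2⁻¹ ∈ Le ⊔ X := by
      have h5 : t * e2 * t⁻¹ * e2⁻¹ = (g * y * g⁻¹ * y⁻¹) * (e2 * x2)⁻¹ := by
        rw [← e1', h3, mul_inv_cancel_right]
      rw [h5]
      exact mul_mem (hyQ g hg) (inv_mem (mul_mem (mem_sup_left he2) (mem_sup_right hx2)))
    have h5 := dis _ (LR t ht e2 he2) h4
    have h6 : e2 = 1 := by
      by_contra hne
      refine hte0 (reg t ht e2 he2 hne ?_ e0 he0)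
      calc t * e2 = (t * e2 * t⁻¹ * e2⁻¹) * (e2 * t) := by group
        _ = e2 * t := by rw [h5, one_mul]
    rw [h3, h5, one_mul, h6, one_mul] at e1'
    rw [← e1']
    exact hx2
  · -- β ≠ 1
    exfalso
    push Not at hb
    obtain ⟨x0, hx0, hx0'⟩ := hb
    have hx0A := (mem0.1 hx0).1
    have k0 : ∀ x ∈ A0, ∃ e ∈ Le, ∃ ξ ∈ X, x * y * x⁻¹ * y⁻¹ = e * ξ := fun x hx =>
      hLX _ (hyQ x (AQ x (mem0.1 hx).1 (mem0.1 hx).2))
    -- the elements of `A₀` centralise `Le X`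
    have c0 : ∀ x ∈ A0, ∀ m ∈ Le ⊔ X, x * m * x⁻¹ = m := by
      intro x hx m hm
      obtain ⟨e, he, ξ, hξ, rfl⟩ := hLX m hm
      have h1 : x * e * x⁻¹ = e := by rw [(mem0.1 hx).2 e he, mul_inv_cancel_right]
      calc x * (e * ξ) * x⁻¹ = (x * e * x⁻¹) * (x * ξ * x⁻¹) := by group
        _ = e * ξ := by rw [h1, XAc x (mem0.1 hx).1 ξ hξ]
    have m0 : ∀ x ∈ A0, x * y * x⁻¹ * y⁻¹ ∈ Le ⊔ X := fun x hx => hyQ x (AQ x (mem0.1 hx).1 (mem0.1 hx).2)
    -- the product formula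
    have hprod : ∀ a ∈ A0, ∀ b ∈ A0, a * b * y * (a * b)⁻¹ * y⁻¹ = (b * y * b⁻¹ * y⁻¹) * (a * y * a⁻¹ * y⁻¹) := by
      intro a ha b hb
      calc a * b * y * (a * b)⁻¹ * y⁻¹ = a * (b * y * b⁻¹ * y⁻¹) * a⁻¹ * (a * y * a⁻¹ * y⁻¹) := by group
        _ = _ := by rw [c0 a ha _ (m0 b hb)]
    -- `K = ker β`
    let K : Subgroup G :=
      { carrier := {x | x ∈ A0 ∧ x * y * x⁻¹ * y⁻¹ ∈ X}
        one_mem' := ⟨one_mem _, by simp⟩
        mul_mem' := by
          rintro a b ⟨ha, ha'⟩ ⟨hb, hb'⟩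
          refine ⟨mul_mem ha hb, ?_⟩
          rw [hprod a ha b hb]
          exact mul_mem hb' ha'
        inv_mem' := by
          rintro a ⟨ha, ha'⟩
          have h2 : a⁻¹ = a := inv_eq_of_mul_eq_one_right (by rw [← pow_two]; exact hA.sq a (mem0.1 ha).1)
          rw [h2]
          exact ⟨ha, ha'⟩ }
    have memK : ∀ {x : G}, x ∈ K ↔ x ∈ A0 ∧ x * y * x⁻¹ * y⁻¹ ∈ X := Iff.rfl
    have KA0 : K ≤ A0 := fun x hx => (memK.1 hx).1
    have KA : K ≤ A := KA0.trans inf_le_left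
    -- `|A₀ : K| ≤ |Le|`
    have cK0 := card_quot KA0
    have cK1 : Nat.card (A0 ⧸ K.subgroupOf A0) ≤ Nat.card Le := by
      classical
      choose! ε hε ξ hξ hk using k0
      refine card_quot_le ε hε fun a ha b hb hab => ?_
      refine memK.2 ⟨mul_mem (inv_mem ha) hb, ?_⟩
      have h2 : a⁻¹ = a := inv_eq_of_mul_eq_one_right (by rw [← pow_two]; exact hA.sq a (mem0.1 ha).1)
      rw [h2, hprod a ha b hb, hk a ha, hk b hb, hab]
      have h3 : ε b * ξ b * (ε b * ξ a) = ξ b * ξ a := by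
        have h4 : ε b * ε b = 1 := by rw [← pow_two]; exact Esq _ (LE (hε b hb))
        calc ε b * ξ b * (ε b * ξ a) = (ε b * ξ b) * ε b * ξ a := by group
          _ = (ξ b * ε b) * ε b * ξ a := by rw [hEc _ (LE (hε b hb)) _ (XE (hξ b hb))]
          _ = ξ b * (ε b * ε b) * ξ a := by group
          _ = ξ b * ξ a := by rw [h4, mul_one]
      rw [h3]
      exact mul_mem (hξ b hb) (hξ a ha)
    have cK : Nat.card A0 ≤ Nat.card Le * Nat.card K := by
      rw [cK0]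
      exact Nat.mul_le_mul_right _ cK1
    have cF := cnt (E := E) hA KA
    rw [← hH] at cF
    set M1 : Subgroup G := E ⊓ centralizer (A0 : Set G) with hM1
    set L : Subgroup G := E ⊓ centralizer (K : Set G) with hL
    have HM : H ≤ M1 := le_inf inf_le_left (inf_le_right.trans (centralizer_le inf_le_left))
    have ML : M1 ≤ L := le_inf inf_le_left (inf_le_right.trans (centralizer_le KA0))
    have LeM : Le ≤ M1 := fun e he => ⟨LE he, mem_centralizer_iff.2 fun a ha => (mem0.1 ha).2 e he⟩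
    have cM : Nat.card Le * Nat.card H ≤ Nat.card M1 := by
      rw [cLH]
      exact Subgroup.card_le_of_le (sup_le LeM HM)
    -- `y_t = [t, y]`
    have comt : ∀ s ∈ A, ∀ x ∈ A, x * (s * y * s⁻¹ * y⁻¹) * x⁻¹ =
        s * (x * y * x⁻¹ * y⁻¹) * s⁻¹ * (x * y * x⁻¹ * y⁻¹)⁻¹ * (s * y * s⁻¹ * y⁻¹) := by
      intro s hs x hx
      have h1 : x * s = s * x := hAc x hx s hs
      have h2 : x * (s * y * s⁻¹) * x⁻¹ = s * (x * y * x⁻¹) * s⁻¹ := by
        calc x * (s * y * s⁻¹) * x⁻¹ = (x * s) * y * (x * s)⁻¹ := by group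
          _ = s * (x * y * x⁻¹) * s⁻¹ := by rw [h1]; group
      have ytE : s * y * s⁻¹ * y⁻¹ ∈ E := kE s hs
      set yt : G := s * y * s⁻¹ * y⁻¹ with hyt
      set k : G := x * y * x⁻¹ * y⁻¹ with hk
      have h3 : x * y * x⁻¹ = k * y := by rw [hk]; group
      have h4 : x * yt * x⁻¹ = s * (x * y * x⁻¹) * s⁻¹ * (x * y * x⁻¹)⁻¹ := by
        rw [← h2, hyt]
        group
      rw [h4, h3]
      have h5 : k⁻¹ * yt = yt * k⁻¹ := hEc _ (inv_mem (kE x hx)) _ ytE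
      calc s * (k * y) * s⁻¹ * (k * y)⁻¹ = s * k * s⁻¹ * (s * y * s⁻¹ * y⁻¹) * k⁻¹ := by group
        _ = s * k * s⁻¹ * (yt * k⁻¹) := by rw [← hyt]; group
        _ = s * k * s⁻¹ * k⁻¹ * yt := by rw [← h5]; group
    -- `y_s ∈ L`
    have ytL : ∀ s ∈ A, s * y * s⁻¹ * y⁻¹ ∈ L := by
      intro s hs
      refine ⟨kE s hs, mem_centralizer_iff.2 fun x hx => ?_⟩
      have h1 := comt s hs x (KA hx)
      rw [XAc s hs _ (memK.1 hx).2, mul_inv_cancel, one_mul] at h1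
      calc x * (s * y * s⁻¹ * y⁻¹) = x * (s * y * s⁻¹ * y⁻¹) * x⁻¹ * x := by group
        _ = (s * y * s⁻¹ * y⁻¹) * x := by rw [h1]
    obtain ⟨ex, hex, ξx, hξx, hkx⟩ := k0 x0 hx0
    have exne : ex ≠ 1 := by
      rintro rfl
      rw [one_mul] at hkx
      exact hx0' (hkx ▸ hξx)
    -- `x₀ y_s x₀⁻¹ y_s⁻¹ = [s, e_x]`
    have comx : ∀ s ∈ A, x0 * (s * y * s⁻¹ * y⁻¹) * x0⁻¹ = s * ex * s⁻¹ * ex⁻¹ * (s * y * s⁻¹ * y⁻¹) := by
      intro s hs
      rw [comt s hs x0 hx0A, hkx, hLXc s hs ex hex ξx hξx]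
    have hcos := card_cosets (A := A) (A0 := A0) (L := L) (M := M1) (fun s => s * y * s⁻¹ * y⁻¹) ytL ML (by
      intro a ha b hb m hm hab
      refine sep ex hex exne a ha b hb ?_
      have h1 : x0 * m * x0⁻¹ = m := by
        rw [mem_centralizer_iff.1 hm.2 x0 hx0, mul_inv_cancel_right]
      have h2 := comx a ha
      have h3 := comx b hb
      have hab' : a * y * a⁻¹ * y⁻¹ = (b * y * b⁻¹ * y⁻¹) * m := hab
      rw [hab'] at h2
      have h4 : x0 * ((b * y * b⁻¹ * y⁻¹) * m) * x0⁻¹ =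
          b * ex * b⁻¹ * ex⁻¹ * ((b * y * b⁻¹ * y⁻¹) * m) := by
        calc x0 * ((b * y * b⁻¹ * y⁻¹) * m) * x0⁻¹ =
            (x0 * (b * y * b⁻¹ * y⁻¹) * x0⁻¹) * (x0 * m * x0⁻¹) := by group
          _ = b * ex * b⁻¹ * ex⁻¹ * (b * y * b⁻¹ * y⁻¹) * m := by rw [h3, h1]
          _ = _ := by group
      rw [h4] at h2
      exact (mul_right_cancel (mul_right_cancel h2)).symm)
    obtain ⟨hc1, hc2⟩ := hcos
    set m : ℕ := Nat.card (A ⧸ A0.subgroupOf A) with hm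
    have hle : K ⊔ L ≤ O := sup_le (KA.trans hA.le) (inf_le_left.trans EO)
    have hsq : ∀ a ∈ K ⊔ L, a ^ 2 = 1 :=
      sq_sup (fun a ha => hA.sq a (KA ha)) (fun a ha => Esq a ha.1) (comm_symm inf_le_right)
    have hmax := hA.max _ hle hsq
    have hMx : Mx O (K ⊔ L) := by
      refine hA.of_card hle hsq ?_
      apply Nat.le_of_mul_le_mul_right _ pH
      calc Nat.card A * Nat.card H = m * Nat.card A0 * Nat.card H := by rw [cA]
        _ ≤ m * (Nat.card Le * Nat.card K) * Nat.card H :=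
            Nat.mul_le_mul_right _ (Nat.mul_le_mul_left _ cK)
        _ = Nat.card K * (m * (Nat.card Le * Nat.card H)) := by ring
        _ ≤ Nat.card K * (m * Nat.card M1) := Nat.mul_le_mul_left _ (Nat.mul_le_mul_left _ cM)
        _ ≤ Nat.card K * Nat.card L := Nat.mul_le_mul_left _ hc1
        _ ≤ _ := cF
    have hLcard : Nat.card L ≤ m * Nat.card M1 := by
      have pK : 0 < Nat.card K := Nat.card_pos
      apply Nat.le_of_mul_le_mul_left _ pK
      calc Nat.card K * Nat.card L ≤ Nat.card (K ⊔ L : Subgroup G) * Nat.card H := cF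
        _ ≤ Nat.card A * Nat.card H := Nat.mul_le_mul_right _ hmax
        _ = m * Nat.card A0 * Nat.card H := by rw [cA]
        _ ≤ m * (Nat.card Le * Nat.card K) * Nat.card H :=
            Nat.mul_le_mul_right _ (Nat.mul_le_mul_left _ cK)
        _ = Nat.card K * (m * (Nat.card Le * Nat.card H)) := by ring
        _ ≤ Nat.card K * (m * Nat.card M1) := Nat.mul_le_mul_left _ (Nat.mul_le_mul_left _ cM)
    have hyL : y ∈ L := use K KA (fun f hf => (memK.1 hf).2) hMx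
    obtain ⟨s, hs, n, hn, hys⟩ := hc2 hLcard y hyL
    -- `[x₀, y] = [s, e_x] ∈ R`
    have h1 : x0 * n * x0⁻¹ = n := by
      rw [mem_centralizer_iff.1 hn.2 x0 hx0, mul_inv_cancel_right]
    have hys' : y = (s * y * s⁻¹ * y⁻¹) * n := hys
    have h2 : x0 * y * x0⁻¹ * y⁻¹ = s * ex * s⁻¹ * ex⁻¹ := by
      have h3 : x0 * y * x0⁻¹ = s * ex * s⁻¹ * ex⁻¹ * y := by
        calc x0 * y * x0⁻¹ = x0 * ((s * y * s⁻¹ * y⁻¹) * n) * x0⁻¹ := by rw [← hys']
          _ = (x0 * (s * y * s⁻¹ * y⁻¹) * x0⁻¹) * (x0 * n * x0⁻¹) := by group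
          _ = s * ex * s⁻¹ * ex⁻¹ * ((s * y * s⁻¹ * y⁻¹) * n) := by rw [comx s hs, h1]; group
          _ = s * ex * s⁻¹ * ex⁻¹ * y := by rw [← hys']
      rw [h3, mul_inv_cancel_right]
    have h3 := dis _ (LR s hs ex hex) (h2 ▸ m0 x0 hx0)
    rw [h3] at h2
    exact hx0' (h2 ▸ one_mem _)

end Cfsg.Agent.Omega.NOThreeL.RWide.ZJQ

end
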